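import Groth.Agent.AntiAffLib.Image
import Groth.Agent.MonoQuotLib.Orbit
import Groth.Prelude

/-!
# Descent of factorizations, and kernels by test points
-/

set_option autoImplicit false
set_option linter.style.haveILetI false
set_option backward.isDefEq.respectTransparency false

universe u

open CategoryTheory CategoryTheory.Limits MonoidalCategory CartesianMonoidalCategory AlgebraicGeometry
open scoped MonObj

noncomputable section

namespace AntiAffLib

variable {k : Type u} [Field k]

theorem fppf_fst {X Y Z : Over (Spec (CommRingCat.of k))} (f : X ⟶ Z) (g : Y ⟶ Z) [Surjective g.left] [Flat g.left]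
    [LocallyOfFinitePresentation g.left] :
    Surjective (pullback.fst f g).left ∧ Flat (pullback.fst f g).left ∧
      LocallyOfFinitePresentation (pullback.fst f g).left :=
  ⟨MorphismProperty.of_isPullback (P := @Surjective) ((IsPullback.of_hasPullback f g).map (Over.forget _)).flip ‹_›,
    MorphismProperty.of_isPullback (P := @Flat) ((IsPullback.of_hasPullback f g).map (Over.forget _)).flip ‹_›,
    MorphismProperty.of_isPullback (P := @LocallyOfFinitePresentation)
      ((IsPullback.of_hasPullback f g).map (Over.forget _)).flip ‹_›⟩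

/-- A factorization through a monomorphism which exists after an fppf cover exists. -/
theorem exists_factor_of_cover {T' T H G : Over (Spec (CommRingCat.of k))} (t : T' ⟶ T) [Surjective t.left]
    [Flat t.left] [LocallyOfFinitePresentation t.left] (i : H ⟶ G) [Mono i] (g : T ⟶ G) (l : T' ⟶ H)
    (e : l ≫ i = t ≫ g) : ∃ y : T ⟶ H, y ≫ i = g := by
  obtain ⟨y, hy⟩ := Groth.Agent.MonoQuot.exists_desc_over t l fun S a b h => by
    rw [← cancel_mono i, Category.assoc, Category.assoc, e, reassoc_of% h]
  haveI := Groth.Agent.MonoQuot.epi_over t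
  exact ⟨y, by rw [← cancel_epi t, reassoc_of% hy, e]⟩

/-- Kernels are detected on points. -/
theorem isKernel_of_forall {N G Q : Over (Spec (CommRingCat.of k))} [GrpObj Q] (i : N ⟶ G) [Mono i] (q : G ⟶ Q)
    (h1 : i ≫ q = 1) (h2 : ∀ (T : Over (Spec (CommRingCat.of k))) (g : T ⟶ G), g ≫ q = 1 → ∃ l : T ⟶ N, l ≫ i = g) :
    AlgGrp.IsKernel i q := by
  have h : ∀ c : PullbackCone q (η[Q] : 𝟙_ (Over (Spec (CommRingCat.of k))) ⟶ Q), ∃ l : c.pt ⟶ N, l ≫ i = c.fst :=
    fun c => h2 _ c.fst (by rw [c.condition, Hom.one_def, toUnit_unique c.snd (toUnit _)])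
  refine IsPullback.of_isLimit' ⟨by rw [h1, Hom.one_def]⟩ (PullbackCone.IsLimit.mk _
    (fun c => (h c).choose) (fun c => (h c).choose_spec)
    (fun c => toUnit_unique _ _) (fun c m hm₁ _ => ?_))
  rw [← cancel_mono i, hm₁]
  exact (h c).choose_spec.symm

theorem exists_lift_kernel {N G Q : Over (Spec (CommRingCat.of k))} [GrpObj Q] {i : N ⟶ G} {q : G ⟶ Q}
    (h : AlgGrp.IsKernel i q) {T : Over (Spec (CommRingCat.of k))} (g : T ⟶ G) (hg : g ≫ q = 1) :
    ∃ l : T ⟶ N, l ≫ i = g :=
  ⟨h.lift g (toUnit _) (by rw [hg, Hom.one_def]), h.lift_fst _ _ _⟩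

theorem kernel_comp {N G Q : Over (Spec (CommRingCat.of k))} [GrpObj Q] {i : N ⟶ G} {q : G ⟶ Q}
    (h : AlgGrp.IsKernel i q) : i ≫ q = 1 := by rw [h.w, Hom.one_def]

end AntiAffLib
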