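import Groth.Agent.AntiAffLib.Kernel
import Groth.Agent.MonoQuotLib.Orbit
import Groth.Prelude

/-!
# Criteria for anti-affineness
-/

set_option autoImplicit false
set_option linter.style.haveILetI false
set_option backward.isDefEq.respectTransparency false

universe u

open CategoryTheory CategoryTheory.Limits MonoidalCategory CartesianMonoidalCategory AlgebraicGeometry
open scoped MonObj

noncomputable section

namespace AntiAffLib

variable {k : Type u} [Field k]

/-- An object whose morphism to the spectrum of its functions is constant has only constant functions. -/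
theorem antiAff_of_const {X : Over (Spec (CommRingCat.of k))} [Nonempty X.left] (c : 𝟙_ _ ⟶ hull X)
    (h : toHull X = toUnit X ≫ c) : IsΓIso (toUnit X) := by
  have := (isΓIso_toHull X).iso
  rw [h, Over.comp_left, Scheme.Hom.comp_appTop] at this
  refine ⟨?_⟩
  haveI : Mono (toUnit X).left.appTop := by
    refine ConcreteCategory.mono_of_injective _ ?_
    let e := (Scheme.ΓSpecIso (CommRingCat.of k)).commRingCatIsoToRingEquiv
    letI : Field Γ(Spec (CommRingCat.of k), ⊤) := (e.toMulEquiv.isField (Field.toIsField k)).toField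
    haveI : Nonempty ↥(⊤ : X.left.Opens).toScheme := ⟨⟨Classical.arbitrary _, trivial⟩⟩
    haveI : Nontrivial Γ(X.left, ⊤) := Scheme.component_nontrivial _ _
    exact RingHom.injective (R := Γ(Spec (CommRingCat.of k), ⊤)) (S := Γ(X.left, ⊤)) (toUnit X).left.appTop.hom
  haveI := IsSplitEpi.mk' (f := (toUnit X).left.appTop) ⟨inv (c.left.appTop ≫ (toUnit X).left.appTop) ≫ c.left.appTop,
    by rw [Category.assoc, IsIso.inv_hom_id]⟩
  exact isIso_of_mono_of_isSplitEpi _

theorem toHull_const {X : Over (Spec (CommRingCat.of k))} [IsΓIso (toUnit X)] (x : 𝟙_ _ ⟶ X) :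
    toHull X = toUnit X ≫ x ≫ toHull X := eq_const _ x

/-- Anti-affineness passes to retracts. -/
theorem antiAff_of_retract {X Y : Over (Spec (CommRingCat.of k))} [IsΓIso (toUnit X)] [Nonempty Y.left]
    (r : X ⟶ Y) (s : Y ⟶ X) (h : s ≫ r = 𝟙 Y) (x : 𝟙_ _ ⟶ X) : IsΓIso (toUnit Y) := by
  refine antiAff_of_const (x ≫ r ≫ toHull Y) ?_
  have := congrArg (s ≫ ·) (eq_const (r ≫ toHull Y) x)
  simp only [reassoc_of% h] at this
  rwa [← Category.assoc s (toUnit X), toUnit_unique (s ≫ toUnit X) (toUnit Y)] at this

/-- Anti-affineness passes to faithfully flat images. -/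
theorem antiAff_of_fppf {X Y : Over (Spec (CommRingCat.of k))} [IsΓIso (toUnit X)] (r : X ⟶ Y) [Flat r.left]
    [Surjective r.left] [LocallyOfFinitePresentation r.left] (x : 𝟙_ _ ⟶ X) : IsΓIso (toUnit Y) := by
  haveI : Nonempty Y.left := ⟨(x ≫ r).left (IsLocalRing.closedPoint k)⟩
  haveI := Groth.Agent.MonoQuot.epi_over r
  refine antiAff_of_const (x ≫ r ≫ toHull Y) ?_
  rw [← cancel_epi r, ← Category.assoc r (toUnit Y), toUnit_unique (r ≫ toUnit Y) (toUnit X)]
  exact eq_const (r ≫ toHull Y) x

/-- A morphism from an anti-affine group killing the unit into an affine one is trivial. -/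
theorem comp_eq_one {N H : Over (Spec (CommRingCat.of k))} [GrpObj N] [GrpObj H] [IsAffine H.left]
    [IsΓIso (toUnit N)] (f : N ⟶ H) (hf : η[N] ≫ f = η[H]) : f = 1 := by
  rw [eq_const f η[N], hf, Hom.one_def]

end AntiAffLib
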