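import Groth.Agent.AntiAffLib.AffineQuot
import Groth.Agent.AntiAffLib.Criteria
import Groth.Agent.GrpHomLib.FlatImage
import Groth.Prelude

/-!
# The anti-affine part of a quotient
-/

set_option autoImplicit false
set_option linter.style.haveILetI false
set_option backward.isDefEq.respectTransparency false
set_option maxHeartbeats 1600000

universe u

open CategoryTheory CategoryTheory.Limits MonoidalCategory CartesianMonoidalCategory AlgebraicGeometry
open scoped MonObj

noncomputable section

namespace AntiAffLib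

attribute [-instance] CategoryTheory.Hom.commGroup

variable {k : Type u} [Field k]

/-- A surjective homomorphism to a reduced algebraic group is faithfully flat. -/
theorem flat_of_surjective {G H : Over (Spec (CommRingCat.of k))} [GrpObj G] [GrpObj H]
    [LocallyOfFiniteType G.hom] [QuasiCompact G.hom] [LocallyOfFiniteType H.hom] [IsReduced H.left]
    (u : G ⟶ H) [IsMonHom u] [Surjective u.left] : Flat u.left := by
  haveI : Flat G.hom := Groth.Agent.GrpField.flat_field _
  haveI : IsSeparated H.hom := Groth.Agent.GrpField.isSeparated_grp (G := H)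
  haveI : QuasiCompact u.left := by
    haveI : QuasiCompact (u.left ≫ H.hom) := by rw [Over.w u]; infer_instance
    exact QuasiCompact.of_comp u.left H.hom
  obtain ⟨C, _, p, i, -, -, hpi, hpf, -, -, hi⟩ :=
    Groth.Agent.GrpHom.exists_fppf_image u (Groth.Agent.GrpField.flat_field _)
  haveI := hi; haveI := hpf
  haveI : Surjective i.left := by
    refine ⟨fun y => ?_⟩
    obtain ⟨x, hx⟩ := u.left.surjective y
    exact ⟨p.left x, by rw [← hx, ← hpi]; rfl⟩
  haveI : IsIso i.left := isIso_of_isClosedImmersion_of_surjective i.left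
  rw [← hpi, Over.comp_left]
  infer_instance

theorem lfp_of_lft {G H : Over (Spec (CommRingCat.of k))} [LocallyOfFiniteType G.hom]
    [LocallyOfFiniteType H.hom] (u : G ⟶ H) : LocallyOfFinitePresentation u.left := by
  haveI : IsLocallyNoetherian H.left := LocallyOfFiniteType.isLocallyNoetherian H.hom
  haveI : LocallyOfFiniteType (u.left ≫ H.hom) := by rw [Over.w u]; infer_instance
  haveI := locallyOfFiniteType_of_comp u.left H.hom
  exact LocallyOfFinitePresentation.iff_locallyOfFiniteType.2 inferInstance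

theorem surjective_fst {X Y Z : Over (Spec (CommRingCat.of k))} (f : X ⟶ Z) (g : Y ⟶ Z) [Surjective g.left] :
    Surjective (pullback.fst f g).left :=
  MorphismProperty.of_isPullback (P := @Surjective) ((IsPullback.of_hasPullback f g).map (Over.forget _)).flip ‹_›

/-- An anti-affine group mapping to a quotient is topologically covered by the kernel of the affinization. -/
theorem range_subset_ker {G N Q M' : Over (Spec (CommRingCat.of k))} [GrpObj G] [LocallyOfFiniteType G.hom]
    [QuasiCompact G.hom] [GrpObj N] (i : N ⟶ G) [IsMonHom i] [IsClosedImmersion i.left]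
    (hN : AlgGrp.IsNormalHom i) [GrpObj Q] [LocallyOfFiniteType Q.hom] (q : G ⟶ Q) [IsMonHom q]
    [Surjective q.left] [Flat q.left] (hq : AlgGrp.IsKernel i q)
    [GrpObj M'] [IsΓIso (toUnit M')] (j' : M' ⟶ Q) (hj' : η[M'] ≫ j' = η[Q]) :
    Set.range ⇑j'.left.base ⊆ Set.range ⇑(kerIncl G ≫ q).left.base := by
  haveI : Flat N.hom := Groth.Agent.GrpField.flat_field _
  haveI : LocallyOfFiniteType N.hom := by rw [← Over.w i]; infer_instance
  haveI : QuasiCompact N.hom := by rw [← Over.w i]; infer_instance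
  have hiq : i ≫ q = 1 := by rw [hq.w, Hom.one_def]
  let u : N ⟶ hull G := i ≫ toHull G
  haveI : QuasiCompact u.left := by
    haveI : QuasiCompact (u.left ≫ (hull G).hom) := by rw [Over.w u]; infer_instance
    exact QuasiCompact.of_comp u.left (hull G).hom
  obtain ⟨C, _, p, c, _, _, hpc, hpf, hps, hpl, hc⟩ :=
    Groth.Agent.GrpHom.exists_fppf_image u (Groth.Agent.GrpField.flat_field _)
  haveI := hpf; haveI := hps; haveI := hpl; haveI := hc
  haveI : Mono c := Over.mono_of_mono_left c
  -- the image is normal in the affinization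
  obtain ⟨f1, f2, f3⟩ := Groth.Agent.MonoQuot.fppf_tensor (toHull G) p
  haveI := f1; haveI := f2; haveI := f3
  haveI := Groth.Agent.MonoQuot.epi_over (toHull G ⊗ₘ p)
  let z : hull G ⊗ C ⟶ hull G := fst _ _ * (snd _ _ ≫ c) * (fst _ _)⁻¹
  obtain ⟨n', hn'⟩ := hN (G ⊗ N) (fst _ _) (snd _ _)
  have hz : (toHull G ⊗ₘ p) ≫ z = (n' ≫ p) ≫ c := by
    rw [Category.assoc, hpc]
    show _ = n' ≫ i ≫ toHull G
    rw [← Category.assoc n', ← hn']
    simp only [z, MonObj.comp_mul, GrpObj.comp_inv, MonObj.mul_comp, GrpObj.inv_comp, tensorHom_fst,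
      tensorHom_snd_assoc, Category.assoc, hpc, u]
  obtain ⟨z', hz'⟩ := Groth.Agent.MonoQuot.exists_desc_over (toHull G ⊗ₘ p) (n' ≫ p) fun T a b e => by
    rw [← cancel_mono c, Category.assoc a, Category.assoc b, ← hz, reassoc_of% e]
  have hzc : z' ≫ c = z := by rw [← cancel_epi (toHull G ⊗ₘ p), reassoc_of% hz', hz, Category.assoc]
  have hC : AlgGrp.IsNormalHom c := fun T g n => ⟨lift g n ≫ z', by
    rw [Category.assoc, hzc]
    simp only [z, MonObj.comp_mul, GrpObj.comp_inv, lift_fst, lift_snd_assoc]⟩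
  obtain ⟨P, _, π, _, _, hπ⟩ := exists_affine_kernel c hC
  -- the induced morphism on the quotient
  haveI := lfp_of_lft q
  haveI := Groth.Agent.MonoQuot.epi_over q
  obtain ⟨π', hπ'⟩ := Groth.Agent.MonoQuot.exists_desc_over q (toHull G ≫ π) fun T a b e => by
    have h1 : (a * b⁻¹) ≫ q = toUnit T ≫ η[Q] := by
      rw [MonObj.mul_comp, GrpObj.inv_comp, e, mul_inv_cancel, Hom.one_def]
    have h2 : (a * b⁻¹) ≫ toHull G ≫ π = 1 := by
      rw [← hq.lift_fst (a * b⁻¹) (toUnit T) h1, Category.assoc, ← Category.assoc i,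
        show (i ≫ toHull G) ≫ π = p ≫ c ≫ π by rw [← Category.assoc p, hpc],
        (hπ C c).2 ⟨𝟙 C, Category.id_comp c⟩, MonObj.comp_one, MonObj.comp_one]
    rwa [MonObj.mul_comp, GrpObj.inv_comp, mul_inv_eq_one] at h2
  have hjπ : j' ≫ π' = 1 := comp_eq_one _ (by
    rw [reassoc_of% hj', show (η[Q] : 𝟙_ (Over (Spec (CommRingCat.of k))) ⟶ Q) = η[G] ≫ q from
      (IsMonHom.one_hom q).symm, Category.assoc, hπ', IsMonHom.one_hom])
  -- lifting
  let T₁ := pullback j' q
  haveI := surjective_fst j' q
  obtain ⟨l, hl⟩ := (hπ T₁ (pullback.snd j' q ≫ toHull G)).1 (by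
    rw [Category.assoc, ← hπ', ← pullback.condition_assoc, hjπ, MonObj.comp_one])
  haveI := surjective_fst l p
  let t : pullback l p ⟶ T₁ := pullback.fst l p
  let m : pullback l p ⟶ G := (t ≫ pullback.snd j' q) * (pullback.snd l p ≫ i)⁻¹
  obtain ⟨m', hm'⟩ := exists_lift G m (by
    simp only [m, MonObj.mul_comp, GrpObj.inv_comp, Category.assoc, t]
    rw [← hl, pullback.condition_assoc, hpc, mul_inv_cancel])
  have e : m' ≫ kerIncl G ≫ q = (t ≫ pullback.fst j' q) ≫ j' := by
    rw [reassoc_of% hm', Category.assoc, pullback.condition]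
    simp only [m, MonObj.mul_comp, GrpObj.inv_comp, Category.assoc, hiq, MonObj.comp_one, inv_one, _root_.mul_one]
  haveI : Surjective (t ≫ pullback.fst j' q).left := by
    rw [Over.comp_left]; infer_instance
  rintro _ ⟨x, rfl⟩
  obtain ⟨y, rfl⟩ := (t ≫ pullback.fst j' q).left.surjective x
  exact ⟨m'.left y, congr($(e).left y)⟩

/-- An anti-affine group lands in the kernel of the affinization. -/
theorem exists_lift_ker {M G : Over (Spec (CommRingCat.of k))} [GrpObj M] [GrpObj G] [LocallyOfFiniteType G.hom]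
    [QuasiCompact G.hom] [IsΓIso (toUnit M)] (f : M ⟶ G) (hf : η[M] ≫ f = η[G]) :
    ∃ l : M ⟶ ker G, l ≫ kerIncl G = f :=
  exists_lift G f (comp_eq_one _ (by rw [reassoc_of% hf, IsMonHom.one_hom]))

end AntiAffLib
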