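import Groth.Agent.OrbitLib.ToAffineMain
import Groth.Agent.HopfFFLib.Normal.Main
import Groth.Agent.HopfFFLib.Stab.Observable
import Groth.Agent.S3018
import Groth.Prelude

/-!
# Faithfully flat images of affine algebraic groups are affine
-/

set_option autoImplicit false
set_option linter.style.haveILetI false
set_option backward.isDefEq.respectTransparency false
set_option maxHeartbeats 1600000

universe u

open CategoryTheory CategoryTheory.Limits MonoidalCategory CartesianMonoidalCategory AlgebraicGeometry CoactBr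
open scoped MonObj TensorProduct

noncomputable section

namespace AntiAffLib

attribute [-instance] CategoryTheory.Hom.commGroup

variable {k : Type u} [Field k]

/-- Every affine object is the spectrum of an algebra. -/
theorem exists_sp_iso (X : Over (Spec (CommRingCat.of k))) [IsAffine X.left] :
    ∃ (R : Type u) (_ : CommRing R) (_ : Algebra k R), Nonempty (sp k R ≅ X) := by
  obtain ⟨φ, hφ⟩ := Spec.map_surjective (X.left.isoSpec.inv ≫ X.hom)
  letI : Algebra k Γ(X.left, ⊤) := φ.hom.toAlgebra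
  exact ⟨Γ(X.left, ⊤), inferInstance, inferInstance, ⟨Over.isoMk X.left.isoSpec.symm hφ.symm⟩⟩

variable {A B : Type u} [CommRing A] [HopfAlgebra k A] [CommRing B] [HopfAlgebra k B]

/-- A homomorphism between spectra of Hopf algebras comes from a morphism of Hopf algebras. -/
theorem exists_bialgHom (f : sp k B ⟶ sp k A) [IsMonHom f] :
    ∃ φ : A →ₐc[k] B, f = pt (φ : A →ₐ[k] B) := by
  obtain ⟨φ, rfl⟩ := Groth.Agent.DiagRep.exists_pt f
  have hl : (Algebra.TensorProduct.lift (AlgHom.id k B) (AlgHom.id k B) fun _ _ => Commute.all _ _) =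
      Algebra.TensorProduct.lmul' (S := B) k := by ext <;> simp
  refine ⟨BialgHom.ofAlgHom φ ?_ ?_, rfl⟩
  · apply pt_injective
    have h1 : (1 : sp k k ⟶ sp k B) ≫ pt φ = 1 := MonObj.one_comp (pt φ)
    rw [one_eq_pt, one_eq_pt, ← pt_comp] at h1
    refine Eq.trans ?_ (h1.trans ?_)
    · congr 1
    · congr 1
  · apply pt_injective
    have h2 := MonObj.mul_comp
      (pt (Algebra.TensorProduct.includeLeft : B →ₐ[k] B ⊗[k] B)) (pt Algebra.TensorProduct.includeRight) (pt φ)
    rw [← pt_comp, ← pt_comp, pt_mul_pt, pt_mul_pt, ← pt_comp] at h2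
    refine Eq.trans ?_ (h2.symm.trans ?_)
    · congr 1
      refine congrArg (fun ψ : A ⊗[k] A →ₐ[k] B ⊗[k] B => ψ.comp (Bialgebra.comulAlgHom k A)) ?_
      ext a <;> simp
    · congr 1
      have e : (Algebra.TensorProduct.lift (Algebra.TensorProduct.includeLeft : B →ₐ[k] B ⊗[k] B)
          Algebra.TensorProduct.includeRight fun _ _ => Commute.all _ _) = AlgHom.id k _ := by ext <;> simp
      rw [e, AlgHom.id_comp]

/-- It is enough to test triviality on affine schemes. -/
theorem kill_of_affine {G P Q : Over (Spec (CommRingCat.of k))} [GrpObj G] [GrpObj P] [GrpObj Q] (π : G ⟶ P)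
    (p : G ⟶ Q) [IsAffine G.left] [IsSeparated P.hom]
    (h : ∀ (R : Type u) [CommRing R] [Algebra k R] (g : sp k R ⟶ G), g ≫ π = 1 → g ≫ p = 1)
    {T : Over (Spec (CommRingCat.of k))} (d : T ⟶ G) (hd : d ≫ π = 1) : d ≫ p = 1 := by
  let K := pullback π (η[P] : 𝟙_ (Over (Spec (CommRingCat.of k))) ⟶ P)
  let j : K ⟶ G := pullback.fst _ _
  haveI : IsClosedImmersion (η[P] : 𝟙_ (Over (Spec (CommRingCat.of k))) ⟶ P).left := by
    haveI : IsClosedImmersion ((η[P] : 𝟙_ (Over (Spec (CommRingCat.of k))) ⟶ P).left ≫ P.hom) := by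
      rw [Over.w]; exact inferInstanceAs (IsClosedImmersion (𝟙 (Spec (CommRingCat.of k))))
    exact IsClosedImmersion.of_comp _ P.hom
  haveI : IsClosedImmersion j.left := MorphismProperty.of_isPullback (P := @IsClosedImmersion)
    ((IsPullback.of_hasPullback π η[P]).map (Over.forget _)).flip ‹_›
  haveI : IsAffine K.left := isAffine_of_isAffineHom j.left
  obtain ⟨R, _, _, ⟨e⟩⟩ := exists_sp_iso K
  have hj : (e.hom ≫ j) ≫ p = 1 := h R _ (by
    rw [Category.assoc, pullback.condition, Hom.one_def, ← Category.assoc, toUnit_unique (e.hom ≫ _) (toUnit _)])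
  have hd' : d = (pullback.lift d (toUnit T) (by rw [hd, Hom.one_def]) ≫ e.inv) ≫ e.hom ≫ j := by
    rw [Category.assoc, e.inv_hom_id_assoc, pullback.lift_fst]
  rw [hd', Category.assoc, hj, MonObj.comp_one]

/-- The faithfully flat image of an affine algebraic group is affine. -/
theorem isAffine_of_surjective_hom {G Q : Over (Spec (CommRingCat.of k))} [GrpObj G] [GrpObj Q] [IsAffine G.left]
    [LocallyOfFiniteType G.hom] [LocallyOfFiniteType Q.hom] (p : G ⟶ Q) [IsMonHom p] [Flat p.left]
    [Surjective p.left] : IsAffine Q.left := by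
  haveI : IsSeparated Q.hom := Groth.Agent.GrpField.isSeparated_grp (G := Q)
  haveI : IsLocallyNoetherian Q.left := LocallyOfFiniteType.isLocallyNoetherian Q.hom
  obtain ⟨A, _, _, v, hv, hv'⟩ := OrbitLib.ToAffine.exists_sp G
  haveI := hv
  haveI : IsIso v.hom.left := inferInstanceAs (IsIso ((Over.forget _).map v.hom))
  let p' : sp k A ⟶ Q := v.hom ≫ p
  haveI : Flat p'.left := by rw [Over.comp_left]; infer_instance
  haveI : Surjective p'.left := by rw [Over.comp_left]; infer_instance
  haveI : LocallyOfFiniteType (sp k A).hom := by rw [← Over.w v.hom]; infer_instance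
  haveI : LocallyOfFinitePresentation p'.left := by
    haveI : LocallyOfFiniteType (p'.left ≫ Q.hom) := by rw [Over.w p']; infer_instance
    haveI := locallyOfFiniteType_of_comp p'.left Q.hom
    exact LocallyOfFinitePresentation.iff_locallyOfFiniteType.2 inferInstance
  haveI : IsAffine (sp k A).left := inferInstanceAs (IsAffine (Spec (CommRingCat.of A)))
  haveI : QuasiCompact (sp k A).hom := by
    haveI : IsAffineHom (sp k A).hom := isAffineHom_of_isAffine _
    infer_instance
  -- the kernel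
  let N := pullback p' (η[Q] : 𝟙_ (Over (Spec (CommRingCat.of k))) ⟶ Q)
  let j : N ⟶ sp k A := pullback.fst _ _
  haveI : IsClosedImmersion j.left := OrbitLib.ToAffine.isClosedImmersion_ker p'
  haveI : Mono j := Over.mono_of_mono_left j
  have hjp : j ≫ p' = 1 := by
    rw [pullback.condition, Hom.one_def, toUnit_unique (pullback.snd p' η[Q]) (toUnit N)]
  have hl : ∀ {T : Over (Spec (CommRingCat.of k))} (g : T ⟶ sp k A), g ≫ p' = 1 → ∃ l : T ⟶ N, l ≫ j = g :=
    fun g hg => ⟨pullback.lift g (toUnit _) (by rw [hg, Hom.one_def]), pullback.lift_fst _ _ _⟩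
  obtain ⟨_, _⟩ := Groth.Agent.SubDesc.exists_grpObj_of_mono j
    (hl _ (by rw [MonObj.mul_comp, Category.assoc, Category.assoc, hjp, MonObj.comp_one, MonObj.comp_one,
      _root_.one_mul]))
    (hl 1 (by rw [MonObj.one_comp]))
    (hl _ (by rw [GrpObj.inv_comp, hjp, inv_one]))
  haveI : IsAffine N.left := isAffine_of_isAffineHom j.left
  obtain ⟨C, _, _, w, hw, hw'⟩ := OrbitLib.ToAffine.exists_sp N
  haveI := hw
  obtain ⟨φ, hφ⟩ := exists_bialgHom (w.hom ≫ j)
  have hφs : Function.Surjective φ := by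
    haveI : IsIso w.hom.left := inferInstanceAs (IsIso ((Over.forget _).map w.hom))
    haveI hci : IsClosedImmersion (w.hom ≫ j).left := by rw [Over.comp_left]; infer_instance
    rw [hφ] at hci
    haveI : IsClosedImmersion (Spec.map (CommRingCat.ofHom (φ : A →ₐ[k] C).toRingHom)) := hci
    obtain ⟨-, hs⟩ := IsClosedImmersion.isAffine_surjective_of_isAffine
      (Spec.map (CommRingCat.ofHom (φ : A →ₐ[k] C).toRingHom))
    intro z
    obtain ⟨a, ha⟩ := hs ((Scheme.ΓSpecIso (CommRingCat.of C)).inv z)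
    refine ⟨(Scheme.ΓSpecIso (CommRingCat.of A)).hom a, ?_⟩
    have e := congr($(Scheme.ΓSpecIso_naturality (CommRingCat.ofHom (φ : A →ₐ[k] C).toRingHom)) a)
    exact e.symm.trans ((congrArg (Scheme.ΓSpecIso (CommRingCat.of C)).hom ha).trans
      (Iso.inv_hom_id_apply (Scheme.ΓSpecIso (CommRingCat.of C)) z))
  haveI hI : (RingHom.ker (φ : A →+* C)).IsHopfIdeal k := Groth.Agent.HopfFF.isHopfIdeal_ker φ hφs
  have hmem : ∀ {R : Type u} [CommRing R] [Algebra k R] (h : A →ₐ[k] R),
      (pt h ≫ p' = 1 ↔ ∀ a ∈ RingHom.ker (φ : A →+* C), h a = 0) := by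
    intro R _ _ h
    constructor
    · intro hh a ha
      obtain ⟨l, hl'⟩ := hl (pt h) hh
      obtain ⟨ψ, hψ⟩ := Groth.Agent.DiagRep.exists_pt (l ≫ w.inv)
      have : pt h = pt (ψ.comp (φ : A →ₐ[k] C)) := by
        rw [pt_comp, ← hφ, ← hψ, Category.assoc, w.inv_hom_id_assoc, hl']
      rw [pt_injective this, AlgHom.comp_apply, show (φ : A →ₐ[k] C) a = 0 from ha, map_zero]
    · intro hh
      let ψ : C →ₐ[k] R := AlgHom.liftOfSurjective (φ : A →ₐ[k] C) hφs h (fun a ha => hh a ha)
      have e : pt h = pt ψ ≫ w.hom ≫ j := by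
        rw [show w.hom ≫ j = pt (φ : A →ₐ[k] C) from hφ, ← pt_comp]
        congr 1
        exact (AlgHom.liftOfSurjective_comp _ _ _ _).symm
      rw [e, Category.assoc, Category.assoc, hjp, MonObj.comp_one, MonObj.comp_one]
  have hnormal : SGA3.IsNormalHopfIdeal k A (RingHom.ker (φ : A →+* C)) := by
    intro R _ _ g h hh
    refine (hmem _).1 ?_
    have e : pt (Dyn.conv3 k A g h (g.comp (HopfAlgebra.antipodeAlgHom k A))) = pt g * pt h * (pt g)⁻¹ := by
      rw [pt_inv, Groth.Agent.HopfFF.conv3_eq]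
      exact (map_mul Spec.mapMulEquiv _ _).trans (congrArg (· * _) (map_mul Spec.mapMulEquiv _ _))
    rw [e, MonObj.mul_comp, MonObj.mul_comp, GrpObj.inv_comp, (hmem h).2 hh, _root_.mul_one, mul_inv_cancel]
  obtain ⟨B, hB, -, hBI⟩ := Groth.Agent.S3018.result k A _ hnormal
  letI : HopfAlgebra k B := Groth.Agent.HopfFF.hopfAlgebra hB
  haveI : IsMonHom (pt B.val) :=
    Groth.Agent.DiagRep.isMonHom_pt _ rfl (AlgHom.ext fun b => Groth.Agent.HopfFF.map_δB hB b)
  haveI : IsAffine (sp k B).left := inferInstanceAs (IsAffine (Spec (CommRingCat.of B)))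
  obtain ⟨hπf, hπs, hBft⟩ := OrbitLib.ToAffine.flat_surjective_finiteType (sp k A) (sp k B) (pt B.val)
    (OrbitLib.ToAffine.ker_SpecMap_eq_bot _ Subtype.val_injective)
  haveI := hπf; haveI := hπs
  haveI : IsLocallyNoetherian (sp k B).left := LocallyOfFiniteType.isLocallyNoetherian (sp k B).hom
  haveI : LocallyOfFinitePresentation (pt B.val).left := by
    haveI : LocallyOfFiniteType ((pt B.val).left ≫ (sp k B).hom) := by rw [Over.w (pt B.val)]; infer_instance
    haveI := locallyOfFiniteType_of_comp (pt B.val).left (sp k B).hom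
    exact LocallyOfFinitePresentation.iff_locallyOfFiniteType.2 inferInstance
  haveI : IsSeparated (sp k B).hom := by
    haveI : IsAffineHom (sp k B).hom := isAffineHom_of_isAffine _
    infer_instance
  have h1 : ∀ (R : Type u) [CommRing R] [Algebra k R] (g : sp k R ⟶ sp k A),
      (g ≫ pt B.val = 1 ↔ g ≫ p' = 1) := by
    intro R _ _ g
    obtain ⟨h, rfl⟩ := Groth.Agent.DiagRep.exists_pt g
    rw [← pt_comp, one_eq_pt, (hmem h), hBI]
    constructor
    · intro he a ha
      have he' := AlgHom.congr_fun (pt_injective he)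
      induction ha using Submodule.span_induction with
      | mem x hx => exact (he' ⟨x, hx.1⟩).trans (show algebraMap k R _ = 0 from (congrArg _ hx.2).trans (map_zero _))
      | zero => exact map_zero h
      | add a b _ _ ha hb => rw [map_add, ha, hb, add_zero]
      | smul r a _ ha => rw [smul_eq_mul, map_mul, ha, mul_zero]
    · intro hh
      congr 1
      refine AlgHom.ext fun b => ?_
      have hx : (b : A) - algebraMap k A (CoalgebraStruct.counit (R := k) (b : A)) ∈ SGA3.augIdealSpan k A B :=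
        Ideal.subset_span ⟨B.sub_mem b.2 (B.algebraMap_mem _), by
          rw [map_sub, Bialgebra.counit_algebraMap, sub_self]⟩
      have := hh _ hx
      rw [map_sub, sub_eq_zero, AlgHom.commutes] at this
      exact this
  obtain ⟨y, hy⟩ := Groth.Agent.MonoQuot.exists_desc_over (pt B.val) p' (fun T a b hab => by
    have := kill_of_affine (pt B.val) p' (fun R _ _ g hg => (h1 R g).1 hg) (a * b⁻¹)
      (by rw [MonObj.mul_comp, GrpObj.inv_comp, hab, mul_inv_cancel])
    rwa [MonObj.mul_comp, GrpObj.inv_comp, mul_inv_eq_one] at this)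
  obtain ⟨y', hy'⟩ := Groth.Agent.MonoQuot.exists_desc_over p' (pt B.val) (fun T a b hab => by
    have := kill_of_affine p' (pt B.val) (fun R _ _ g hg => (h1 R g).2 hg) (a * b⁻¹)
      (by rw [MonObj.mul_comp, GrpObj.inv_comp, hab, mul_inv_cancel])
    rwa [MonObj.mul_comp, GrpObj.inv_comp, mul_inv_eq_one] at this)
  haveI := Groth.Agent.MonoQuot.epi_over p'
  haveI := Groth.Agent.MonoQuot.epi_over (pt B.val)
  haveI : IsIso y := ⟨y', by rw [← cancel_epi (pt B.val), ← Category.assoc, hy, hy', Category.comp_id],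
    by rw [← cancel_epi p', ← Category.assoc, hy', hy, Category.comp_id]⟩
  haveI : IsIso y.left := inferInstanceAs (IsIso ((Over.forget _).map y))
  exact IsAffine.of_isIso (inv y.left)

/-- A closed normal subgroup of an affine algebraic group is the kernel of a faithfully flat homomorphism to an
affine algebraic group. -/
theorem exists_affine_kernel' {G N₀ : Over (Spec (CommRingCat.of k))} [GrpObj G] [GrpObj N₀] [IsAffine G.left]
    [LocallyOfFiniteType G.hom] (i₀ : N₀ ⟶ G) [IsMonHom i₀] [IsClosedImmersion i₀.left]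
    (hn : AlgGrp.IsNormalHom i₀) :
    ∃ (P : Over (Spec (CommRingCat.of k))) (_ : GrpObj P) (π : G ⟶ P), IsAffine P.left ∧ IsMonHom π ∧
      (LocallyOfFiniteType P.hom ∧ Flat π.left ∧ Surjective π.left) ∧
      ∀ (T : Over (Spec (CommRingCat.of k))) (g : T ⟶ G), g ≫ π = 1 ↔ ∃ l : T ⟶ N₀, l ≫ i₀ = g := by
  obtain ⟨A, _, _, v, hv, hv'⟩ := OrbitLib.ToAffine.exists_sp G
  haveI := hv; haveI := hv'
  haveI : IsIso v.inv.left := inferInstanceAs (IsIso ((Over.forget _).map v.inv))
  haveI : IsAffine (sp k A).left := inferInstanceAs (IsAffine (Spec (CommRingCat.of A)))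
  haveI : IsSeparated (sp k A).hom := by
    haveI : IsAffineHom (sp k A).hom := isAffineHom_of_isAffine _
    infer_instance
  let j : N₀ ⟶ sp k A := i₀ ≫ v.inv
  haveI : IsClosedImmersion j.left := by rw [Over.comp_left]; infer_instance
  haveI : Mono j := Over.mono_of_mono_left j
  haveI : IsAffine N₀.left := isAffine_of_isAffineHom j.left
  obtain ⟨C, _, _, w, hw, hw'⟩ := OrbitLib.ToAffine.exists_sp N₀
  haveI := hw
  obtain ⟨φ, hφ⟩ := exists_bialgHom (w.hom ≫ j)
  have hφs : Function.Surjective φ := by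
    haveI : IsIso w.hom.left := inferInstanceAs (IsIso ((Over.forget _).map w.hom))
    haveI hci : IsClosedImmersion (w.hom ≫ j).left := by rw [Over.comp_left]; infer_instance
    rw [hφ] at hci
    haveI : IsClosedImmersion (Spec.map (CommRingCat.ofHom (φ : A →ₐ[k] C).toRingHom)) := hci
    obtain ⟨-, hs⟩ := IsClosedImmersion.isAffine_surjective_of_isAffine
      (Spec.map (CommRingCat.ofHom (φ : A →ₐ[k] C).toRingHom))
    intro z
    obtain ⟨a, ha⟩ := hs ((Scheme.ΓSpecIso (CommRingCat.of C)).inv z)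
    refine ⟨(Scheme.ΓSpecIso (CommRingCat.of A)).hom a, ?_⟩
    have e := congr($(Scheme.ΓSpecIso_naturality (CommRingCat.ofHom (φ : A →ₐ[k] C).toRingHom)) a)
    exact e.symm.trans ((congrArg (Scheme.ΓSpecIso (CommRingCat.of C)).hom ha).trans
      (Iso.inv_hom_id_apply (Scheme.ΓSpecIso (CommRingCat.of C)) z))
  haveI hI : (RingHom.ker (φ : A →+* C)).IsHopfIdeal k := Groth.Agent.HopfFF.isHopfIdeal_ker φ hφs
  have hmem : ∀ {R : Type u} [CommRing R] [Algebra k R] (h : A →ₐ[k] R),
      ((∃ l, l ≫ j = pt h) ↔ ∀ a ∈ RingHom.ker (φ : A →+* C), h a = 0) := by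
    intro R _ _ h
    constructor
    · rintro ⟨l, hl'⟩ a ha
      obtain ⟨ψ, hψ⟩ := Groth.Agent.DiagRep.exists_pt (l ≫ w.inv)
      have : pt h = pt (ψ.comp (φ : A →ₐ[k] C)) := by
        rw [pt_comp, ← hφ, ← hψ, Category.assoc, w.inv_hom_id_assoc, hl']
      rw [pt_injective this, AlgHom.comp_apply, show (φ : A →ₐ[k] C) a = 0 from ha, map_zero]
    · intro hh
      let ψ : C →ₐ[k] R := AlgHom.liftOfSurjective (φ : A →ₐ[k] C) hφs h (fun a ha => hh a ha)
      refine ⟨pt ψ ≫ w.hom, ?_⟩
      rw [Category.assoc, show w.hom ≫ j = pt (φ : A →ₐ[k] C) from hφ, ← pt_comp]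
      congr 1
      exact AlgHom.liftOfSurjective_comp _ _ _ _
  have hnormal : SGA3.IsNormalHopfIdeal k A (RingHom.ker (φ : A →+* C)) := by
    intro R _ _ g h hh
    refine (hmem _).1 ?_
    have e : pt (Dyn.conv3 k A g h (g.comp (HopfAlgebra.antipodeAlgHom k A))) = pt g * pt h * (pt g)⁻¹ := by
      rw [pt_inv, Groth.Agent.HopfFF.conv3_eq]
      exact (map_mul Spec.mapMulEquiv _ _).trans (congrArg (· * _) (map_mul Spec.mapMulEquiv _ _))
    obtain ⟨l, hl'⟩ := (hmem h).2 hh
    obtain ⟨n', hn'⟩ := hn _ (pt g ≫ v.hom) l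
    refine ⟨n', ?_⟩
    have hl'' : l ≫ i₀ = pt h ≫ v.hom := by
      rw [← hl', Category.assoc, show j ≫ v.hom = i₀ by rw [Category.assoc, v.inv_hom_id, Category.comp_id]]
    rw [hl''] at hn'
    rw [e, ← cancel_mono v.hom, Category.assoc, show j ≫ v.hom = i₀ by rw [Category.assoc, v.inv_hom_id, Category.comp_id],
      ← hn', MonObj.mul_comp, MonObj.mul_comp, GrpObj.inv_comp]
  obtain ⟨B, hB, -, hBI⟩ := Groth.Agent.S3018.result k A _ hnormal
  letI : HopfAlgebra k B := Groth.Agent.HopfFF.hopfAlgebra hB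
  haveI : IsMonHom (pt B.val) :=
    Groth.Agent.DiagRep.isMonHom_pt _ rfl (AlgHom.ext fun b => Groth.Agent.HopfFF.map_δB hB b)
  haveI : IsAffine (sp k B).left := inferInstanceAs (IsAffine (Spec (CommRingCat.of B)))
  haveI : IsSeparated (sp k B).hom := by
    haveI : IsAffineHom (sp k B).hom := isAffineHom_of_isAffine _
    infer_instance
  have h1 : ∀ (R : Type u) [CommRing R] [Algebra k R] (g : sp k R ⟶ sp k A),
      (g ≫ pt B.val = 1 ↔ ∃ l, l ≫ j = g) := by
    intro R _ _ g
    obtain ⟨h, rfl⟩ := Groth.Agent.DiagRep.exists_pt g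
    rw [← pt_comp, one_eq_pt, (hmem h), hBI]
    constructor
    · intro he a ha
      have he' := AlgHom.congr_fun (pt_injective he)
      induction ha using Submodule.span_induction with
      | mem x hx => exact (he' ⟨x, hx.1⟩).trans (show algebraMap k R _ = 0 from (congrArg _ hx.2).trans (map_zero _))
      | zero => exact map_zero h
      | add a b _ _ ha hb => rw [map_add, ha, hb, add_zero]
      | smul r a _ ha => rw [smul_eq_mul, map_mul, ha, mul_zero]
    · intro hh
      congr 1
      refine AlgHom.ext fun b => ?_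
      have hx : (b : A) - algebraMap k A (CoalgebraStruct.counit (R := k) (b : A)) ∈ SGA3.augIdealSpan k A B :=
        Ideal.subset_span ⟨B.sub_mem b.2 (B.algebraMap_mem _), by
          rw [map_sub, Bialgebra.counit_algebraMap, sub_self]⟩
      have := hh _ hx
      rw [map_sub, sub_eq_zero, AlgHom.commutes] at this
      exact this
  haveI : IsMonHom j := inferInstanceAs (IsMonHom (i₀ ≫ v.inv))
  haveI : IsIso v.hom.left := inferInstanceAs (IsIso ((Over.forget _).map v.hom))
  haveI : LocallyOfFiniteType (sp k A).hom := by rw [← Over.w v.hom]; infer_instance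
  haveI : QuasiCompact (sp k A).hom := by
    haveI : IsAffineHom (sp k A).hom := isAffineHom_of_isAffine _
    infer_instance
  obtain ⟨hπf, hπs, hBft⟩ := OrbitLib.ToAffine.flat_surjective_finiteType (sp k A) (sp k B) (pt B.val)
    (OrbitLib.ToAffine.ker_SpecMap_eq_bot _ Subtype.val_injective)
  haveI := hπf; haveI := hπs
  refine ⟨sp k B, inferInstance, v.inv ≫ pt B.val, inferInstance, inferInstance,
    ⟨hBft, by rw [Over.comp_left]; infer_instance, by rw [Over.comp_left]; infer_instance⟩,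
    fun T g => ⟨fun hg => ?_, ?_⟩⟩
  · let K := pullback (pt B.val) (η[sp k B] : 𝟙_ (Over (Spec (CommRingCat.of k))) ⟶ sp k B)
    haveI : IsClosedImmersion (η[sp k B] : 𝟙_ (Over (Spec (CommRingCat.of k))) ⟶ sp k B).left := by
      haveI : IsClosedImmersion ((η[sp k B] : 𝟙_ (Over (Spec (CommRingCat.of k))) ⟶ sp k B).left ≫ (sp k B).hom) := by
        rw [Over.w]; exact inferInstanceAs (IsClosedImmersion (𝟙 (Spec (CommRingCat.of k))))
      exact IsClosedImmersion.of_comp _ (sp k B).hom
    haveI : IsClosedImmersion (pullback.fst (pt B.val) η[sp k B]).left :=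
      MorphismProperty.of_isPullback (P := @IsClosedImmersion)
        ((IsPullback.of_hasPullback (pt B.val) η[sp k B]).map (Over.forget _)).flip ‹_›
    haveI : IsAffine K.left := isAffine_of_isAffineHom (pullback.fst (pt B.val) η[sp k B]).left
    obtain ⟨R, _, _, ⟨e⟩⟩ := exists_sp_iso K
    obtain ⟨l, hl⟩ := (h1 R (e.hom ≫ pullback.fst (pt B.val) η[sp k B])).1 (by
      rw [Category.assoc, pullback.condition, Hom.one_def, ← Category.assoc, toUnit_unique (e.hom ≫ _) (toUnit _)])
    refine ⟨(pullback.lift (g ≫ v.inv) (toUnit T) (by rw [Category.assoc, hg, Hom.one_def]) ≫ e.inv) ≫ l, ?_⟩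
    rw [← cancel_mono v.inv, Category.assoc, show i₀ ≫ v.inv = j from rfl, Category.assoc, hl, Category.assoc,
      e.inv_hom_id_assoc, pullback.lift_fst]
  · rintro ⟨l, rfl⟩
    obtain ⟨R, _, _, ⟨e⟩⟩ := exists_sp_iso N₀
    have h := (h1 R (e.hom ≫ j)).2 ⟨e.hom, rfl⟩
    have hj : j ≫ pt B.val = 1 := by rw [← cancel_epi e.hom, ← Category.assoc, h, MonObj.comp_one]
    rw [Category.assoc, show i₀ ≫ v.inv ≫ pt B.val = 1 by rw [← Category.assoc]; exact hj, MonObj.comp_one]

/-- A closed normal subgroup of an affine algebraic group is the kernel of a homomorphism to an affine group. -/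
theorem exists_affine_kernel {G N₀ : Over (Spec (CommRingCat.of k))} [GrpObj G] [GrpObj N₀] [IsAffine G.left]
    [LocallyOfFiniteType G.hom] (i₀ : N₀ ⟶ G) [IsMonHom i₀] [IsClosedImmersion i₀.left]
    (hn : AlgGrp.IsNormalHom i₀) :
    ∃ (P : Over (Spec (CommRingCat.of k))) (_ : GrpObj P) (π : G ⟶ P), IsAffine P.left ∧ IsMonHom π ∧
      ∀ (T : Over (Spec (CommRingCat.of k))) (g : T ⟶ G), g ≫ π = 1 ↔ ∃ l : T ⟶ N₀, l ≫ i₀ = g :=
  let ⟨P, hP, π, h1, h2, _, h4⟩ := exists_affine_kernel' i₀ hn
  ⟨P, hP, π, h1, h2, h4⟩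

end AntiAffLib
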