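import Groth.Agent.OrbitLib.ToAffineMain
import Groth.Agent.GrpFieldLib.Comps
import Groth.Prelude

/-!
# Morphisms inducing isomorphisms on global functions, and the affinization of an algebraic group
-/

set_option autoImplicit false
set_option linter.style.haveILetI false
set_option backward.isDefEq.respectTransparency false

universe u

open CategoryTheory CategoryTheory.Limits MonoidalCategory CartesianMonoidalCategory AlgebraicGeometry
open scoped MonObj

noncomputable section

namespace AntiAffLib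

variable {k : Type u} [Field k]


instance qc_tensor (X Y : (Over (Spec (CommRingCat.of k)))) [QuasiCompact X.hom] [QuasiCompact Y.hom] : QuasiCompact (X ⊗ Y).hom := by
  show QuasiCompact (pullback.fst X.hom Y.hom ≫ X.hom); infer_instance

instance qs_tensor (X Y : (Over (Spec (CommRingCat.of k)))) [QuasiSeparated X.hom] [QuasiSeparated Y.hom] : QuasiSeparated (X ⊗ Y).hom := by
  show QuasiSeparated (pullback.fst X.hom Y.hom ≫ X.hom); infer_instance

instance qc_unit : QuasiCompact (𝟙_ (Over (Spec (CommRingCat.of k)))).hom := inferInstanceAs (QuasiCompact (𝟙 _))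

instance qs_unit : QuasiSeparated (𝟙_ (Over (Spec (CommRingCat.of k)))).hom := inferInstanceAs (QuasiSeparated (𝟙 _))

instance affine_unit : IsAffine (𝟙_ (Over (Spec (CommRingCat.of k)))).left := inferInstanceAs (IsAffine (Spec (CommRingCat.of k)))

instance qc_affine (X : (Over (Spec (CommRingCat.of k)))) [IsAffine X.left] : QuasiCompact X.hom :=
  haveI : CompactSpace X.left := inferInstance
  quasiCompact_of_compactSpace _

instance qs_affine (X : (Over (Spec (CommRingCat.of k)))) [IsAffine X.left] : QuasiSeparated X.hom :=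
  haveI : IsAffineHom X.hom := isAffineHom_of_isAffine X.hom
  inferInstance

instance isAffine_tensor (X Y : (Over (Spec (CommRingCat.of k)))) [IsAffine X.left] [IsAffine Y.left] : IsAffine (X ⊗ Y).left :=
  inferInstanceAs (IsAffine (pullback X.hom Y.hom))

/-- The morphism induces an isomorphism on global functions. -/
class IsΓIso {X Y : (Over (Spec (CommRingCat.of k)))} (f : X ⟶ Y) : Prop where
  iso : IsIso f.left.appTop

instance isΓIso_of_isIso {X Y : (Over (Spec (CommRingCat.of k)))} (f : X ⟶ Y) [IsIso f] : IsΓIso f := by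
  haveI : IsIso f.left := inferInstanceAs (IsIso ((Over.forget _).map f))
  exact ⟨inferInstance⟩

theorem isΓIso_comp {X Y Z : (Over (Spec (CommRingCat.of k)))} (f : X ⟶ Y) (g : Y ⟶ Z) (hf : IsΓIso f) (hg : IsΓIso g) : IsΓIso (f ≫ g) := by
  haveI := hf.iso; haveI := hg.iso
  exact ⟨by rw [Over.comp_left, Scheme.Hom.comp_appTop]; infer_instance⟩

theorem isΓIso_of_comp {X Y Z : (Over (Spec (CommRingCat.of k)))} (f : X ⟶ Y) (g : Y ⟶ Z) (h : IsΓIso (f ≫ g)) (hf : IsΓIso f) : IsΓIso g := by
  haveI := h.iso; haveI := hf.iso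
  haveI : IsIso (g.left.appTop ≫ f.left.appTop) := by rw [← Scheme.Hom.comp_appTop, ← Over.comp_left]; infer_instance
  exact ⟨IsIso.of_isIso_comp_right g.left.appTop f.left.appTop⟩

theorem isΓIso_of_comp' {X Y Z : (Over (Spec (CommRingCat.of k)))} (f : X ⟶ Y) (g : Y ⟶ Z) (h : IsΓIso (f ≫ g)) (hg : IsΓIso g) : IsΓIso f := by
  haveI := h.iso; haveI := hg.iso
  haveI : IsIso (g.left.appTop ≫ f.left.appTop) := by rw [← Scheme.Hom.comp_appTop, ← Over.comp_left]; infer_instance
  exact ⟨IsIso.of_isIso_comp_left g.left.appTop f.left.appTop⟩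

/-- Morphisms into an affine scheme are determined on global functions. -/
theorem hom_ext {X Y Z : (Over (Spec (CommRingCat.of k)))} [IsAffine Z.left] (f : X ⟶ Y) [hf : IsΓIso f] {g g' : Y ⟶ Z}
    (h : f ≫ g = f ≫ g') : g = g' := by
  haveI := hf.iso
  refine Over.OverMorphism.ext (ext_of_isAffine ?_)
  rw [← cancel_mono f.left.appTop, ← Scheme.Hom.comp_appTop, ← Scheme.Hom.comp_appTop, ← Over.comp_left,
    ← Over.comp_left, h]

/-- Morphisms into an affine scheme extend along a morphism inducing an isomorphism on global functions. -/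
theorem exists_desc {X Y Z : (Over (Spec (CommRingCat.of k)))} [IsAffine Z.left] (f : X ⟶ Y) [hf : IsΓIso f] (h : X ⟶ Z) :
    ∃ g : Y ⟶ Z, f ≫ g = h := by
  haveI := hf.iso
  let g₀ : Y.left ⟶ Z.left := Y.left.toSpecΓ ≫ Spec.map (h.left.appTop ≫ inv f.left.appTop) ≫ Z.left.isoSpec.inv
  have e : f.left ≫ g₀ = h.left := by
    simp only [g₀]
    rw [Scheme.toSpecΓ_naturality_assoc, ← Spec.map_comp_assoc, Category.assoc, IsIso.inv_hom_id,
      Category.comp_id, ← Scheme.toSpecΓ_naturality_assoc, ← Scheme.isoSpec_hom, Iso.hom_inv_id, Category.comp_id]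
  have w : g₀ ≫ Z.hom = Y.hom := by
    refine ext_of_isAffine ?_
    rw [← cancel_mono f.left.appTop, ← Scheme.Hom.comp_appTop, ← Scheme.Hom.comp_appTop, ← Category.assoc, e,
      Over.w, Over.w]
  exact ⟨Over.homMk g₀ w, Over.OverMorphism.ext e⟩

/-- The extension along a morphism inducing an isomorphism on global functions. -/
def desc {X Y Z : (Over (Spec (CommRingCat.of k)))} [IsAffine Z.left] (f : X ⟶ Y) [IsΓIso f] (h : X ⟶ Z) : Y ⟶ Z := (exists_desc f h).choose

@[reassoc (attr := simp)]
theorem fac {X Y Z : (Over (Spec (CommRingCat.of k)))} [IsAffine Z.left] (f : X ⟶ Y) [IsΓIso f] (h : X ⟶ Z) : f ≫ desc f h = h :=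
  (exists_desc f h).choose_spec

theorem isPushout_appTop (X Y : (Over (Spec (CommRingCat.of k)))) [QuasiCompact X.hom] [QuasiSeparated X.hom] [QuasiCompact Y.hom]
    [QuasiSeparated Y.hom] :
    IsPushout X.hom.appTop Y.hom.appTop (fst X Y).left.appTop (snd X Y).left.appTop := by
  haveI : Flat X.hom := Groth.Agent.GrpField.flat_field _
  haveI : Flat Y.hom := Groth.Agent.GrpField.flat_field _
  haveI : CompactSpace X.left := QuasiCompact.compactSpace_of_compactSpace X.hom
  haveI : CompactSpace Y.left := QuasiCompact.compactSpace_of_compactSpace Y.hom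
  haveI : QuasiSeparatedSpace X.left := quasiSeparatedSpace_of_quasiSeparated X.hom
  haveI : QuasiSeparatedSpace Y.left := quasiSeparatedSpace_of_quasiSeparated Y.hom
  have H : IsPullback (fst X Y).left (snd X Y).left X.hom Y.hom := IsPullback.of_hasPullback X.hom Y.hom
  have hfl : (X.hom.appLE ⊤ ⊤ le_top).hom.Flat := by
    let e := (Scheme.ΓSpecIso (CommRingCat.of k)).commRingCatIsoToRingEquiv
    letI : Field Γ(Spec (CommRingCat.of k), ⊤) := (e.toMulEquiv.isField (Field.toIsField k)).toField
    letI := (X.hom.appLE ⊤ ⊤ le_top).hom.toAlgebra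
    show Module.Flat _ _
    infer_instance
  have hiso := isIso_pushoutSection_of_isCompact_of_flat_right_of_ringHomFlat H (US := ⊤) (UT := ⊤) (UX := ⊤)
    le_top le_top (UY := ⊤) (by simp) (isAffineOpen_top _) isCompact_univ isQuasiSeparated_univ isCompact_univ
    isQuasiSeparated_univ hfl
  have := (isIso_pushoutSection_iff H (US := ⊤) (UT := ⊤) (UX := ⊤) le_top le_top (UY := ⊤) (by simp)).1 hiso
  simp only [Scheme.Hom.appLE, homOfLE_leOfHom] at this
  simpa [Scheme.Hom.appTop] using this

theorem isΓIso_tensor {X X' Y Y' : (Over (Spec (CommRingCat.of k)))} (f : X ⟶ X') (g : Y ⟶ Y') [hf : IsΓIso f] [hg : IsΓIso g]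
    [QuasiCompact X.hom] [QuasiSeparated X.hom] [QuasiCompact Y.hom] [QuasiSeparated Y.hom]
    [QuasiCompact X'.hom] [QuasiSeparated X'.hom] [QuasiCompact Y'.hom] [QuasiSeparated Y'.hom] :
    IsΓIso (f ⊗ₘ g) := by
  haveI := hf.iso; haveI := hg.iso
  have h := isPushout_appTop X Y
  have h' := isPushout_appTop X' Y'
  have e₁ : (fst X' Y').left.appTop ≫ (f ⊗ₘ g).left.appTop = f.left.appTop ≫ (fst X Y).left.appTop := by
    rw [← Scheme.Hom.comp_appTop, ← Scheme.Hom.comp_appTop, ← Over.comp_left, ← Over.comp_left, tensorHom_fst]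
  have e₂ : (snd X' Y').left.appTop ≫ (f ⊗ₘ g).left.appTop = g.left.appTop ≫ (snd X Y).left.appTop := by
    rw [← Scheme.Hom.comp_appTop, ← Scheme.Hom.comp_appTop, ← Over.comp_left, ← Over.comp_left, tensorHom_snd]
  have w : X.hom.appTop ≫ inv f.left.appTop ≫ (fst X' Y').left.appTop =
      Y.hom.appTop ≫ inv g.left.appTop ≫ (snd X' Y').left.appTop := by
    rw [← Over.w f, ← Over.w g, Scheme.Hom.comp_appTop, Scheme.Hom.comp_appTop, Category.assoc, Category.assoc,
      IsIso.hom_inv_id_assoc, IsIso.hom_inv_id_assoc]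
    exact h'.w
  refine ⟨⟨h.desc _ _ w, h'.hom_ext ?_ ?_, h.hom_ext ?_ ?_⟩⟩
  · rw [reassoc_of% e₁, h.inl_desc, IsIso.hom_inv_id_assoc, Category.comp_id]
  · rw [reassoc_of% e₂, h.inr_desc, IsIso.hom_inv_id_assoc, Category.comp_id]
  · rw [h.inl_desc_assoc, Category.assoc, e₁, IsIso.inv_hom_id_assoc, Category.comp_id]
  · rw [h.inr_desc_assoc, Category.assoc, e₂, IsIso.inv_hom_id_assoc, Category.comp_id]

end AntiAffLib
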