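import Groth.Agent.AntiAffLib.Kernel
import Groth.Agent.H0Lib.Field
import Groth.Prelude

/-!
# Kernels, and functions on proper reduced connected groups
-/

set_option autoImplicit false
set_option linter.style.haveILetI false
set_option backward.isDefEq.respectTransparency false

universe u

open CategoryTheory CategoryTheory.Limits MonoidalCategory CartesianMonoidalCategory AlgebraicGeometry
open scoped MonObj

noncomputable section

namespace AntiAffLib

variable {k : Type u} [Field k]

/-- Every homomorphism to an algebraic group has a closed normal kernel. -/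
theorem exists_kernel {G Q : Over (Spec (CommRingCat.of k))} [GrpObj G] [GrpObj Q]
    [LocallyOfFiniteType Q.hom] (f : G ⟶ Q) [IsMonHom f] :
    ∃ (K : Over (Spec (CommRingCat.of k))) (_ : GrpObj K) (i : K ⟶ G),
      IsMonHom i ∧ IsClosedImmersion i.left ∧ AlgGrp.IsKernel i f ∧ AlgGrp.IsNormalHom i := by
  haveI : IsSeparated Q.hom := Groth.Agent.GrpField.isSeparated_grp (G := Q)
  let K := pullback f (η[Q] : 𝟙_ (Over (Spec (CommRingCat.of k))) ⟶ Q)
  let i : K ⟶ G := pullback.fst _ _
  haveI : IsClosedImmersion (η[Q] : 𝟙_ (Over (Spec (CommRingCat.of k))) ⟶ Q).left := by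
    haveI : IsClosedImmersion ((η[Q] : 𝟙_ (Over (Spec (CommRingCat.of k))) ⟶ Q).left ≫ Q.hom) := by
      rw [Over.w]; exact inferInstanceAs (IsClosedImmersion (𝟙 (Spec (CommRingCat.of k))))
    exact IsClosedImmersion.of_comp _ Q.hom
  haveI : IsClosedImmersion i.left := MorphismProperty.of_isPullback (P := @IsClosedImmersion)
    ((IsPullback.of_hasPullback f η[Q]).map (Over.forget _)).flip ‹_›
  haveI : Mono i := Over.mono_of_mono_left i
  have hK : AlgGrp.IsKernel i f := by
    show IsPullback i (toUnit K) f η[Q]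
    rw [toUnit_unique (toUnit K) (pullback.snd f η[Q])]
    exact IsPullback.of_hasPullback f η[Q]
  have hi : i ≫ f = 1 := by rw [hK.w, Hom.one_def]
  have hl : ∀ {T : Over (Spec (CommRingCat.of k))} (g : T ⟶ G), g ≫ f = 1 → ∃ l : T ⟶ K, l ≫ i = g :=
    fun g hg => ⟨hK.lift g (toUnit _) (by rw [hg, Hom.one_def]), hK.lift_fst _ _ _⟩
  obtain ⟨_, hm⟩ := Groth.Agent.SubDesc.exists_grpObj_of_mono i
    (hl _ (by rw [MonObj.mul_comp, Category.assoc, Category.assoc, hi, MonObj.comp_one, MonObj.comp_one, one_mul]))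
    (hl 1 (by rw [MonObj.one_comp]))
    (hl _ (by rw [GrpObj.inv_comp, hi, inv_one]))
  refine ⟨K, inferInstance, i, hm, inferInstance, hK, fun T g n => ?_⟩
  obtain ⟨l, hl'⟩ := hl (g * (n ≫ i) * g⁻¹) (by
    rw [MonObj.mul_comp, MonObj.mul_comp, GrpObj.inv_comp, Category.assoc, hi, MonObj.comp_one, mul_one,
      mul_inv_cancel])
  exact ⟨l, hl'.symm⟩

/-- A universally closed reduced connected scheme with a rational point has only constant functions. -/
theorem antiAff_of_universallyClosed (X : Over (Spec (CommRingCat.of k))) [UniversallyClosed X.hom]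
    [IsReduced X.left] [ConnectedSpace X.left] (x : 𝟙_ _ ⟶ X) : IsΓIso (toUnit X) := by
  refine ⟨?_⟩
  rw [toUnit_left]
  let F := (Scheme.ΓSpecIso (CommRingCat.of k)).inv ≫ X.hom.appTop
  letI : Algebra k Γ(X.left, ⊤) := F.hom.toAlgebra
  haveI : Algebra.IsIntegral k Γ(X.left, ⊤) := ⟨by
    have h : F.hom.IsIntegral := RingHom.isIntegral_respectsIso.2 X.hom.appTop.hom
      (Scheme.ΓSpecIso (CommRingCat.of k)).symm.commRingCatIsoToRingEquiv
      (isIntegral_appTop_of_universallyClosed X.hom)
    exact h⟩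
  obtain ⟨y⟩ : Nonempty X.left := inferInstance
  haveI : Nontrivial Γ(X.left, ⊤) := (X.left.presheaf.germ ⊤ y trivial).hom.domain_nontrivial
  have hF : IsField Γ(X.left, ⊤) := ⟨exists_pair_ne _, mul_comm, fun {a} ha =>
    (H0Lib.isUnit_of_isIntegral H0Lib.eq_zero_or_one_of_idempotent
      (Algebra.IsIntegral.isIntegral (R := k) a) ha).exists_right_inv⟩
  letI := hF.toField
  haveI : Nontrivial Γ((𝟙_ (Over (Spec (CommRingCat.of k)))).left, ⊤) :=
    (Scheme.ΓSpecIso (CommRingCat.of k)).commRingCatIsoToRingEquiv.toEquiv.nontrivial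
  haveI : Mono x.left.appTop := by
    refine ConcreteCategory.mono_of_injective _ ?_
    exact RingHom.injective (R := Γ(X.left, ⊤)) x.left.appTop.hom
  refine ⟨⟨x.left.appTop, ?_, ?_⟩⟩
  · rw [← Scheme.Hom.comp_appTop, Over.w]
    exact Scheme.Hom.id_appTop
  · rw [← cancel_mono x.left.appTop, Category.assoc, ← Scheme.Hom.comp_appTop, Over.w, Category.id_comp]
    exact Category.comp_id _

end AntiAffLib
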