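import Groth.Agent.AntiAffLib.Image
import Groth.Agent.GrpHomLib.Artin
import Groth.Agent.GrpFieldLib.Neutral
import Groth.Agent.GrpFieldLib.Identity
import Groth.Agent.QuotRepLib.Artin
import Groth.Agent.S3030
import Groth.Agent.S0114
import Groth.Agent.S7982
import Groth.Agent.WeightLib.EtaleQF
import Groth.Prelude

/-!
# Open connected subgroups
-/

set_option autoImplicit false
set_option linter.style.haveILetI false
set_option backward.isDefEq.respectTransparency false
set_option maxHeartbeats 1600000

universe u

open CategoryTheory CategoryTheory.Limits MonoidalCategory CartesianMonoidalCategory AlgebraicGeometry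
open scoped MonObj

noncomputable section

namespace AntiAffLib

variable {k : Type u} [Field k] {G G₀ : Over (Spec (CommRingCat.of k))} [GrpObj G] [GrpObj G₀]

/-- A group with open unit is étale. -/
theorem etale_of_open_unit {P : Over (Spec (CommRingCat.of k))} [GrpObj P] [LocallyOfFiniteType P.hom]
    [IsOpenImmersion (η[P] : 𝟙_ (Over (Spec (CommRingCat.of k))) ⟶ P).left] : Etale P.hom := by
  let d : P ⊗ P ⟶ P := fst P P * (snd P P)⁻¹
  have hsq : IsPullback (lift (𝟙 P) (𝟙 P)) (toUnit P) d η[P] := by
    refine ⟨⟨by simp [d, MonObj.comp_mul, GrpObj.comp_inv, Hom.one_def]⟩,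
      ⟨PullbackCone.IsLimit.mk _
      (fun s => s.fst ≫ fst P P) (fun s => ?_) (fun s => toUnit_unique _ _) (fun s m h _ => ?_)⟩⟩
    · have h := s.condition
      simp only [d, MonObj.comp_mul, GrpObj.comp_inv] at h
      rw [show s.snd ≫ η[P] = (1 : s.pt ⟶ P) by rw [Hom.one_def]; exact congrArg (· ≫ η[P]) (toUnit_unique _ _),
        mul_inv_eq_one] at h
      exact CartesianMonoidalCategory.hom_ext _ _ (by simp) (by simp [h])
    · rw [← h]; simp
  haveI : IsOpenImmersion (pullback.diagonal P.hom) :=
    MorphismProperty.of_isPullback (P := @IsOpenImmersion) (hsq.map (Over.forget _)).flip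
      (inferInstance : IsOpenImmersion (η[P] : 𝟙_ (Over (Spec (CommRingCat.of k))) ⟶ P).left)
  haveI : Flat P.hom := Groth.Agent.GrpField.flat_field _
  haveI : LocallyOfFinitePresentation P.hom := LocallyOfFinitePresentation.iff_locallyOfFiniteType.2 inferInstance
  exact Etale.of_formallyUnramified_of_flat P.hom

variable [LocallyOfFiniteType G.hom] [QuasiCompact G.hom] [LocallyOfFiniteType G₀.hom] [QuasiCompact G₀.hom]
  (i₀ : G₀ ⟶ G) [IsMonHom i₀] [IsOpenImmersion i₀.left] [ConnectedSpace G₀.left]

/-- An open connected subgroup is the connected component of the unit. -/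
theorem range_eq_component : Set.range i₀.left = connectedComponent (Groth.Agent.GrpField.unitPt G) := by
  haveI : IsSeparated G.hom := Groth.Agent.GrpField.isSeparated_grp (G := G)
  haveI : QuasiCompact i₀.left := by
    haveI : QuasiCompact (i₀.left ≫ G.hom) := by rw [Over.w i₀]; infer_instance
    exact QuasiCompact.of_comp i₀.left G.hom
  haveI : Flat G₀.hom := Groth.Agent.GrpField.flat_field _
  haveI : Flat G.hom := Groth.Agent.GrpField.flat_field _
  haveI := Groth.Agent.GrpHom.isClosedImmersion_of_mono_artinian i₀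
  have he : Groth.Agent.GrpField.unitPt G ∈ Set.range i₀.left :=
    ⟨Groth.Agent.GrpField.unitPt G₀, congr($(IsMonHom.one_hom i₀).left (IsLocalRing.closedPoint k))⟩
  exact subset_antisymm ((isPreconnected_range i₀.left.continuous).subset_connectedComponent he)
    (IsClopen.connectedComponent_subset ⟨i₀.left.isClosedEmbedding.isClosed_range,
      i₀.left.isOpenEmbedding.isOpen_range⟩ he)

/-- An open connected subgroup is normal. -/
theorem isNormalHom_of_open : AlgGrp.IsNormalHom i₀ := by
  haveI : Flat G₀.hom := Groth.Agent.GrpField.flat_field _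
  haveI : GeometricallyIrreducible G₀.hom := by
    have h := Groth.Agent.GrpField.geometricallyIrreducible_of_range (G := G₀) (𝟙 G₀.left) (by
      rw [← Groth.Agent.GrpField.connectedComponent_unit, PreconnectedSpace.connectedComponent_eq_univ]
      exact Set.range_eq_univ.2 fun x => ⟨x, rfl⟩)
    rwa [Category.id_comp] at h
  let c : G₀ ⊗ G ⟶ G := snd G₀ G * (fst G₀ G ≫ i₀) * (snd G₀ G)⁻¹
  have hr : Set.range c.left ⊆ Set.range i₀.left := by
    rintro _ ⟨z, rfl⟩
    let g := (snd G₀ G).left z
    let T : Over (Spec (CommRingCat.of k)) := Over.mk (G.left.fromSpecResidueField g ≫ G.hom)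
    let t : T ⟶ G := Over.homMk (G.left.fromSpecResidueField g) rfl
    haveI : IrreducibleSpace ↥(G₀ ⊗ T).left :=
      GeometricallyIrreducible.geometrically_irreducibleSpace (f := G₀.hom) T.hom _ _
        (IsPullback.of_hasPullback G₀.hom T.hom)
    let m : G₀ ⊗ T ⟶ G := (G₀ ◁ t) ≫ c
    have hz : c.left z ∈ Set.range m.left := by
      obtain ⟨w, hw, -⟩ := Scheme.exists_preimage_of_isPullback
        (Groth.Agent.FinHom.isPullback_whiskerLeft G₀ t) z (IsLocalRing.closedPoint _)
        (Scheme.fromSpecResidueField_apply g _).symm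
      exact ⟨w, by rw [Over.comp_left, Scheme.Hom.comp_apply, hw]⟩
    have he : Groth.Agent.GrpField.unitPt G ∈ Set.range m.left := by
      let s : T ⟶ G₀ ⊗ T := lift 1 (𝟙 T)
      have hs : s ≫ m = toUnit T ≫ η[G] := by
        rw [← Category.assoc, lift_whiskerLeft, Category.id_comp]
        simp only [c, MonObj.comp_mul, GrpObj.comp_inv, lift_fst_assoc, lift_snd, MonObj.one_comp,
          mul_one, mul_inv_cancel]
        rw [Hom.one_def]
      let q : T.left := IsLocalRing.closedPoint _
      refine ⟨s.left q, (congr($(hs).left q)).trans ?_⟩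
      show (η[G]).left ((toUnit T).left q) = _
      rw [show (toUnit T).left q = (IsLocalRing.closedPoint k : Spec (CommRingCat.of k)) from
        @Subsingleton.elim (PrimeSpectrum k) _ _ _]
      rfl
    rw [range_eq_component i₀]
    exact (isPreconnected_range m.left.continuous).subset_connectedComponent he hz
  intro T g n
  let c' : G₀ ⊗ G ⟶ G₀ := Over.homMk (IsOpenImmersion.lift i₀.left c.left hr) (by
    rw [← Over.w i₀, ← Category.assoc, IsOpenImmersion.lift_fac, Over.w c])
  have hc' : c' ≫ i₀ = c := Over.OverMorphism.ext (IsOpenImmersion.lift_fac _ _ _)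
  refine ⟨lift n g ≫ c', ?_⟩
  rw [Category.assoc, hc']
  simp only [c, MonObj.comp_mul, GrpObj.comp_inv, lift_fst_assoc, lift_snd]

include i₀ in
/-- A group with an affine open connected subgroup is affine. -/
theorem isAffine_of_open [IsAffine G₀.left] : IsAffine G.left := by
  haveI : Flat G₀.hom := Groth.Agent.GrpField.flat_field _
  haveI : Flat G.hom := Groth.Agent.GrpField.flat_field _
  haveI : IsSeparated G.hom := Groth.Agent.GrpField.isSeparated_grp (G := G)
  haveI : Mono i₀ := Over.mono_of_mono_left i₀
  haveI : QuasiCompact i₀.left := by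
    haveI : QuasiCompact (i₀.left ≫ G.hom) := by rw [Over.w i₀]; infer_instance
    exact QuasiCompact.of_comp i₀.left G.hom
  obtain ⟨P, _, q, _, hqf, hqs, hql, hq, _, -, -⟩ :=
    Groth.Agent.S3030.result k G₀ G i₀ (isNormalHom_of_open i₀)
  haveI := hqf; haveI := hqs; haveI := hql
  haveI : LocallyOfFiniteType P.hom := by
    haveI : LocallyOfFinitePresentation (q.left ≫ P.hom) := by
      rw [Over.w q]; exact LocallyOfFinitePresentation.iff_locallyOfFiniteType.2 inferInstance
    haveI := Groth.Agent.S0114.result q.left P.hom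
    infer_instance
  haveI : QuasiCompact q.left := by
    haveI : QuasiCompact (q.left ≫ P.hom) := by rw [Over.w q]; infer_instance
    exact QuasiCompact.of_comp q.left P.hom
  haveI : QuasiCompact P.hom := by
    haveI : CompactSpace G.left := QuasiCompact.compactSpace_of_compactSpace G.hom
    haveI : CompactSpace P.left := ⟨by
      rw [← Set.range_eq_univ.mpr q.left.surjective]; exact isCompact_range q.left.continuous⟩
    exact quasiCompact_of_compactSpace _
  haveI : IsOpenImmersion (η[P] : 𝟙_ (Over (Spec (CommRingCat.of k))) ⟶ P).left := by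
    haveI : IsClosedImmersion (η[P] : 𝟙_ (Over (Spec (CommRingCat.of k))) ⟶ P).left := by
      haveI : IsClosedImmersion ((η[P] : 𝟙_ (Over (Spec (CommRingCat.of k))) ⟶ P).left ≫ P.hom) := by
        rw [Over.w]; exact inferInstanceAs (IsClosedImmersion (𝟙 (Spec (CommRingCat.of k))))
      exact IsClosedImmersion.of_comp _ P.hom
    haveI : Flat (η[P] : 𝟙_ (Over (Spec (CommRingCat.of k))) ⟶ P).left :=
      MorphismProperty.of_isPullback_of_descendsAlong (P := @Flat) (Q := @Surjective ⊓ @Flat ⊓ @QuasiCompact)
        (hq.map (Over.forget _)) ⟨⟨‹Surjective q.left›, ‹Flat q.left›⟩, ‹QuasiCompact q.left›⟩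
        (inferInstance : Flat i₀.left)
    haveI : LocallyOfFiniteType (𝟙_ (Over (Spec (CommRingCat.of k)))).hom :=
      inferInstanceAs (LocallyOfFiniteType (𝟙 _))
    haveI := lfp_of_lft (η[P] : 𝟙_ (Over (Spec (CommRingCat.of k))) ⟶ P)
    exact IsOpenImmersion.of_flat_of_mono _
  haveI := etale_of_open_unit (P := P)
  haveI : Subsingleton ↥(Spec (CommRingCat.of k)) := inferInstanceAs (Subsingleton (PrimeSpectrum k))
  haveI : LocallyQuasiFinite P.hom := WeightLib.locallyQuasiFinite_of_etale P.hom
  haveI : IsFinite P.hom :=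
    Groth.Agent.QuotRep.isFinite_of_subsingleton P.hom fun y => P.hom.finite_preimage_singleton y
  haveI : IsAffine P.left := isAffine_of_isAffineHom P.hom
  exact (Groth.Agent.S7982.result k G₀ G P i₀ q hq).1 inferInstance inferInstance

end AntiAffLib
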