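import Groth.Agent.AntiAffLib.Basic
import Groth.Prelude

/-!
# The affinization of an algebraic group is an affine algebraic group
-/

set_option autoImplicit false
set_option linter.style.haveILetI false
set_option backward.isDefEq.respectTransparency false

universe u

open CategoryTheory CategoryTheory.Limits MonoidalCategory CartesianMonoidalCategory AlgebraicGeometry
open scoped MonObj

noncomputable section

namespace AntiAffLib

variable {k : Type u} [Field k]


/-- The spectrum of the ring of global functions. -/
def hull (X : (Over (Spec (CommRingCat.of k)))) : (Over (Spec (CommRingCat.of k))) := Over.mk (Spec.map X.hom.appTop ≫ (Spec (CommRingCat.of k)).isoSpec.inv)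

instance isAffine_hull (X : (Over (Spec (CommRingCat.of k)))) : IsAffine (hull X).left := inferInstanceAs (IsAffine (Spec Γ(X.left, ⊤)))

/-- The canonical morphism to the spectrum of the ring of global functions. -/
def toHull (X : (Over (Spec (CommRingCat.of k)))) : X ⟶ hull X := Over.homMk X.left.toSpecΓ (by
  show X.left.toSpecΓ ≫ Spec.map X.hom.appTop ≫ (Spec (CommRingCat.of k)).isoSpec.inv = X.hom
  rw [← Scheme.toSpecΓ_naturality_assoc, ← Scheme.isoSpec_hom, Iso.hom_inv_id, Category.comp_id])

theorem toHull_left (X : (Over (Spec (CommRingCat.of k)))) : (toHull X).left = X.left.toSpecΓ := rfl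

instance isΓIso_toHull (X : (Over (Spec (CommRingCat.of k)))) : IsΓIso (toHull X) :=
  ⟨by rw [toHull_left, Scheme.toSpecΓ_appTop]; exact inferInstanceAs (IsIso (Scheme.ΓSpecIso Γ(X.left, ⊤)).hom)⟩

theorem ker_toHull (X : (Over (Spec (CommRingCat.of k)))) [QuasiCompact X.hom] : (toHull X).left.ker = ⊥ := by
  haveI : CompactSpace X.left := QuasiCompact.compactSpace_of_compactSpace X.hom
  exact Scheme.ker_toSpecΓ X.left

variable (G : (Over (Spec (CommRingCat.of k)))) [GrpObj G] [LocallyOfFiniteType G.hom] [QuasiCompact G.hom]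

theorem qs_grp : QuasiSeparated G.hom :=
  haveI := Groth.Agent.GrpField.isSeparated_grp (G := G)
  inferInstance

instance isΓIso_two : IsΓIso (toHull G ⊗ₘ toHull G) :=
  haveI := qs_grp G
  isΓIso_tensor _ _

instance isΓIso_three : IsΓIso ((toHull G ⊗ₘ toHull G) ⊗ₘ toHull G) :=
  haveI := qs_grp G
  isΓIso_tensor _ _

instance isΓIso_left : IsΓIso (𝟙 (𝟙_ (Over (Spec (CommRingCat.of k)))) ⊗ₘ toHull G) :=
  haveI := qs_grp G
  isΓIso_tensor _ _

instance isΓIso_right : IsΓIso (toHull G ⊗ₘ 𝟙 (𝟙_ (Over (Spec (CommRingCat.of k))))) :=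
  haveI := qs_grp G
  isΓIso_tensor _ _

/-- The multiplication of the affinization. -/
def hullMul : hull G ⊗ hull G ⟶ hull G := desc (toHull G ⊗ₘ toHull G) (μ[G] ≫ toHull G)

/-- The inverse of the affinization. -/
def hullInv : hull G ⟶ hull G := desc (toHull G) (GrpObj.inv ≫ toHull G)

instance grpObjHull : GrpObj (hull G) where
  one := η[G] ≫ toHull G
  mul := hullMul G
  one_mul := by
    apply hom_ext (𝟙 (𝟙_ (Over (Spec (CommRingCat.of k)))) ⊗ₘ toHull G)
    rw [← tensorHom_id, tensorHom_comp_tensorHom_assoc, Category.id_comp, Category.comp_id,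
      show (η[G] ≫ toHull G) ⊗ₘ toHull G = (η[G] ▷ G) ≫ (toHull G ⊗ₘ toHull G) by
        rw [← tensorHom_id, tensorHom_comp_tensorHom, Category.id_comp],
      Category.assoc, hullMul, fac, MonObj.one_mul_assoc, id_tensorHom, MonoidalCategory.leftUnitor_naturality]
  mul_one := by
    apply hom_ext (toHull G ⊗ₘ 𝟙 (𝟙_ (Over (Spec (CommRingCat.of k)))))
    rw [← id_tensorHom, tensorHom_comp_tensorHom_assoc, Category.id_comp, Category.comp_id,
      show toHull G ⊗ₘ (η[G] ≫ toHull G) = (G ◁ η[G]) ≫ (toHull G ⊗ₘ toHull G) by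
        rw [← id_tensorHom, tensorHom_comp_tensorHom, Category.id_comp],
      Category.assoc, hullMul, fac, MonObj.mul_one_assoc, tensorHom_id, MonoidalCategory.rightUnitor_naturality]
  mul_assoc := by
    apply hom_ext ((toHull G ⊗ₘ toHull G) ⊗ₘ toHull G)
    rw [← tensorHom_id, tensorHom_comp_tensorHom_assoc, Category.comp_id, hullMul, fac,
      show (μ[G] ≫ toHull G) ⊗ₘ toHull G = (μ[G] ▷ G) ≫ (toHull G ⊗ₘ toHull G) by
        rw [← tensorHom_id, tensorHom_comp_tensorHom, Category.id_comp],
      Category.assoc, fac, MonoidalCategory.associator_naturality_assoc, ← id_tensorHom,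
      tensorHom_comp_tensorHom_assoc, Category.comp_id, fac,
      show toHull G ⊗ₘ (μ[G] ≫ toHull G) = (G ◁ μ[G]) ≫ (toHull G ⊗ₘ toHull G) by
        rw [← id_tensorHom, tensorHom_comp_tensorHom, Category.id_comp],
      Category.assoc, fac, MonObj.mul_assoc_assoc]
  inv := hullInv G
  left_inv := by
    apply hom_ext (toHull G)
    rw [← Category.assoc, comp_lift, hullInv, fac, Category.comp_id,
      show lift (GrpObj.inv ≫ toHull G) (toHull G) =
          lift (GrpObj.inv (X := G)) (𝟙 G) ≫ (toHull G ⊗ₘ toHull G) by rw [lift_map, Category.id_comp],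
      Category.assoc, hullMul, fac, GrpObj.left_inv_assoc, ← Category.assoc (toHull G)]
    rw [toUnit_unique (toHull G ≫ toUnit _) (toUnit G)]
  right_inv := by
    apply hom_ext (toHull G)
    rw [← Category.assoc, comp_lift, hullInv, fac, Category.comp_id,
      show lift (toHull G) (GrpObj.inv ≫ toHull G) =
          lift (𝟙 G) (GrpObj.inv (X := G)) ≫ (toHull G ⊗ₘ toHull G) by rw [lift_map, Category.id_comp],
      Category.assoc, hullMul, fac, GrpObj.right_inv_assoc, ← Category.assoc (toHull G)]
    rw [toUnit_unique (toHull G ≫ toUnit _) (toUnit G)]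

instance isMonHom_toHull : IsMonHom (toHull G) where
  one_hom := rfl
  mul_hom := (fac (toHull G ⊗ₘ toHull G) (μ[G] ≫ toHull G)).symm

/-- A homomorphism to an affine group extends to the affinization. -/
theorem isMonHom_desc {Z : (Over (Spec (CommRingCat.of k)))} [GrpObj Z] [IsAffine Z.left] (u : G ⟶ Z) [IsMonHom u] :
    IsMonHom (desc (toHull G) u) where
  one_hom := by
    show (η[G] ≫ toHull G) ≫ _ = _
    rw [Category.assoc, fac, IsMonHom.one_hom]
  mul_hom := by
    apply hom_ext (toHull G ⊗ₘ toHull G)
    rw [← IsMonHom.mul_hom_assoc, fac, tensorHom_comp_tensorHom_assoc, fac, IsMonHom.mul_hom]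


/-- The affinization of an algebraic group is algebraic and a faithfully flat quotient. -/
theorem toHull_spec : Flat (toHull G).left ∧ Surjective (toHull G).left ∧ LocallyOfFiniteType (hull G).hom :=
  OrbitLib.ToAffine.flat_surjective_finiteType G (hull G) (toHull G) (ker_toHull G)

instance flat_toHull : Flat (toHull G).left := (toHull_spec G).1

instance surjective_toHull : Surjective (toHull G).left := (toHull_spec G).2.1

instance lft_hull : LocallyOfFiniteType (hull G).hom := (toHull_spec G).2.2

instance lfp_toHull : LocallyOfFinitePresentation (toHull G).left := by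
  haveI : IsLocallyNoetherian (hull G).left := LocallyOfFiniteType.isLocallyNoetherian (hull G).hom
  haveI : LocallyOfFiniteType ((toHull G).left ≫ (hull G).hom) := by rw [Over.w]; infer_instance
  haveI := locallyOfFiniteType_of_comp (toHull G).left (hull G).hom
  exact LocallyOfFinitePresentation.iff_locallyOfFiniteType.2 inferInstance

instance qc_toHull : QuasiCompact (toHull G).left := by
  haveI : CompactSpace G.left := QuasiCompact.compactSpace_of_compactSpace G.hom
  exact quasiCompact_of_compactSpace _

end AntiAffLib
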