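import Groth.Agent.AntiAffLib.Rigidity
import Groth.Agent.GrpFieldLib.Comps
import Groth.Agent.AntiAffLib.Affinize
import Groth.Prelude

/-!
# Rigidity with rational base points and for groups
-/

set_option autoImplicit false
set_option linter.style.haveILetI false
set_option backward.isDefEq.respectTransparency false
set_option maxHeartbeats 400000

universe u

open CategoryTheory CategoryTheory.Limits MonoidalCategory CartesianMonoidalCategory AlgebraicGeometry
open scoped MonObj

noncomputable section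

namespace AntiAffLib

variable {k : Type u} [Field k]

theorem point_unique {T : Over (Spec (CommRingCat.of k))} (t : 𝟙_ _ ⟶ T)
    (z : ↥(𝟙_ (Over (Spec (CommRingCat.of k)))).left) : t.left z = t.left (IsLocalRing.closedPoint k) :=
  congrArg t.left (Subsingleton.elim (α := PrimeSpectrum k) _ _)

/-- Rigidity at a rational point of the second factor. -/
theorem rigidity_rat {X Y Z : Over (Spec (CommRingCat.of k))} [QuasiCompact X.hom] [QuasiSeparated X.hom]
    [IsΓIso (toUnit X)] [IsLocallyNoetherian Y.left] [PreconnectedSpace Y.left] [IsSeparated Z.hom]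
    (x₀ : 𝟙_ _ ⟶ X) (y₀ : 𝟙_ _ ⟶ Y) (z₀ : 𝟙_ _ ⟶ Z) (f : X ⊗ Y ⟶ Z) (hf : (X ◁ y₀) ≫ f = toUnit _ ≫ z₀) :
    f = snd X Y ≫ lift (toUnit Y ≫ x₀) (𝟙 Y) ≫ f := by
  refine rigidity x₀ f _ rfl (y₀.left (IsLocalRing.closedPoint k)) fun w hw => ?_
  obtain ⟨v, rfl⟩ := (mem_range_whisker y₀ w).2 ⟨_, hw.symm⟩
  have h1 : f.left ((X ◁ y₀).left v) = z₀.left (IsLocalRing.closedPoint k) := by
    show ((X ◁ y₀) ≫ f).left v = _
    rw [hf]
    exact point_unique z₀ _
  have e : y₀ ≫ lift (toUnit Y ≫ x₀) (𝟙 Y) ≫ f = z₀ := by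
    have := congrArg (fun m => lift x₀ (𝟙 (𝟙_ (Over (Spec (CommRingCat.of k))))) ≫ m) hf
    rw [← Category.assoc, lift_whiskerLeft, Category.id_comp, ← Category.assoc (lift x₀ (𝟙 _)),
      toUnit_unique (lift x₀ (𝟙 _) ≫ toUnit _) (𝟙 _), Category.id_comp] at this
    rw [← Category.assoc, comp_lift, Category.comp_id, ← Category.assoc y₀,
      toUnit_unique (y₀ ≫ toUnit Y) (𝟙 _), Category.id_comp]
    exact this
  rw [h1, ← e]
  rfl

/-- A morphism from the product of an anti-affine group and a connected one which is trivial on both factors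
is trivial. -/
theorem eq_one_of_axes {H Y Z : Over (Spec (CommRingCat.of k))} [GrpObj H] [LocallyOfFiniteType H.hom]
    [QuasiCompact H.hom] [IsΓIso (toUnit H)] [IsLocallyNoetherian Y.left] [PreconnectedSpace Y.left] [GrpObj Z]
    (e : 𝟙_ _ ⟶ Y) (f : H ⊗ Y ⟶ Z) (h₁ : (H ◁ e) ≫ f = 1) (h₂ : lift (toUnit Y ≫ η[H]) (𝟙 Y) ≫ f = 1) :
    f = 1 := by
  haveI := qs_grp H
  haveI : IsSeparated Z.hom := Groth.Agent.GrpField.isSeparated_grp (G := Z)
  have := rigidity_rat η[H] e η[Z] f (by rw [h₁, Hom.one_def])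
  rw [this, h₂, MonObj.comp_one]

theorem isLocallyNoetherian_grp (H : Over (Spec (CommRingCat.of k))) [LocallyOfFiniteType H.hom] :
    IsLocallyNoetherian H.left :=
  LocallyOfFiniteType.isLocallyNoetherian H.hom

/-- A pointed morphism from an anti-affine group is a homomorphism. -/
theorem isMonHom_of_pointed {H G : Over (Spec (CommRingCat.of k))} [GrpObj H] [GrpObj G]
    [LocallyOfFiniteType H.hom] [QuasiCompact H.hom] [IsΓIso (toUnit H)] (f : H ⟶ G) (hf : η[H] ≫ f = η[G]) :
    IsMonHom f := by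
  haveI := isLocallyNoetherian_grp H
  haveI := connectedSpace_of_antiAff H
  let d : H ⊗ H ⟶ G := ((fst H H * snd H H) ≫ f) * ((fst H H ≫ f) * (snd H H ≫ f))⁻¹
  have hf' : ∀ {T : Over (Spec (CommRingCat.of k))}, (1 : T ⟶ H) ≫ f = 1 := fun {T} => by
    rw [Hom.one_def, Category.assoc, hf, Hom.one_def]
  have hd : d = 1 := by
    refine eq_one_of_axes η[H] d ?_ ?_
    · have e : (H ◁ η[H]) ≫ snd H H = 1 := by
        rw [whiskerLeft_snd, Hom.one_def, toUnit_unique (snd H (𝟙_ _)) (toUnit _)]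
      simp only [d, MonObj.comp_mul, GrpObj.comp_inv, ← Category.assoc, e, whiskerLeft_fst, _root_.mul_one, hf',
        mul_inv_cancel]
    · have e : lift (toUnit H ≫ η[H]) (𝟙 H) ≫ fst H H = 1 := by rw [lift_fst, Hom.one_def]
      simp only [d, MonObj.comp_mul, GrpObj.comp_inv, ← Category.assoc, e, lift_snd, _root_.one_mul, hf',
        mul_inv_cancel]
  refine ⟨hf, ?_⟩
  have := mul_inv_eq_one.1 hd
  rw [Hom.mul_def, Hom.mul_def, lift_fst_snd, Category.id_comp,
    show lift (fst H H ≫ f) (snd H H ≫ f) = f ⊗ₘ f by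
      apply CartesianMonoidalCategory.hom_ext <;> simp] at this
  exact this

/-- An anti-affine group commutes with everything connected that it maps to. -/
theorem comm_of_hom {H G : Over (Spec (CommRingCat.of k))} [GrpObj H] [GrpObj G] [LocallyOfFiniteType H.hom]
    [QuasiCompact H.hom] [LocallyOfFiniteType G.hom] [IsΓIso (toUnit H)] [PreconnectedSpace G.left] (φ : H ⟶ G)
    [IsMonHom φ] : (fst H G ≫ φ) * snd H G = snd H G * (fst H G ≫ φ) := by
  haveI := isLocallyNoetherian_grp G
  let d : H ⊗ G ⟶ G := ((fst H G ≫ φ) * snd H G) * (snd H G * (fst H G ≫ φ))⁻¹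
  have hd : d = 1 := by
    refine eq_one_of_axes η[G] d ?_ ?_
    · have e : (H ◁ η[G]) ≫ snd H G = 1 := by
        rw [whiskerLeft_snd, Hom.one_def, toUnit_unique (snd H (𝟙_ _)) (toUnit _)]
      simp only [d, MonObj.comp_mul, GrpObj.comp_inv, ← Category.assoc, e, _root_.mul_one, _root_.one_mul,
        mul_inv_cancel]
    · have e : lift (toUnit G ≫ η[H]) (𝟙 G) ≫ fst H G = 1 := by rw [lift_fst, Hom.one_def]
      simp only [d, MonObj.comp_mul, GrpObj.comp_inv, ← Category.assoc, e, MonObj.one_comp, _root_.mul_one,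
        _root_.one_mul, mul_inv_cancel]
  exact mul_inv_eq_one.1 hd

/-- An anti-affine group is commutative. -/
theorem isCommMonObj_of_antiAff (H : Over (Spec (CommRingCat.of k))) [GrpObj H] [LocallyOfFiniteType H.hom]
    [QuasiCompact H.hom] [IsΓIso (toUnit H)] : IsCommMonObj H := by
  haveI := connectedSpace_of_antiAff H
  have h := comm_of_hom (𝟙 H)
  rw [Category.comp_id, Hom.mul_def, Hom.mul_def, lift_fst_snd, Category.id_comp] at h
  have hb : (β_ H H).hom = lift (snd H H) (fst H H) := by apply CartesianMonoidalCategory.hom_ext <;> simp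
  exact ⟨by rw [hb]; exact h.symm⟩

end AntiAffLib
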