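import Groth.Agent.AntiAffLib.BaseChange
import Groth.Agent.AntiAffLib.Affinize
import Groth.Agent.GrpdFieldLib.ClosedSub
import Groth.Agent.GrpSchLib.Cartier
import Groth.Agent.DevissLib.ClosedImm
import Groth.Agent.S4628
import Groth.Agent.S3017
import Groth.Agent.SweepSix.FieldsRed
import Groth.Prelude

/-!
# Anti-affine algebraic groups are smooth
-/

set_option autoImplicit false
set_option linter.style.haveILetI false
set_option backward.isDefEq.respectTransparency false
set_option maxHeartbeats 800000

universe u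

open CategoryTheory CategoryTheory.Limits MonoidalCategory CartesianMonoidalCategory AlgebraicGeometry
open scoped MonObj

noncomputable section

namespace AntiAffLib

theorem isAffine_of_subsingleton (X : Scheme.{u}) [Subsingleton X] [Nonempty X] : IsAffine X := by
  obtain ⟨V, hV, hxV, -⟩ := exists_isAffineOpen_mem_and_subset (X := X) (x := Classical.arbitrary _) (U := ⊤) trivial
  have hVtop : V = ⊤ := top_le_iff.1 fun x _ => by rw [Subsingleton.elim x (Classical.arbitrary _)]; exact hxV
  subst hVtop
  haveI : IsAffine (⊤ : X.Opens).toScheme := hV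
  exact IsAffine.of_isIso X.topIso.inv

variable {k : Type u} [Field k]
  (N : Over (Spec (CommRingCat.of k))) [GrpObj N] [LocallyOfFiniteType N.hom] [QuasiCompact N.hom]

/-- An anti-affine algebraic group over a perfect field is reduced. -/
theorem isReduced_of_antiAff [PerfectField k] [IsΓIso (toUnit N)] : IsReduced N.left := by
  obtain ⟨Z, j, _, _, hj⟩ : ∃ (Z : Scheme.{u}) (j : Z ⟶ N.left), IsClosedImmersion j ∧ IsReduced Z ∧
      Set.range j = Set.univ := by
    refine ⟨(Scheme.IdealSheafData.vanishingIdeal (X := N.left) ⟨Set.univ, isClosed_univ⟩).subscheme,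
      Scheme.IdealSheafData.subschemeι _, inferInstance, DevissLib.isReduced_vanishingIdeal' _, ?_⟩
    rw [Scheme.IdealSheafData.range_subschemeι, Scheme.IdealSheafData.coe_support_vanishingIdeal]
    rfl
  let R : Over (Spec (CommRingCat.of k)) := Over.mk (j ≫ N.hom)
  let i : R ⟶ N := Over.homMk j rfl
  haveI : IsClosedImmersion i.left := inferInstanceAs (IsClosedImmersion j)
  haveI : Mono i := Over.mono_of_mono_left i
  haveI : Surjective i.left := ⟨Set.range_eq_univ.mp hj⟩
  haveI : IsReduced R.left := inferInstanceAs (IsReduced Z)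
  haveI : GeometricallyReduced R.hom := GrpdFieldLib.geometricallyReduced_of_perfect R.hom
  haveI : IsReduced (R ⊗ R).left := Groth.Agent.S4628.result R.hom R.hom
  haveI : IsReduced (𝟙_ (Over (Spec (CommRingCat.of k)))).left :=
    inferInstanceAs (IsReduced (Spec (CommRingCat.of k)))
  have lift' : ∀ {T : Over (Spec (CommRingCat.of k))} [IsReduced T.left] (g : T ⟶ N), ∃ l : T ⟶ R, l ≫ i = g := by
    intro T _ g
    obtain ⟨l, hl⟩ := GrpdFieldLib.exists_lift_of_reduced j g.left (by rw [hj]; exact Set.subset_univ _)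
    exact ⟨Over.homMk l (by show l ≫ j ≫ N.hom = T.hom; rw [reassoc_of% hl, Over.w]), Over.OverMorphism.ext hl⟩
  obtain ⟨_, _⟩ := Groth.Agent.SubDesc.exists_grpObj_of_mono i (lift' _) (lift' _) (lift' _)
  haveI : Flat N.hom := Groth.Agent.GrpField.flat_field _
  haveI : Flat R.hom := Groth.Agent.GrpField.flat_field _
  haveI : LocallyOfFiniteType R.hom := inferInstanceAs (LocallyOfFiniteType (j ≫ N.hom))
  obtain ⟨X, p, hpf, hps, -, hsq, -, -, -⟩ := Groth.Agent.S3017.result k R N i
  haveI := hps
  -- the composite of the reduced subgroup with the quotient map is constant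
  have hconst : i ≫ p = toUnit R ≫ η[N] ≫ p := by
    have h := congrArg (lift (𝟙 R) (toUnit R ≫ η[N]) ≫ ·) hsq.w
    simp only [lift_snd_assoc, Category.assoc] at h
    rw [← Category.assoc (lift (𝟙 R) (toUnit R ≫ η[N])) (i ▷ N), lift_whiskerRight, Category.id_comp,
      ← Category.assoc (lift _ _) μ[N], ← Hom.mul_def, ← Hom.one_def, _root_.mul_one] at h
    exact h
  -- hence the quotient is a point
  haveI : Nonempty X.left := ⟨(η[N] ≫ p).left (IsLocalRing.closedPoint k)⟩
  haveI : Subsingleton X.left := by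
    refine ⟨fun a b => ?_⟩
    have hz : ∀ a : X.left, a = (η[N] ≫ p).left (IsLocalRing.closedPoint k) := by
      intro a
      obtain ⟨n, rfl⟩ := p.left.surjective a
      obtain ⟨r, rfl⟩ := i.left.surjective n
      show (i ≫ p).left r = _
      rw [hconst]
      show (η[N] ≫ p).left ((toUnit R).left r) = _
      exact congrArg _ (Subsingleton.elim (α := PrimeSpectrum k) _ _)
    rw [hz a, hz b]
  haveI := isAffine_of_subsingleton X.left
  have hp : p = toUnit N ≫ η[N] ≫ p := eq_const p η[N]
  -- so the reduced subgroup is everything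
  let l : N ⟶ R ⊗ N := hsq.lift (𝟙 N) (toUnit N ≫ η[N]) (by rw [Category.id_comp, Category.assoc]; exact hp)
  have hl₁ : l ≫ (i ▷ N) ≫ μ[N] = 𝟙 N := hsq.lift_fst _ _ _
  have hl₂ : l ≫ snd R N = toUnit N ≫ η[N] := hsq.lift_snd _ _ _
  have hsec : (l ≫ fst R N) ≫ i = 𝟙 N := by
    have e : (i ▷ N) ≫ μ[N] = (fst R N ≫ i) * snd R N := by
      rw [Hom.mul_def]; congr 1
    rw [e, MonObj.comp_mul, hl₂, ← Hom.one_def, _root_.mul_one, ← Category.assoc] at hl₁
    exact hl₁
  haveI : IsIso i.left := by
    haveI : IsSplitEpi i := IsSplitEpi.mk' ⟨_, hsec⟩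
    haveI : IsIso i := isIso_of_mono_of_isSplitEpi i
    exact inferInstanceAs (IsIso ((Over.forget _).map i))
  exact isReduced_of_isOpenImmersion (inv i.left)

/-- An anti-affine algebraic group is smooth. -/
theorem smooth_of_antiAff [IsΓIso (toUnit N)] : Smooth N.hom := by
  haveI := qs_grp N
  haveI : Nonempty N.left := ⟨(η[N] : 𝟙_ (Over (Spec (CommRingCat.of k))) ⟶ N).left (IsLocalRing.closedPoint k)⟩
  apply MorphismProperty.of_pullback_snd_of_descendsAlong
    (Q := @Surjective ⊓ @Flat ⊓ @QuasiCompact) (g := extMap (k := k) (AlgebraicClosure k))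
  · exact ⟨⟨inferInstance, inferInstance⟩, inferInstance⟩
  · haveI := isReduced_of_antiAff (Red.bc (extMap (k := k) (AlgebraicClosure k)) N)
    exact Groth.Agent.GrpSchLib.smooth_of_isAlgClosed_of_isReduced (Red.bc (extMap (k := k) (AlgebraicClosure k)) N)

end AntiAffLib
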