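import Groth.Agent.AntiAffLib.Basics2
import Groth.Prelude

/-!
# Anti-affineness under extension of the base field
-/

set_option autoImplicit false
set_option linter.style.haveILetI false
set_option backward.isDefEq.respectTransparency false

universe u

open CategoryTheory CategoryTheory.Limits MonoidalCategory CartesianMonoidalCategory AlgebraicGeometry
open scoped MonObj

noncomputable section

namespace AntiAffLib

variable {k : Type u} [Field k] (K : Type u) [Field K] [Algebra k K]

/-- The morphism of the extension. -/
abbrev extMap : Spec (CommRingCat.of K) ⟶ Spec (CommRingCat.of k) :=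
  Spec.map (CommRingCat.ofHom (algebraMap k K))

instance qc_bc (X : Over (Spec (CommRingCat.of k))) [QuasiCompact X.hom] :
    QuasiCompact (Red.bc (extMap (k := k) K) X).hom :=
  inferInstanceAs (QuasiCompact (pullback.snd X.hom (extMap (k := k) K)))

instance qs_bc (X : Over (Spec (CommRingCat.of k))) [QuasiSeparated X.hom] :
    QuasiSeparated (Red.bc (extMap (k := k) K) X).hom :=
  inferInstanceAs (QuasiSeparated (pullback.snd X.hom (extMap (k := k) K)))

instance lft_bc (X : Over (Spec (CommRingCat.of k))) [LocallyOfFiniteType X.hom] :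
    LocallyOfFiniteType (Red.bc (extMap (k := k) K) X).hom :=
  inferInstanceAs (LocallyOfFiniteType (pullback.snd X.hom (extMap (k := k) K)))

theorem antiAff_bc_iff (X : Over (Spec (CommRingCat.of k))) [QuasiCompact X.hom] [QuasiSeparated X.hom]
    [Nonempty X.left] :
    IsΓIso (toUnit (Red.bc (extMap (k := k) K) X)) ↔ IsΓIso (toUnit X) := by
  let V : Over (Spec (CommRingCat.of k)) := Over.mk (extMap (k := k) K)
  haveI : IsAffine V.left := inferInstanceAs (IsAffine (Spec (CommRingCat.of K)))
  haveI : Nonempty V.left := inferInstanceAs (Nonempty (PrimeSpectrum K))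
  have e : IsΓIso (toUnit (Red.bc (extMap (k := k) K) X)) ↔ IsΓIso (snd X V) := by
    have h1 : (toUnit (Red.bc (extMap (k := k) K) X)).left = pullback.snd X.hom (extMap (k := k) K) :=
      toUnit_left _
    exact ⟨fun h => ⟨by have := h.iso; rwa [h1] at this⟩, fun h => ⟨by rw [h1]; exact h.iso⟩⟩
  rw [e]
  exact ⟨fun h => antiAff_of_snd X V, fun h => isΓIso_snd X V⟩

instance antiAff_bc (X : Over (Spec (CommRingCat.of k))) [QuasiCompact X.hom] [QuasiSeparated X.hom]
    [Nonempty X.left] [h : IsΓIso (toUnit X)] : IsΓIso (toUnit (Red.bc (extMap (k := k) K) X)) :=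
  (antiAff_bc_iff K X).2 h

end AntiAffLib
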