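import Groth.Agent.AntiAffLib.Basic
import Groth.Agent.SteinLib.Conn
import Groth.Prelude

/-!
# Anti-affine objects: first properties
-/

set_option autoImplicit false
set_option linter.style.haveILetI false
set_option backward.isDefEq.respectTransparency false

universe u

open CategoryTheory CategoryTheory.Limits MonoidalCategory CartesianMonoidalCategory AlgebraicGeometry
open scoped MonObj

noncomputable section

namespace AntiAffLib

variable {k : Type u} [Field k]

theorem toUnit_left (X : Over (Spec (CommRingCat.of k))) : (toUnit X).left = X.hom := by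
  have := Over.w (toUnit X)
  exact (Category.comp_id _).symm.trans this

/-- The constants are all global functions iff the morphism to the point is an isomorphism on them. -/
theorem bijective_iff (X : Over (Spec (CommRingCat.of k))) :
    Function.Bijective ((Scheme.ΓSpecIso (CommRingCat.of k)).inv ≫ X.hom.appTop).hom ↔ IsΓIso (toUnit X) := by
  rw [show Function.Bijective ((Scheme.ΓSpecIso (CommRingCat.of k)).inv ≫ X.hom.appTop).hom ↔
    IsIso ((Scheme.ΓSpecIso (CommRingCat.of k)).inv ≫ X.hom.appTop) from
      (ConcreteCategory.isIso_iff_bijective _).symm, isIso_comp_left_iff]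
  exact ⟨fun h => ⟨by rw [toUnit_left]; exact h⟩, fun h => by have := h.iso; rwa [toUnit_left] at this⟩

theorem connectedSpace_of_antiAff (X : Over (Spec (CommRingCat.of k))) [h : IsΓIso (toUnit X)] :
    ConnectedSpace X.left :=
  SteinLib.connectedSpace_of_appTop X.hom (by have := h.iso; rwa [toUnit_left] at this)

/-- A morphism from an anti-affine object to an affine one is constant. -/
theorem eq_const {X Z : Over (Spec (CommRingCat.of k))} [IsΓIso (toUnit X)] [IsAffine Z.left] (f : X ⟶ Z)
    (x : 𝟙_ _ ⟶ X) : f = toUnit X ≫ x ≫ f := by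
  conv_lhs => rw [← fac (toUnit X) f]
  conv_rhs => rw [← fac (toUnit X) f, ← Category.assoc x, toUnit_unique (x ≫ toUnit X) (𝟙 _), Category.id_comp]

/-- If the projection from a product with a nonempty object is bijective on global functions, so is the structure
morphism of the other factor. -/
theorem antiAff_of_snd (N V : Over (Spec (CommRingCat.of k))) [Nonempty N.left] [Nonempty V.left]
    [QuasiCompact N.hom] [QuasiSeparated N.hom] [QuasiCompact V.hom] [QuasiSeparated V.hom]
    [hs : IsΓIso (snd N V)] : IsΓIso (toUnit N) := by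
  haveI := hs.iso
  have h := isPushout_appTop N V
  refine ⟨?_⟩
  rw [toUnit_left, ConcreteCategory.isIso_iff_bijective]
  let e := (Scheme.ΓSpecIso (CommRingCat.of k)).commRingCatIsoToRingEquiv
  letI : Field Γ(Spec (CommRingCat.of k), ⊤) := (e.toMulEquiv.isField (Field.toIsField k)).toField
  haveI : Nonempty ↥(⊤ : N.left.Opens).toScheme := ⟨⟨Classical.arbitrary _, trivial⟩⟩
  haveI : Nonempty ↥(⊤ : V.left.Opens).toScheme := ⟨⟨Classical.arbitrary _, trivial⟩⟩
  haveI : Nontrivial Γ(N.left, ⊤) := Scheme.component_nontrivial _ _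
  haveI : Nontrivial Γ(V.left, ⊤) := Scheme.component_nontrivial _ _
  refine ⟨RingHom.injective (N.hom.appTop).hom, fun a => ?_⟩
  algebraize [N.hom.appTop.hom, V.hom.appTop.hom]
  let K := (Γ(Spec (CommRingCat.of k), ⊤) : Type u)
  let A := (Γ(N.left, ⊤) : Type u)
  let B := (Γ(V.left, ⊤) : Type u)
  have h' : IsPushout N.hom.appTop V.hom.appTop
      (CommRingCat.ofHom (Algebra.TensorProduct.includeLeftRingHom (R := K) (A := A) (B := B)))
      (CommRingCat.ofHom (Algebra.TensorProduct.includeRight (R := K) (A := A) (B := B)).toRingHom) :=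
    CommRingCat.isPushout_tensorProduct K A B
  have hiso : (snd N V).left.appTop ≫ (h.isoIsPushout _ _ h').hom =
      CommRingCat.ofHom (Algebra.TensorProduct.includeRight (R := K) (A := A) (B := B)).toRingHom :=
    h.inr_isoIsPushout_hom _ _ h'
  have hs' : Function.Surjective (Algebra.TensorProduct.includeRight (R := K) (A := A) (B := B)) := by
    have := (ConcreteCategory.isIso_iff_bijective (CommRingCat.ofHom
      (Algebra.TensorProduct.includeRight (R := K) (A := A) (B := B)).toRingHom)).1
      (hiso ▸ inferInstance)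
    exact this.2
  obtain ⟨b, hb⟩ := hs' (TensorProduct.tmul K (a : A) (1 : B))
  obtain ⟨φ, hφ⟩ := Module.Projective.exists_dual_ne_zero K (one_ne_zero : (1 : B) ≠ 0)
  let c : K := φ b / φ 1
  refine ⟨c, ?_⟩
  have h1 := congrArg ((TensorProduct.rid K A).toLinearMap ∘ₗ TensorProduct.map LinearMap.id φ) hb
  simp only [Algebra.TensorProduct.includeRight_apply, LinearMap.comp_apply, LinearEquiv.coe_coe,
    TensorProduct.map_tmul, LinearMap.id_apply, TensorProduct.rid_tmul] at h1
  have h2 : (φ 1)⁻¹ • (φ 1 • (a : A)) = (φ 1)⁻¹ • (φ b • (1 : A)) := by rw [h1]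
  rw [smul_smul, inv_mul_cancel₀ hφ, one_smul, smul_smul, ← div_eq_inv_mul, Algebra.smul_def, _root_.mul_one] at h2
  exact h2.symm

/-- Conversely. -/
theorem isΓIso_snd (N V : Over (Spec (CommRingCat.of k))) [IsΓIso (toUnit N)]
    [QuasiCompact N.hom] [QuasiSeparated N.hom] [QuasiCompact V.hom] [QuasiSeparated V.hom] :
    IsΓIso (snd N V) := by
  have h : snd N V = (toUnit N ⊗ₘ 𝟙 V) ≫ (λ_ V).hom := by
    rw [leftUnitor_hom, tensorHom_snd, Category.comp_id]
  rw [h]
  exact isΓIso_comp _ _ (isΓIso_tensor _ _) inferInstance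

end AntiAffLib
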