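import Groth.Agent.CentLocusLib.Field
import Groth.Agent.GrpFieldLib.Neutral
import Groth.Agent.GrpFieldLib.Identity
import Groth.Agent.MonoQuotLib.Orbit
import Groth.Agent.FinHomLib.Affine
import Groth.Prelude

/-!
# Points commuting with all infinitesimal neighbourhoods of the unit of a connected group are central
-/

set_option autoImplicit false
set_option linter.style.haveILetI false
set_option backward.isDefEq.respectTransparency false
set_option maxHeartbeats 1600000

universe u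

open CategoryTheory CategoryTheory.Limits MonoidalCategory CartesianMonoidalCategory AlgebraicGeometry CoactBr
open scoped MonObj TensorProduct

noncomputable section

namespace AntiAffLib

attribute [-instance] CategoryTheory.Hom.commGroup

variable {k : Type u} [Field k] {G : Over (Spec (CommRingCat.of k))} [GrpObj G] [LocallyOfFiniteType G.hom]

/-- A point over an algebra commuting with all neighbourhoods of the unit commutes with an open neighbourhood. -/
theorem exists_open_commute {B : Type u} [CommRing B] [Algebra k B] [IsNoetherianRing B]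
    (g : sp k B ⟶ G) {A : Type u} [CommRing A] [Algebra k A] [Algebra.FiniteType k A] (ε : A →ₐ[k] k)
    (jA : sp k A ⟶ G) [IsOpenImmersion jA.left]
    [IsClosedImmersion (η[G] : 𝟙_ (Over (Spec (CommRingCat.of k))) ⟶ G).left]
    (hone : pt ε ≫ jA = 1)
    (hnb : ∀ (n : ℕ) (R : Type u) [CommRing R] [Algebra k R] (φ : A →ₐ[k] R),
      RingHom.ker ε ^ (n + 1) ≤ RingHom.ker φ → ∀ h : B →ₐ[k] R,
        (pt h ≫ g) * (pt φ ≫ jA) = (pt φ ≫ jA) * (pt h ≫ g)) :
    ∃ (U : Over (Spec (CommRingCat.of k))) (ju : U ⟶ sp k B ⊗ G), IsOpenImmersion ju.left ∧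
      (∃ e : sp k B ⟶ U, e ≫ ju = lift (𝟙 _) 1) ∧
      (ju ≫ fst (sp k B) G ≫ g) * (ju ≫ snd (sp k B) G) = (ju ≫ snd (sp k B) G) * (ju ≫ fst (sp k B) G ≫ g) := by
  classical
  let C : Type u := B ⊗[k] A
  let iL : B →ₐ[k] B ⊗[k] A := Algebra.TensorProduct.includeLeft
  let iR : A →ₐ[k] B ⊗[k] A := Algebra.TensorProduct.includeRight
  let a₀ : sp k (B ⊗[k] A) ⟶ G := pt iL ≫ g
  let b₀ : sp k (B ⊗[k] A) ⟶ G := pt iR ≫ jA
  obtain ⟨I₀, hI₀⟩ := Groth.Agent.CentLocus.exists_eq_one_ideal (a₀ * b₀ * a₀⁻¹ * b₀⁻¹)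
  have hcomm : ∀ (K : Type u) [CommRing K] [Algebra k K] (φ : B ⊗[k] A →ₐ[k] K),
      I₀ ≤ RingHom.ker φ ↔ (pt φ ≫ a₀) * (pt φ ≫ b₀) = (pt φ ≫ b₀) * (pt φ ≫ a₀) := by
    intro K _ _ φ
    rw [← hI₀, ← Groth.Agent.CentLocus.comm_iff_eq_one, MonObj.comp_mul, MonObj.comp_mul, MonObj.comp_mul,
      GrpObj.comp_inv, GrpObj.comp_inv]
  haveI : Algebra.FiniteType B (B ⊗[k] A) := inferInstance
  haveI : IsNoetherianRing (B ⊗[k] A) := Algebra.FiniteType.isNoetherianRing B (B ⊗[k] A)
  let εB : B ⊗[k] A →ₐ[k] B :=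
    Algebra.TensorProduct.lift (AlgHom.id k B) ((Algebra.ofId k B).comp ε) fun _ _ => Commute.all _ _
  let J : Ideal (B ⊗[k] A) := (RingHom.ker ε).map iR
  have hJ : ∀ z ∈ J, εB z = 0 := by
    have : J ≤ RingHom.ker εB := Ideal.map_le_iff_le_comap.2 fun a ha => by
      show εB (iR a) = 0
      simp [εB, iR, RingHom.mem_ker.1 ha]
    exact fun z hz => this hz
  have hpow : ∀ z ∈ I₀, z ∈ ⨅ i : ℕ, J ^ i • (⊤ : Submodule (B ⊗[k] A) (B ⊗[k] A)) := by
    intro z hz
    rw [Submodule.mem_iInf]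
    intro m
    rcases m with _ | n
    · simp
    let π : A →ₐ[k] A ⧸ RingHom.ker ε ^ (n + 1) := Ideal.Quotient.mkₐ k _
    let φ : B ⊗[k] A →ₐ[k] B ⊗[k] (A ⧸ RingHom.ker ε ^ (n + 1)) := Algebra.TensorProduct.map (AlgHom.id k B) π
    have h1 : I₀ ≤ RingHom.ker φ := by
      rw [hcomm]
      simp only [a₀, b₀, ← Category.assoc, ← pt_comp]
      refine hnb n _ _ (fun a ha => ?_) _
      show φ (iR a) = 0
      simp only [φ, iR, Algebra.TensorProduct.includeRight_apply, Algebra.TensorProduct.map_tmul]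
      rw [show π a = 0 from Ideal.Quotient.eq_zero_iff_mem.2 ha, TensorProduct.tmul_zero]
    have h2 : RingHom.ker φ = J ^ (n + 1) := by
      rw [← Ideal.map_pow]
      refine (Algebra.TensorProduct.lTensor_ker (A := B) (g := π) Ideal.Quotient.mk_surjective).trans ?_
      rw [show RingHom.ker π = RingHom.ker ε ^ (n + 1) from Ideal.Quotient.mkₐ_ker k _]
    simpa using h2 ▸ h1 hz
  obtain ⟨gens, hgens⟩ := (isNoetherian_def.1 (inferInstance : IsNoetherianRing (B ⊗[k] A))) I₀
  have hr' : ∀ z ∈ gens, ∃ r : J, (r : B ⊗[k] A) • z = z := fun z hz => by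
    rw [← Ideal.mem_iInf_smul_pow_eq_bot_iff J z]
    exact hpow z (hgens ▸ Submodule.subset_span hz)
  choose r hr using hr'
  let f : B ⊗[k] A := ∏ z ∈ gens.attach, (1 - (r z.1 z.2 : B ⊗[k] A))
  have hεf : εB f = 1 := by
    simp only [f, map_prod, map_sub, map_one]
    exact Finset.prod_eq_one fun z _ => by rw [hJ _ (r z.1 z.2).2, sub_zero]
  have hfI : ∀ z ∈ I₀, f * z = 0 := by
    intro c hc
    rw [← hgens] at hc
    induction hc using Submodule.span_induction with
    | mem z hz =>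
      obtain ⟨d, hd⟩ := Finset.dvd_prod_of_mem (fun z : gens => (1 - (r z.1 z.2 : B ⊗[k] A)))
        (Finset.mem_attach gens ⟨z, hz⟩)
      show (∏ z ∈ gens.attach, (1 - (r z.1 z.2 : B ⊗[k] A))) * z = 0
      rw [hd, mul_comm (1 - (r z hz : B ⊗[k] A)) d, _root_.mul_assoc, sub_mul, _root_.one_mul]
      have := hr z hz
      rw [smul_eq_mul] at this
      rw [this, sub_self, mul_zero]
    | zero => rw [mul_zero]
    | add x y _ _ hx hy => rw [mul_add, hx, hy, add_zero]
    | smul a x _ hx => rw [smul_eq_mul, mul_left_comm, hx, mul_zero]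
  let ι' : B ⊗[k] A →ₐ[k] Localization.Away f := IsScalarTower.toAlgHom k (B ⊗[k] A) (Localization.Away f)
  let ju : sp k (Localization.Away f) ⟶ sp k B ⊗ G := lift (pt ι' ≫ pt iL) (pt ι' ≫ pt iR ≫ jA)
  have hju : ju = pt ι' ≫ lift (pt iL) (pt iR) ≫ (sp k B ◁ jA) := by
    rw [lift_whiskerLeft, comp_lift]
  refine ⟨_, ju, ?_, ?_, ?_⟩
  · haveI := Groth.Agent.NormCent.isIso_U (R := k) B A
    haveI : IsIso (lift (pt iL) (pt iR)).left := inferInstanceAs (IsIso ((Over.forget _).map (lift (pt iL) (pt iR))))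
    haveI : IsOpenImmersion (pt ι').left := by
      rw [pt_left]
      exact IsOpenImmersion.of_isLocalization f
    haveI : IsOpenImmersion (sp k B ◁ jA).left :=
      MorphismProperty.of_isPullback (P := @IsOpenImmersion) (Groth.Agent.FinHom.isPullback_whiskerLeft (sp k B) jA).flip
        ‹IsOpenImmersion jA.left›
    rw [hju, Over.comp_left, Over.comp_left]
    infer_instance
  · have hu : IsUnit ((εB : B ⊗[k] A →+* B) f) := by
      rw [show (εB : B ⊗[k] A →+* B) f = εB f from rfl, hεf]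
      exact isUnit_one
    let εf : Localization.Away f →ₐ[k] B :=
      { IsLocalization.Away.lift f hu with
        commutes' := fun r => by
          show IsLocalization.Away.lift f hu (algebraMap k (Localization.Away f) r) = _
          rw [IsScalarTower.algebraMap_apply k (B ⊗[k] A) (Localization.Away f), IsLocalization.Away.lift_eq]
          exact εB.commutes r }
    have he : εf.comp ι' = εB := AlgHom.ext fun a => IsLocalization.Away.lift_eq f hu a
    refine ⟨pt εf, ?_⟩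
    rw [comp_lift, ← Category.assoc (pt εf), ← Category.assoc (pt εf), ← pt_comp, he, ← Category.assoc (pt εB),
      ← pt_comp, ← pt_comp, show εB.comp iL = AlgHom.id k B by ext; simp [εB, iL],
      show εB.comp iR = (Algebra.ofId k B).comp ε by ext; simp [εB, iR], pt_id, pt_comp, Category.assoc, hone,
      MonObj.comp_one]
  have h1 : I₀ ≤ RingHom.ker ι' := fun z hz => by
    have hu' : IsUnit (algebraMap (B ⊗[k] A) (Localization.Away f) f) := IsLocalization.Away.algebraMap_isUnit f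
    show algebraMap (B ⊗[k] A) (Localization.Away f) z = 0
    refine hu'.mul_right_eq_zero.1 ?_
    rw [← map_mul, hfI z hz, map_zero]
  rw [hcomm] at h1
  simpa only [ju, a₀, b₀, lift_fst_assoc, lift_snd, Category.assoc] using h1

/-- Commutation on a neighbourhood of the unit section spreads to a connected group. -/
theorem comm_of_open [QuasiCompact G.hom] [ConnectedSpace G.left] {Z U : Over (Spec (CommRingCat.of k))}
    [LocallyOfFiniteType Z.hom] (g : Z ⟶ G) (ju : U ⟶ Z ⊗ G) [IsOpenImmersion ju.left]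
    (e : Z ⟶ U) (he : e ≫ ju = lift (𝟙 Z) 1)
    (hc : (ju ≫ fst Z G ≫ g) * (ju ≫ snd Z G) = (ju ≫ snd Z G) * (ju ≫ fst Z G ≫ g)) :
    (fst Z G ≫ g) * snd Z G = snd Z G * (fst Z G ≫ g) := by
  haveI : Flat G.hom := Groth.Agent.GrpField.flat_field _
  haveI : GeometricallyIrreducible G.hom := by
    have h := Groth.Agent.GrpField.geometricallyIrreducible_of_range (G := G) (𝟙 G.left) (by
      rw [← Groth.Agent.GrpField.connectedComponent_unit, PreconnectedSpace.connectedComponent_eq_univ]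
      exact Set.range_eq_univ.2 fun x => ⟨x, rfl⟩)
    rwa [Category.id_comp] at h
  let d₁ : Z ⊗ (G ⊗ G) ⟶ Z ⊗ G := Z ◁ fst G G
  let d₂ : Z ⊗ (G ⊗ G) ⟶ Z ⊗ G := Z ◁ snd G G
  let dm : Z ⊗ (G ⊗ G) ⟶ Z ⊗ G := Z ◁ μ[G]
  let W := pullback (pullback.fst d₁ ju ≫ d₂) ju
  let w : W ⟶ Z ⊗ (G ⊗ G) := pullback.fst _ _ ≫ pullback.fst d₁ ju
  have ho : ∀ {X : Over (Spec (CommRingCat.of k))} (f : X ⟶ Z ⊗ G),
      IsOpenImmersion (pullback.fst f ju).left := fun f =>
    MorphismProperty.of_isPullback (P := @IsOpenImmersion) ((IsPullback.of_hasPullback f ju).map (Over.forget _)).flip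
      ‹IsOpenImmersion ju.left›
  haveI := ho d₁
  haveI := ho (pullback.fst d₁ ju ≫ d₂)
  haveI : IsOpenImmersion w.left := by rw [Over.comp_left]; infer_instance
  let m₂ : W ⟶ Z ⊗ G := w ≫ dm
  haveI : Flat (μ[G] : G ⊗ G ⟶ G).left := GrpShear.act_prop (GrpShear.mulAction G) @Flat inferInstance
  haveI : Flat dm.left := MorphismProperty.of_isPullback (P := @Flat) (Groth.Agent.FinHom.isPullback_whiskerLeft Z μ[G]).flip ‹_›
  haveI : Flat m₂.left := by rw [Over.comp_left]; infer_instance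
  haveI : LocallyOfFiniteType (Z ⊗ G).hom := by
    show LocallyOfFiniteType (pullback.fst Z.hom G.hom ≫ Z.hom); infer_instance
  haveI : LocallyOfFiniteType W.hom := by
    haveI : LocallyOfFiniteType (G ⊗ G).hom := by
      show LocallyOfFiniteType (pullback.fst G.hom G.hom ≫ G.hom); infer_instance
    haveI : LocallyOfFiniteType (Z ⊗ (G ⊗ G)).hom := by
      show LocallyOfFiniteType (pullback.fst Z.hom (G ⊗ G).hom ≫ Z.hom); infer_instance
    rw [← Over.w w]; infer_instance
  haveI : LocallyOfFinitePresentation m₂.left := by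
    haveI : IsLocallyNoetherian (Z ⊗ G).left := LocallyOfFiniteType.isLocallyNoetherian (Z ⊗ G).hom
    haveI : LocallyOfFiniteType (m₂.left ≫ (Z ⊗ G).hom) := by rw [Over.w m₂]; infer_instance
    haveI := locallyOfFiniteType_of_comp m₂.left (Z ⊗ G).hom
    exact LocallyOfFinitePresentation.iff_locallyOfFiniteType.2 inferInstance
  haveI : Surjective m₂.left := ⟨fun p => by
    let K := (Z ⊗ G).left.residueField p
    let T : Over (Spec (CommRingCat.of k)) := Over.mk ((Z ⊗ G).left.fromSpecResidueField p ≫ (Z ⊗ G).hom)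
    let t : T ⟶ Z ⊗ G := Over.homMk ((Z ⊗ G).left.fromSpecResidueField p) rfl
    haveI : IrreducibleSpace ↥(G ⊗ T).left :=
      GeometricallyIrreducible.geometrically_irreducibleSpace (f := G.hom) T.hom _ _
        (IsPullback.of_hasPullback G.hom T.hom)
    let x : G ⊗ T ⟶ G := fst G T
    let z : G ⊗ T ⟶ Z := snd G T ≫ t ≫ fst Z G
    let y : G ⊗ T ⟶ G := snd G T ≫ t ≫ snd Z G
    let ψ : G ⊗ T ⟶ G ⊗ T := lift (x⁻¹ * y) (snd G T)
    let ψ' : G ⊗ T ⟶ G ⊗ T := lift (y * x⁻¹) (snd G T)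
    have hy : ∀ f : G ⊗ T ⟶ G ⊗ T, f ≫ snd G T = snd G T → f ≫ y = y := fun f hf => by
      show f ≫ snd G T ≫ _ = snd G T ≫ _
      rw [reassoc_of% hf]
    haveI : IsIso ψ := ⟨ψ', by
      refine CartesianMonoidalCategory.hom_ext _ _ ?_ (by simp [ψ, ψ'])
      rw [Category.assoc, lift_fst, Category.id_comp, MonObj.comp_mul, GrpObj.comp_inv, hy ψ (lift_snd _ _),
        lift_fst, _root_.mul_inv_rev, inv_inv, mul_inv_cancel_left], by
      refine CartesianMonoidalCategory.hom_ext _ _ ?_ (by simp [ψ, ψ'])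
      rw [Category.assoc, lift_fst, Category.id_comp, MonObj.comp_mul, GrpObj.comp_inv, hy ψ' (lift_snd _ _),
        lift_fst, _root_.mul_inv_rev, inv_inv, inv_mul_cancel_right]⟩
    let O : Set (G ⊗ T).left := (lift z x).left ⁻¹' Set.range ju.left
    have hO : IsOpen O := ju.left.isOpenEmbedding.isOpen_range.preimage (lift z x).left.continuous
    let s : T ⟶ G ⊗ T := lift (1 : T ⟶ G) (𝟙 T)
    have hs : s ≫ lift z x = (t ≫ fst Z G) ≫ e ≫ ju := by
      rw [he, comp_lift, comp_lift, Category.comp_id, MonObj.comp_one,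
        show s ≫ x = 1 from lift_fst _ _, show s ≫ z = t ≫ fst Z G by simp [s, z]]
    let t₀ : T.left := IsLocalRing.closedPoint K
    have hne : O.Nonempty := ⟨s.left t₀, ⟨((t ≫ fst Z G) ≫ e).left t₀, by
      rw [← Category.assoc] at hs
      exact congr($(hs.symm).left t₀)⟩⟩
    haveI : IsIso ψ.left := inferInstanceAs (IsIso ((Over.forget _).map ψ))
    obtain ⟨u, hu₁, hu₂⟩ := nonempty_preirreducible_inter hO (hO.preimage ψ.left.continuous) hne
      (hne.preimage ψ.left.surjective)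
    let P : Over (Spec (CommRingCat.of k)) := Over.mk ((G ⊗ T).left.fromSpecResidueField u ≫ (G ⊗ T).hom)
    let π : P ⟶ G ⊗ T := Over.homMk ((G ⊗ T).left.fromSpecResidueField u) rfl
    have hfac : ∀ f : G ⊗ T ⟶ Z ⊗ G, f.left u ∈ Set.range ju.left → ∃ l : P ⟶ U, l ≫ ju = π ≫ f := by
      intro f hf
      have hr : Set.range (π ≫ f).left ⊆ Set.range ju.left := by
        rintro _ ⟨q, rfl⟩
        rw [Over.comp_left, Scheme.Hom.comp_apply]
        have : π.left q = u := Scheme.fromSpecResidueField_apply u q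
        rw [this]
        exact hf
      exact ⟨Over.homMk (IsOpenImmersion.lift ju.left (π ≫ f).left hr) (by
        rw [← Over.w ju, IsOpenImmersion.lift_fac_assoc]; exact Over.w (π ≫ f)), Over.OverMorphism.ext (IsOpenImmersion.lift_fac _ _ _)⟩
    have hψz : ψ ≫ lift z x = lift z (x⁻¹ * y) := by
      rw [comp_lift]
      congr 1
      · show ψ ≫ snd G T ≫ _ = snd G T ≫ _
        rw [reassoc_of% (show ψ ≫ snd G T = snd G T from lift_snd _ _)]
      · exact lift_fst _ _
    obtain ⟨l₁, hl₁⟩ := hfac (lift z x) hu₁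
    obtain ⟨l₂, hl₂⟩ := hfac (ψ ≫ lift z x) (by rw [Over.comp_left, Scheme.Hom.comp_apply]; exact hu₂)
    let c : P ⟶ Z ⊗ (G ⊗ G) := π ≫ lift z (lift x (x⁻¹ * y))
    have hd₁ : c ≫ d₁ = l₁ ≫ ju := by rw [hl₁, Category.assoc, lift_whiskerLeft, lift_fst]
    have hd₂ : c ≫ d₂ = l₂ ≫ ju := by rw [hl₂, hψz, Category.assoc, lift_whiskerLeft, lift_snd]
    let cW : P ⟶ W := pullback.lift (pullback.lift c l₁ hd₁) l₂ (by rw [pullback.lift_fst_assoc, hd₂])
    have hW : cW ≫ m₂ = π ≫ snd G T ≫ t := by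
      show cW ≫ w ≫ dm = _
      rw [show cW ≫ w ≫ dm = c ≫ dm by
        simp only [cW, w, Category.assoc, pullback.lift_fst_assoc], Category.assoc, lift_whiskerLeft]
      congr 1
      refine CartesianMonoidalCategory.hom_ext _ _ (by simp [z]) ?_
      rw [lift_snd, ← Hom.mul_def, mul_inv_cancel_left, Category.assoc]
    let q₀ : P.left := IsLocalRing.closedPoint ((G ⊗ T).left.residueField u)
    refine ⟨cW.left q₀, ?_⟩
    have e1 : (cW ≫ m₂).left q₀ = t.left ((π ≫ snd G T).left q₀) := by rw [hW]; rfl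
    refine Eq.trans ?_ (Scheme.fromSpecResidueField_apply p ((π ≫ snd G T).left q₀))
    exact e1⟩
  haveI := Groth.Agent.MonoQuot.epi_over m₂
  let gZ : W ⟶ G := m₂ ≫ fst Z G ≫ g
  let x₁ : W ⟶ G := w ≫ snd Z (G ⊗ G) ≫ fst G G
  let x₂ : W ⟶ G := w ≫ snd Z (G ⊗ G) ≫ snd G G
  have key : ∀ (l : W ⟶ U) (xx : W ⟶ G), l ≫ ju ≫ fst Z G = m₂ ≫ fst Z G → l ≫ ju ≫ snd Z G = xx →
      gZ * xx = xx * gZ := by
    intro l xx h1 h2
    have h := congrArg (l ≫ ·) hc
    simp only [MonObj.comp_mul] at h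
    rwa [show l ≫ ju ≫ fst Z G ≫ g = gZ by rw [reassoc_of% h1], h2] at h
  have hdm : m₂ ≫ fst Z G = w ≫ fst Z (G ⊗ G) := by simp [m₂, dm]
  have k₁ : gZ * x₁ = x₁ * gZ := key (pullback.fst _ _ ≫ pullback.snd d₁ ju) x₁
    (by rw [hdm, Category.assoc, ← pullback.condition_assoc]; simp [w, d₁])
    (by rw [Category.assoc, ← pullback.condition_assoc]; simp [x₁, w, d₁])
  have k₂ : gZ * x₂ = x₂ * gZ := key (pullback.snd _ _) x₂
    (by rw [hdm, ← pullback.condition_assoc]; simp [w, d₂])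
    (by rw [← pullback.condition_assoc]; simp [x₂, w, d₂])
  rw [← cancel_epi m₂, MonObj.comp_mul, MonObj.comp_mul,
    show m₂ ≫ snd Z G = x₁ * x₂ by
      rw [Hom.mul_def, show lift x₁ x₂ = w ≫ snd Z (G ⊗ G) by
        simp only [x₁, x₂, ← comp_lift, lift_fst_snd, Category.comp_id]]
      simp [m₂, dm]]
  show gZ * (x₁ * x₂) = x₁ * x₂ * gZ
  rw [← _root_.mul_assoc, k₁, _root_.mul_assoc, k₂, _root_.mul_assoc]

end AntiAffLib
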