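import Groth.Agent.AntiAffLib.CentreLocus
import Groth.Agent.AntiAffLib.CentreDetect
import Groth.Agent.AntiAffLib.KerSub
import Groth.Agent.GrpHomLib.FlatImage
import Groth.Prelude

/-!
# The centre of a connected algebraic group and the affineness of the adjoint quotient
-/

set_option autoImplicit false
set_option linter.style.haveILetI false
set_option backward.isDefEq.respectTransparency false
set_option maxHeartbeats 1600000

universe u

open CategoryTheory CategoryTheory.Limits MonoidalCategory CartesianMonoidalCategory AlgebraicGeometry CoactBr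
open scoped MonObj TensorProduct

noncomputable section

namespace AntiAffLib

attribute [-instance] CategoryTheory.Hom.commGroup

variable {k : Type u} [Field k]

/-- A connected algebraic group has a closed centre, and the quotient by it is affine. -/
theorem exists_centre (G : Over (Spec (CommRingCat.of k))) [GrpObj G] [LocallyOfFiniteType G.hom]
    [QuasiCompact G.hom] [ConnectedSpace G.left] :
    ∃ (Z : Over (Spec (CommRingCat.of k))) (_ : GrpObj Z) (i : Z ⟶ G), IsMonHom i ∧ IsClosedImmersion i.left ∧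
      (∀ (T : Over (Spec (CommRingCat.of k))) (g : T ⟶ G),
        (∃ z : T ⟶ Z, z ≫ i = g) ↔ ∀ (T' : Over (Spec (CommRingCat.of k))) (t : T' ⟶ T) (h : T' ⟶ G), (t ≫ g) * h = h * (t ≫ g)) ∧
      ∃ (Q : Over (Spec (CommRingCat.of k))) (_ : GrpObj Q) (q : G ⟶ Q), IsMonHom q ∧ IsAffine Q.left ∧
        LocallyOfFiniteType Q.hom ∧ Flat q.left ∧ Surjective q.left ∧ AlgGrp.IsKernel i q := by
  haveI : IsSeparated G.hom := Groth.Agent.GrpField.isSeparated_grp (G := G)
  haveI : Subsingleton ↥(𝟙_ (Over (Spec (CommRingCat.of k)))).left :=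
    inferInstanceAs (Subsingleton (PrimeSpectrum k))
  haveI : IsClosedImmersion (η[G] : 𝟙_ (Over (Spec (CommRingCat.of k))) ⟶ G).left :=
    isClosedImmersion_of_comp_eq_id _ _ (Over.w (η[G] : 𝟙_ (Over (Spec (CommRingCat.of k))) ⟶ G))
  let pk : Spec (CommRingCat.of k) := IsLocalRing.closedPoint k
  obtain ⟨V, hV, heV, -⟩ := exists_isAffineOpen_mem_and_subset (X := G.left)
    (x := (η[G] : 𝟙_ (Over (Spec (CommRingCat.of k))) ⟶ G).left pk) (U := ⊤) trivial
  obtain ⟨A, _, _, ε, jA, hft, hoi, hmono, hone, hfac⟩ := Groth.Agent.CentLocus.exists_chart V hV (by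
    rintro _ ⟨y, rfl⟩
    rw [show y = pk from @Subsingleton.elim (PrimeSpectrum k) _ y pk]
    exact heV)
  haveI := hft; haveI := hoi; haveI := hmono
  choose a ha using fun n : ℕ => exists_nbhd_action G ε jA hone hfac n (A ⧸ RingHom.ker ε ^ (n + 1))
    (Ideal.Quotient.mkₐ k _) Ideal.Quotient.mk_surjective (Ideal.Quotient.mkₐ_ker k _)
  obtain ⟨K, _, c, _, _, hKn, hK⟩ := exists_trivAct_subgroup a
  obtain ⟨Q, _, π, _, _, ⟨_, _, _⟩, hπ⟩ := exists_affine_kernel' c hKn
  let q : G ⟶ Q := toHull G ≫ π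
  haveI : Flat q.left := by rw [Over.comp_left]; infer_instance
  haveI : Surjective q.left := by rw [Over.comp_left]; infer_instance
  obtain ⟨Z, _, i, _, _, hZ, -⟩ := exists_kernel q
  have hq1 : ∀ (T : Over (Spec (CommRingCat.of k))) (g : T ⟶ G),
      (∃ z, z ≫ i = g) ↔ ∀ n, TrivAct (a n) (g ≫ toHull G) := by
    intro T g
    rw [← hK, ← hπ, Category.assoc]
    exact ⟨fun ⟨z, hz⟩ => by rw [← hz, Category.assoc, hZ.w, ← Category.assoc, toUnit_unique (z ≫ _) (toUnit T),
      ← Hom.one_def], fun h => ⟨hZ.lift g (toUnit _) (by rw [h, Hom.one_def]), hZ.lift_fst _ _ _⟩⟩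
  haveI : LocallyOfFiniteType Z.hom := by rw [← Over.w i]; infer_instance
  refine ⟨Z, inferInstance, i, inferInstance, inferInstance, ?_, Q, inferInstance, q, inferInstance, inferInstance,
    inferInstance, inferInstance, inferInstance, hZ⟩
  have hcentral : (fst Z G ≫ i) * snd Z G = snd Z G * (fst Z G ≫ i) := by
    -- check on affine pieces
    have hloc : ∀ (B : Type u) [CommRing B] [Algebra k B] [IsNoetherianRing B] (w : sp k B ⟶ Z)
        [LocallyOfFiniteType (sp k B).hom],
        (fst (sp k B) G ≫ w ≫ i) * snd (sp k B) G = snd (sp k B) G * (fst (sp k B) G ≫ w ≫ i) := by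
      intro B _ _ _ w _
      have hnb : ∀ (n : ℕ) (R : Type u) [CommRing R] [Algebra k R] (φ : A →ₐ[k] R),
          RingHom.ker ε ^ (n + 1) ≤ RingHom.ker φ → ∀ h : B →ₐ[k] R,
            (pt h ≫ w ≫ i) * (pt φ ≫ jA) = (pt φ ≫ jA) * (pt h ≫ w ≫ i) := by
        intro n R _ _ φ hφ h
        let ψ : A ⧸ RingHom.ker ε ^ (n + 1) →ₐ[k] R := Ideal.Quotient.liftₐ _ φ hφ
        have ht := (hq1 _ (pt h ≫ w ≫ i)).1 ⟨pt h ≫ w, Category.assoc _ _ _⟩ n _ (𝟙 _) (pt ψ)
        rw [Category.id_comp] at ht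
        have h2 := ha n _ (pt h ≫ w ≫ i) (pt ψ)
        rw [ht] at h2
        have e : pt ψ ≫ pt (Ideal.Quotient.mkₐ k (RingHom.ker ε ^ (n + 1))) ≫ jA = pt φ ≫ jA := by
          rw [← Category.assoc, ← pt_comp]
          congr 2
        rw [e] at h2
        exact (mul_inv_eq_iff_eq_mul.1 h2.symm)
      obtain ⟨U, ju, hju, ⟨e, he⟩, hc⟩ := exists_open_commute (w ≫ i) ε jA hone hnb
      haveI := hju
      exact comm_of_open (w ≫ i) ju e he hc
    refine Over.OverMorphism.ext ?_
    refine Scheme.Cover.hom_ext (Z.left.affineCover.pullback₁ (fst Z G).left) _ _ fun j => ?_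
    obtain ⟨φ, hφ⟩ := Spec.map_surjective ((Z.left.affineCover.X j).isoSpec.inv ≫ Z.left.affineCover.f j ≫ Z.hom)
    letI : Algebra k Γ(Z.left.affineCover.X j, ⊤) := φ.hom.toAlgebra
    let w : sp k Γ(Z.left.affineCover.X j, ⊤) ⟶ Z :=
      Over.homMk ((Z.left.affineCover.X j).isoSpec.inv ≫ Z.left.affineCover.f j) (by
        rw [Category.assoc]; exact hφ.symm)
    haveI : LocallyOfFiniteType (sp k Γ(Z.left.affineCover.X j, ⊤)).hom := by
      haveI : IsOpenImmersion w.left := inferInstanceAs (IsOpenImmersion (_ ≫ _))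
      rw [← Over.w w]; infer_instance
    haveI : IsNoetherianRing Γ(Z.left.affineCover.X j, ⊤) := by
      haveI : IsLocallyNoetherian Z.left := LocallyOfFiniteType.isLocallyNoetherian Z.hom
      haveI : IsLocallyNoetherian (Z.left.affineCover.X j) := isLocallyNoetherian_of_isOpenImmersion (Z.left.affineCover.f j)
      exact IsLocallyNoetherian.component_noetherian ⟨⊤, isAffineOpen_top _⟩
    let p := pullback.fst (fst Z G).left (Z.left.affineCover.f j)
    let P' : Over (Spec (CommRingCat.of k)) := Over.mk (p ≫ (Z ⊗ G).hom)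
    let u : P' ⟶ Z ⊗ G := Over.homMk p rfl
    let tl : P'.left ⟶ Spec (CommRingCat.of Γ(Z.left.affineCover.X j, ⊤)) :=
      pullback.snd (fst Z G).left (Z.left.affineCover.f j) ≫ (Z.left.affineCover.X j).isoSpec.hom
    have htw : tl ≫ w.left = p ≫ (fst Z G).left := by
      show _ ≫ (Z.left.affineCover.X j).isoSpec.inv ≫ Z.left.affineCover.f j = _
      simp only [tl, p, Category.assoc, Iso.hom_inv_id_assoc]
      exact pullback.condition.symm
    let t : P' ⟶ sp k Γ(Z.left.affineCover.X j, ⊤) := Over.homMk tl (by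
      rw [← Over.w w, reassoc_of% htw, Over.w (fst Z G)]
      rfl)
    have ht : t ≫ w = u ≫ fst Z G := Over.OverMorphism.ext htw
    have hw := congrArg (lift t (u ≫ snd Z G) ≫ ·) (hloc _ w)
    simp only [MonObj.comp_mul, lift_fst_assoc, lift_snd, reassoc_of% ht] at hw
    have hw' : u ≫ ((fst Z G ≫ i) * snd Z G) = u ≫ (snd Z G * (fst Z G ≫ i)) := by
      simpa only [MonObj.comp_mul] using hw
    exact congrArg CommaMorphism.left hw'
  intro T g
  refine ⟨?_, fun hg => (hq1 T g).2 fun n T' t x => ?_⟩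
  · rintro ⟨z, rfl⟩ T' t h
    have e := congrArg (lift (t ≫ z) h ≫ ·) hcentral
    simpa only [MonObj.comp_mul, lift_fst_assoc, lift_snd, Category.assoc] using e
  · have h2 := ha n T' (t ≫ g) x
    rw [Category.assoc t g] at h2
    haveI : Mono (pt (Ideal.Quotient.mkₐ k (RingHom.ker ε ^ (n + 1)))) := by
      haveI : IsClosedImmersion (pt (Ideal.Quotient.mkₐ k (RingHom.ker ε ^ (n + 1)))).left :=
        IsClosedImmersion.spec_of_surjective _ Ideal.Quotient.mk_surjective
      exact Over.mono_of_mono_left _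
    rw [← cancel_mono (pt (Ideal.Quotient.mkₐ k (RingHom.ker ε ^ (n + 1))) ≫ jA), h2,
      ← Category.assoc, hg T' t, mul_inv_cancel_right]

end AntiAffLib

namespace AntiAffLib

open CategoryTheory CategoryTheory.Limits MonoidalCategory CartesianMonoidalCategory AlgebraicGeometry
open scoped MonObj

attribute [-instance] CategoryTheory.Hom.commGroup

variable {k : Type u} [Field k]

/-- The quotient of a connected algebraic group by its centre is affine. -/
theorem isAffine_quotient_centre {G Z Q : Over (Spec (CommRingCat.of k))} [GrpObj G] [LocallyOfFiniteType G.hom]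
    [QuasiCompact G.hom] [ConnectedSpace G.left] [GrpObj Z] (j : Z ⟶ G) (hZ : Red.IsCentre j) [GrpObj Q]
    [LocallyOfFiniteType Q.hom] (q : G ⟶ Q) [IsMonHom q] [Surjective q.left] [Flat q.left]
    (hker : AlgGrp.IsKernel j q) : IsAffine Q.left := by
  obtain ⟨Z₀, _, i, _, _, hiff, Q₀, _, q₀, _, _, _, _, _, hk₀⟩ := exists_centre G
  obtain ⟨-, -, hc⟩ := hZ
  have hj : ∀ (T : Over (Spec (CommRingCat.of k))) (g : T ⟶ G), (∃ z, z ≫ j = g) ↔ ∃ z, z ≫ i = g := by
    intro T g
    rw [hiff, hc]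
    simp only [Category.comp_id]
  have hk : ∀ {N P : Over (Spec (CommRingCat.of k))} [GrpObj P] (n : N ⟶ G) (p : G ⟶ P), AlgGrp.IsKernel n p →
      ∀ (T : Over (Spec (CommRingCat.of k))) (g : T ⟶ G), g ≫ p = 1 ↔ ∃ z, z ≫ n = g := by
    intro N P _ n p hn T g
    refine ⟨fun h => ⟨hn.lift g (toUnit _) (by rw [h, Hom.one_def]), hn.lift_fst _ _ _⟩, ?_⟩
    rintro ⟨z, rfl⟩
    rw [Category.assoc, hn.w, ← Category.assoc, toUnit_unique (z ≫ toUnit N) (toUnit T), ← Hom.one_def]
  have heq : ∀ (T : Over (Spec (CommRingCat.of k))) (g : T ⟶ G), g ≫ q = 1 ↔ g ≫ q₀ = 1 := fun T g => by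
    rw [hk j q hker, hk i q₀ hk₀, hj]
  haveI : IsLocallyNoetherian Q.left := LocallyOfFiniteType.isLocallyNoetherian Q.hom
  haveI : IsLocallyNoetherian Q₀.left := LocallyOfFiniteType.isLocallyNoetherian Q₀.hom
  haveI : LocallyOfFinitePresentation q.left := by
    haveI : LocallyOfFiniteType (q.left ≫ Q.hom) := by rw [Over.w q]; infer_instance
    haveI := locallyOfFiniteType_of_comp q.left Q.hom
    exact LocallyOfFinitePresentation.iff_locallyOfFiniteType.2 inferInstance
  haveI : LocallyOfFinitePresentation q₀.left := by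
    haveI : LocallyOfFiniteType (q₀.left ≫ Q₀.hom) := by rw [Over.w q₀]; infer_instance
    haveI := locallyOfFiniteType_of_comp q₀.left Q₀.hom
    exact LocallyOfFinitePresentation.iff_locallyOfFiniteType.2 inferInstance
  have hd : ∀ {P P' : Over (Spec (CommRingCat.of k))} [GrpObj P] [GrpObj P'] (p : G ⟶ P) (p' : G ⟶ P') [IsMonHom p]
      [IsMonHom p'], (∀ T (g : T ⟶ G), g ≫ p = 1 → g ≫ p' = 1) →
      ∀ (T : Over (Spec (CommRingCat.of k))) (a b : T ⟶ G), a ≫ p = b ≫ p → a ≫ p' = b ≫ p' := by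
    intro P P' _ _ p p' _ _ h T a b e
    have := h T (a * b⁻¹) (by rw [MonObj.mul_comp, GrpObj.inv_comp, e, mul_inv_cancel])
    rwa [MonObj.mul_comp, GrpObj.inv_comp, mul_inv_eq_one] at this
  obtain ⟨y, hy⟩ := Groth.Agent.MonoQuot.exists_desc_over q q₀ (hd q q₀ fun T g => (heq T g).1)
  obtain ⟨y', hy'⟩ := Groth.Agent.MonoQuot.exists_desc_over q₀ q (hd q₀ q fun T g => (heq T g).2)
  haveI := Groth.Agent.MonoQuot.epi_over q
  haveI := Groth.Agent.MonoQuot.epi_over q₀
  haveI : IsIso y := ⟨y', by rw [← cancel_epi q, ← Category.assoc, hy, hy', Category.comp_id],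
    by rw [← cancel_epi q₀, ← Category.assoc, hy', hy, Category.comp_id]⟩
  haveI : IsIso y.left := inferInstanceAs (IsIso ((Over.forget _).map y))
  exact IsAffine.of_isIso y.left

end AntiAffLib
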