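import Groth.Agent.AntiAffLib.CentreNbhd
import Groth.Agent.AntiAffLib.AffineQuot
import Groth.Agent.MonoQuotLib.Orbit
import Groth.Prelude

/-!
# The subgroup of an affine group acting trivially on a family of affine schemes
-/

set_option autoImplicit false
set_option linter.style.haveILetI false
set_option backward.isDefEq.respectTransparency false
set_option maxHeartbeats 1600000

universe u

open CategoryTheory CategoryTheory.Limits MonoidalCategory CartesianMonoidalCategory AlgebraicGeometry CoactBr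
open scoped MonObj TensorProduct

noncomputable section

namespace AntiAffLib

attribute [-instance] CategoryTheory.Hom.commGroup

variable {k : Type u} [Field k]

/-- A point acting trivially, universally. -/
def TrivAct {H X : Over (Spec (CommRingCat.of k))} [GrpObj H] (a : AlgGrp.Action H X)
    {T : Over (Spec (CommRingCat.of k))} (h : T ⟶ H) : Prop :=
  ∀ (T' : Over (Spec (CommRingCat.of k))) (t : T' ⟶ T) (x : T' ⟶ X), lift (t ≫ h) x ≫ a.act = x

theorem TrivAct.comp {H X : Over (Spec (CommRingCat.of k))} [GrpObj H] {a : AlgGrp.Action H X}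
    {T T₁ : Over (Spec (CommRingCat.of k))} {h : T ⟶ H} (ht : TrivAct a h) (g : T₁ ⟶ T) : TrivAct a (g ≫ h) :=
  fun T' t x => by rw [← Category.assoc]; exact ht T' (t ≫ g) x

theorem trivAct_iff {H X : Over (Spec (CommRingCat.of k))} [GrpObj H] (a : AlgGrp.Action H X)
    {T : Over (Spec (CommRingCat.of k))} (h : T ⟶ H) :
    TrivAct a h ↔ lift (fst T X ≫ h) (snd T X) ≫ a.act = snd T X := by
  refine ⟨fun ht => ht _ _ _, fun e T' t x => ?_⟩
  have := congrArg (lift t x ≫ ·) e
  simpa only [← Category.assoc, comp_lift, lift_fst, lift_snd] using this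

/-- The closed locus of the points of an affine group acting trivially. -/
theorem exists_trivAct_ideal {H : Over (Spec (CommRingCat.of k))} [GrpObj H] {R₀ : Type u} [CommRing R₀]
    [Algebra k R₀] (v : sp k R₀ ⟶ H) {B : Type u} [CommRing B] [Algebra k B] (a : AlgGrp.Action H (sp k B)) :
    ∃ I : Ideal R₀, ∀ (R : Type u) [CommRing R] [Algebra k R] (φ : R₀ →ₐ[k] R),
      TrivAct a (pt φ ≫ v) ↔ I ≤ RingHom.ker φ := by
  haveI := Groth.Agent.NormCent.isIso_U (R := k) R₀ B
  obtain ⟨ρ, hρ⟩ := Groth.Agent.DiagRep.exists_pt (lift (pt (Algebra.TensorProduct.includeLeft : R₀ →ₐ[k] R₀ ⊗[k] B) ≫ v)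
    (pt (Algebra.TensorProduct.includeRight : B →ₐ[k] R₀ ⊗[k] B)) ≫ a.act)
  let b := Module.Free.chooseBasis k B
  let bR := Algebra.TensorProduct.basis R₀ b
  let I : Ideal R₀ := Ideal.span {c | ∃ x i, bR.repr (ρ x - 1 ⊗ₜ[k] x) i = c}
  refine ⟨I, fun R _ _ φ => ?_⟩
  let ψ : R₀ ⊗[k] B →ₐ[k] R ⊗[k] B := Algebra.TensorProduct.map φ (AlgHom.id k B)
  let bR' := Algebra.TensorProduct.basis R b
  have hnat : ∀ z i, bR'.repr (ψ z) i = φ (bR.repr z i) := by
    intro z i
    induction z using TensorProduct.induction_on with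
    | zero => simp
    | add x y hx hy => simp only [map_add, Finsupp.add_apply, hx, hy]
    | tmul x y => simp [ψ, bR, bR', Algebra.smul_def]
  haveI := Groth.Agent.NormCent.isIso_U (R := k) R B
  have key : TrivAct a (pt φ ≫ v) ↔ pt (ψ.comp ρ) = pt (Algebra.TensorProduct.includeRight : B →ₐ[k] R ⊗[k] B) := by
    rw [trivAct_iff, ← cancel_epi (lift (pt (Algebra.TensorProduct.includeLeft : R →ₐ[k] R ⊗[k] B))
      (pt (Algebra.TensorProduct.includeRight : B →ₐ[k] R ⊗[k] B))), ← Category.assoc, comp_lift, lift_fst_assoc,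
      lift_snd, pt_comp, ← hρ, ← Category.assoc (pt ψ), comp_lift, ← Category.assoc (pt ψ), ← Category.assoc (pt _) (pt φ),
      ← pt_comp, ← pt_comp, ← pt_comp,
      show ψ.comp Algebra.TensorProduct.includeLeft = (Algebra.TensorProduct.includeLeft : R →ₐ[k] R ⊗[k] B).comp φ by
        ext a; simp [ψ],
      show ψ.comp Algebra.TensorProduct.includeRight = (Algebra.TensorProduct.includeRight : B →ₐ[k] R ⊗[k] B) by
        ext a; simp [ψ]]
  rw [key]
  constructor
  · intro e
    refine Ideal.span_le.2 ?_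
    rintro _ ⟨x, i, rfl⟩
    have e' := AlgHom.congr_fun (pt_injective e) x
    show φ _ = 0
    rw [← hnat, map_sub, show ψ (ρ x) = Algebra.TensorProduct.includeRight x from e']
    simp [ψ]
  · intro hI
    refine congrArg pt (AlgHom.ext fun x => ?_)
    rw [← sub_eq_zero]
    apply bR'.repr.injective
    ext i
    have : φ (bR.repr (ρ x - 1 ⊗ₜ[k] x) i) = 0 := hI (Ideal.subset_span ⟨x, i, rfl⟩)
    rw [← hnat, map_sub] at this
    simpa [ψ] using this

/-- The points of an affine group acting trivially on a family form a closed normal subgroup. -/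
theorem exists_trivAct_subgroup {H : Over (Spec (CommRingCat.of k))} [GrpObj H] [IsAffine H.left] {J : Type*}
    {B : J → Type u} [∀ j, CommRing (B j)] [∀ j, Algebra k (B j)] (a : ∀ j, AlgGrp.Action H (sp k (B j))) :
    ∃ (K : Over (Spec (CommRingCat.of k))) (_ : GrpObj K) (i : K ⟶ H), IsMonHom i ∧ IsClosedImmersion i.left ∧
      AlgGrp.IsNormalHom i ∧
      ∀ (T : Over (Spec (CommRingCat.of k))) (h : T ⟶ H), (∃ l, l ≫ i = h) ↔ ∀ j, TrivAct (a j) h := by
  obtain ⟨R₀, _, _, ⟨v⟩⟩ := exists_sp_iso H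
  choose I hI using fun j => exists_trivAct_ideal v.hom (a j)
  let q : R₀ →ₐ[k] R₀ ⧸ ⨆ j, I j := Ideal.Quotient.mkₐ k _
  let i : sp k (R₀ ⧸ ⨆ j, I j) ⟶ H := pt q ≫ v.hom
  haveI : IsIso v.hom.left := inferInstanceAs (IsIso ((Over.forget _).map v.hom))
  haveI : IsClosedImmersion i.left := by
    haveI : IsClosedImmersion (pt q).left := IsClosedImmersion.spec_of_surjective _ Ideal.Quotient.mk_surjective
    rw [Over.comp_left]
    infer_instance
  haveI : Mono i := Over.mono_of_mono_left i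
  have hiff : ∀ (T : Over (Spec (CommRingCat.of k))) (h : T ⟶ H), (∃ l, l ≫ i = h) ↔ ∀ j, TrivAct (a j) h := by
    intro T h
    constructor
    · rintro ⟨l, rfl⟩ j
      exact TrivAct.comp ((hI j _ q).2 fun x hx => Ideal.Quotient.eq_zero_iff_mem.2 (le_iSup I j hx)) l
    · intro ht
      refine exists_factor_of_affine i h fun R _ _ w => ?_
      obtain ⟨φ, hφ⟩ := Groth.Agent.DiagRep.exists_pt (w ≫ h ≫ v.inv)
      have hφ' : w ≫ h = pt φ ≫ v.hom := by rw [← hφ]; simp
      have hle : (⨆ j, I j) ≤ RingHom.ker φ := iSup_le fun j => (hI j R φ).1 (hφ' ▸ TrivAct.comp (ht j) w)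
      refine ⟨pt (Ideal.Quotient.liftₐ _ φ hle), ?_⟩
      rw [hφ', ← Category.assoc, ← pt_comp]
      congr 2
  have hl : ∀ {T : Over (Spec (CommRingCat.of k))} (h : T ⟶ H), (∀ j, TrivAct (a j) h) → ∃ l, l ≫ i = h :=
    fun h => (hiff _ h).2
  have htriv : ∀ {T : Over (Spec (CommRingCat.of k))} (l : T ⟶ sp k (R₀ ⧸ ⨆ j, I j)) (j : J), TrivAct (a j) (l ≫ i) :=
    fun l => (hiff _ _).1 ⟨l, rfl⟩
  have hmul : ∀ {T : Over (Spec (CommRingCat.of k))} {g h : T ⟶ H} (j : J), TrivAct (a j) g → TrivAct (a j) h →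
      TrivAct (a j) (g * h) := by
    intro T g h j hg hh T' t x
    rw [MonObj.comp_mul, Groth.Agent.MonoQuot.act_mul, hh T' t x, hg T' t x]
  have hinv : ∀ {T : Over (Spec (CommRingCat.of k))} {g : T ⟶ H} (j : J), TrivAct (a j) g → TrivAct (a j) g⁻¹ := by
    intro T g j hg T' t x
    rw [GrpObj.comp_inv]
    conv_lhs => rw [show x = lift (t ≫ g) x ≫ (a j).act from (hg T' t x).symm]
    rw [← Groth.Agent.MonoQuot.act_mul, inv_mul_cancel, Groth.Agent.MonoQuot.act_one]
  obtain ⟨_, hm⟩ := Groth.Agent.SubDesc.exists_grpObj_of_mono i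
    (hl _ fun j => hmul j (htriv _ j) (htriv _ j))
    (hl 1 fun j T' t x => by rw [MonObj.comp_one, Groth.Agent.MonoQuot.act_one])
    (hl _ fun j => hinv j (by simpa using htriv (𝟙 _) j))
  refine ⟨_, inferInstance, i, hm, inferInstance, fun T g n => ?_, hiff⟩
  obtain ⟨l, hl'⟩ := hl (g * (n ≫ i) * g⁻¹) fun j T' t x => by
    rw [MonObj.comp_mul, MonObj.comp_mul, GrpObj.comp_inv, Groth.Agent.MonoQuot.act_mul,
      Groth.Agent.MonoQuot.act_mul, htriv n j T' t, ← Groth.Agent.MonoQuot.act_mul, mul_inv_cancel,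
      Groth.Agent.MonoQuot.act_one]
  exact ⟨l, hl'.symm⟩

end AntiAffLib
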