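import Groth.Agent.AntiAffLib.Affinize
import Groth.Agent.MonoQuotLib.Orbit
import Groth.Agent.CentLocusLib.Piece
import Groth.Agent.NormCentLib.Chart
import Groth.Agent.DiagRepLib.Scheme
import Groth.Prelude

/-!
# The adjoint actions on the infinitesimal neighbourhoods of the unit
-/

set_option autoImplicit false
set_option linter.style.haveILetI false
set_option backward.isDefEq.respectTransparency false
set_option maxHeartbeats 1600000

universe u

open CategoryTheory CategoryTheory.Limits MonoidalCategory CartesianMonoidalCategory AlgebraicGeometry CoactBr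
open scoped MonObj TensorProduct

noncomputable section

namespace AntiAffLib

attribute [-instance] CategoryTheory.Hom.commGroup

variable {k : Type u} [Field k]

/-- A morphism factors through a monomorphism when it does so on the affine pieces. -/
theorem exists_factor_of_affine {Z G T : Over (Spec (CommRingCat.of k))} (i : Z ⟶ G) [Mono i] (y : T ⟶ G)
    (h : ∀ (R : Type u) [CommRing R] [Algebra k R] (w : sp k R ⟶ T), ∃ l, l ≫ i = w ≫ y) :
    ∃ l : T ⟶ Z, l ≫ i = y := by
  have hex : ∀ j : T.left.affineCover.I₀, ∃ l : T.left.affineCover.X j ⟶ Z.left,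
      l ≫ Z.hom = T.left.affineCover.f j ≫ T.hom ∧ l ≫ i.left = T.left.affineCover.f j ≫ y.left := by
    intro j
    obtain ⟨φ, hφ⟩ := Spec.map_surjective
      ((T.left.affineCover.X j).isoSpec.inv ≫ T.left.affineCover.f j ≫ T.hom)
    letI : Algebra k Γ(T.left.affineCover.X j, ⊤) := φ.hom.toAlgebra
    let w : sp k Γ(T.left.affineCover.X j, ⊤) ⟶ T :=
      Over.homMk ((T.left.affineCover.X j).isoSpec.inv ≫ T.left.affineCover.f j) (by
        rw [Category.assoc]; exact hφ.symm)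
    obtain ⟨l, hl⟩ := h _ w
    refine ⟨(T.left.affineCover.X j).isoSpec.hom ≫ l.left, ?_, ?_⟩
    · rw [Category.assoc, Over.w l, ← Over.w w]
      simp [w]
    · have := congrArg CommaMorphism.left hl
      rw [Category.assoc, show l.left ≫ i.left = w.left ≫ y.left from this]
      simp [w]
  choose l hl₁ hl₂ using hex
  haveI : Mono i.left := inferInstanceAs (Mono ((Over.forget _).map i))
  have hg : ∀ a b, pullback.fst (T.left.affineCover.f a) (T.left.affineCover.f b) ≫ l a = pullback.snd _ _ ≫ l b :=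
    fun a b => by rw [← cancel_mono i.left, Category.assoc, Category.assoc, hl₂, hl₂, pullback.condition_assoc]
  refine ⟨Over.homMk (T.left.affineCover.glueMorphisms l hg) ?_, Over.OverMorphism.ext ?_⟩
  · refine T.left.affineCover.hom_ext _ _ fun j => ?_
    rw [← Category.assoc, Scheme.Cover.ι_glueMorphisms, hl₁]
  · refine T.left.affineCover.hom_ext _ _ fun j => ?_
    show T.left.affineCover.f j ≫ T.left.affineCover.glueMorphisms l hg ≫ i.left = _
    rw [← Category.assoc, Scheme.Cover.ι_glueMorphisms, hl₂]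

variable (G : Over (Spec (CommRingCat.of k))) [GrpObj G] [LocallyOfFiniteType G.hom] [QuasiCompact G.hom]

/-- An infinitesimal neighbourhood of the unit carries the conjugation action of the affinization. -/
theorem exists_nbhd_action {A : Type u} [CommRing A] [Algebra k A] (ε : A →ₐ[k] k) (jA : sp k A ⟶ G) [Mono jA]
    (hone : pt ε ≫ jA = 1)
    (hfac : ∀ (T : Type u) [CommRing T] [Algebra k T] (J : Ideal T), IsNilpotent J → ∀ x : sp k T ⟶ G,
        pt (Ideal.Quotient.mkₐ k J) ≫ x = 1 →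
        ∃ φ : A →ₐ[k] T, x = pt φ ≫ jA ∧ ∀ a, ε a = 0 → φ a ∈ J)
    (n : ℕ) (B : Type u) [CommRing B] [Algebra k B] (π : A →ₐ[k] B) (hπ : Function.Surjective π)
    (hker : RingHom.ker π = RingHom.ker ε ^ (n + 1)) :
    ∃ a : AlgGrp.Action (hull G) (sp k B), ∀ (T : Over (Spec (CommRingCat.of k))) (g : T ⟶ G) (x : T ⟶ sp k B),
      (lift (g ≫ toHull G) x ≫ a.act) ≫ pt π ≫ jA = g * (x ≫ pt π ≫ jA) * g⁻¹ := by
  let i : sp k B ⟶ G := pt π ≫ jA
  haveI : Mono (pt π) := by
    haveI : IsClosedImmersion (pt π).left := IsClosedImmersion.spec_of_surjective _ hπ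
    exact Over.mono_of_mono_left _
  haveI : Mono i := mono_comp _ _
  haveI : IsAffine (sp k B).left := inferInstanceAs (IsAffine (Spec (CommRingCat.of B)))
  have hJle : RingHom.ker π ≤ RingHom.ker ε := by
    rw [hker]; exact Ideal.pow_le_self (Nat.succ_ne_zero n)
  let εB : B →ₐ[k] k := AlgHom.liftOfSurjective π hπ ε hJle
  have hεB : εB.comp π = ε := AlgHom.liftOfSurjective_comp _ _ _ _
  have hnil : RingHom.ker εB ^ (n + 1) = ⊥ := by
    have e : RingHom.ker εB ≤ (RingHom.ker ε).map π.toRingHom := by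
      intro b hb
      obtain ⟨a, rfl⟩ := hπ b
      exact Ideal.mem_map_of_mem _ ((AlgHom.congr_fun hεB a).symm.trans hb)
    refine eq_bot_iff.2 (le_trans (Ideal.pow_right_mono e _) ?_)
    rw [← Ideal.map_pow, ← hker, Ideal.map_le_iff_le_comap]
    exact fun a ha => ha
  -- conjugates of points near the unit are near the unit
  have hconj : ∀ (T : Over (Spec (CommRingCat.of k))) (g : T ⟶ G) (x : T ⟶ sp k B),
      ∃ l : T ⟶ sp k B, l ≫ i = g * (x ≫ i) * g⁻¹ := by
    intro T g x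
    refine exists_factor_of_affine i _ fun R _ _ w => ?_
    obtain ⟨φ, hφ⟩ := Groth.Agent.DiagRep.exists_pt (w ≫ x)
    let J : Ideal R := (RingHom.ker εB).map φ.toRingHom
    have hJ : J ^ (n + 1) = ⊥ := by rw [← Ideal.map_pow, hnil, Ideal.map_bot]
    have h1 : pt (Ideal.Quotient.mkₐ k J) ≫ (w ≫ x) ≫ i = 1 := by
      have e : ((Ideal.Quotient.mkₐ k J).comp φ).comp π = (Algebra.ofId k _).comp ε := AlgHom.ext fun a => by
        have hb : π a - algebraMap k B (εB (π a)) ∈ RingHom.ker εB := by simp [RingHom.mem_ker]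
        have h2 : φ (π a - algebraMap k B (εB (π a))) ∈ J := Ideal.mem_map_of_mem _ hb
        rw [← Ideal.Quotient.eq_zero_iff_mem, map_sub, map_sub, AlgHom.commutes, sub_eq_zero,
          show εB (π a) = ε a from AlgHom.congr_fun hεB a] at h2
        exact h2.trans (AlgHom.commutes (Ideal.Quotient.mkₐ k J) _)
      show pt _ ≫ (w ≫ x) ≫ pt π ≫ jA = 1
      rw [hφ, ← Category.assoc (pt φ), ← pt_comp, ← Category.assoc, ← pt_comp, ← AlgHom.comp_assoc, e, pt_comp,
        Category.assoc, hone, MonObj.comp_one]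
    obtain ⟨ψ, hψ, hψJ⟩ := hfac R J ⟨n + 1, hJ⟩ ((w ≫ g) * ((w ≫ x) ≫ i) * (w ≫ g)⁻¹) (by
      rw [MonObj.comp_mul, MonObj.comp_mul, GrpObj.comp_inv, h1, _root_.mul_one, mul_inv_cancel])
    have hψ0 : RingHom.ker π ≤ RingHom.ker ψ := by
      rw [hker]
      have e : (RingHom.ker ε).map ψ.toRingHom ≤ J := Ideal.map_le_iff_le_comap.2 fun a ha => hψJ a ha
      have e2 : (RingHom.ker ε ^ (n + 1)).map ψ.toRingHom ≤ ⊥ := by
        rw [Ideal.map_pow, ← hJ]; exact Ideal.pow_right_mono e _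
      exact fun a ha => e2 (Ideal.mem_map_of_mem _ ha)
    refine ⟨pt (AlgHom.liftOfSurjective π hπ ψ hψ0), ?_⟩
    rw [show i = pt π ≫ jA from rfl, ← Category.assoc, ← pt_comp, AlgHom.liftOfSurjective_comp, ← hψ,
      MonObj.comp_mul, MonObj.comp_mul, GrpObj.comp_inv, Category.assoc w x]
  obtain ⟨c, hc⟩ := hconj (G ⊗ sp k B) (fst _ _) (snd _ _)
  have hcT : ∀ {T : Over (Spec (CommRingCat.of k))} (g : T ⟶ G) (x : T ⟶ sp k B),
      (lift g x ≫ c) ≫ i = g * (x ≫ i) * g⁻¹ := fun g x => by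
    rw [Category.assoc, hc]
    simp only [MonObj.comp_mul, GrpObj.comp_inv, lift_fst, lift_snd_assoc]
  haveI := qs_grp G
  haveI : IsΓIso (toHull G ⊗ₘ 𝟙 (sp k B)) := isΓIso_tensor _ _
  let act : hull G ⊗ sp k B ⟶ sp k B := desc (toHull G ⊗ₘ 𝟙 (sp k B)) c
  have hact : ∀ {T : Over (Spec (CommRingCat.of k))} (g : T ⟶ G) (x : T ⟶ sp k B),
      (lift (g ≫ toHull G) x ≫ act) ≫ i = g * (x ≫ i) * g⁻¹ := fun g x => by
    rw [← hcT, show lift (g ≫ toHull G) x = lift g x ≫ (toHull G ⊗ₘ 𝟙 (sp k B)) by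
      rw [lift_map, Category.comp_id], Category.assoc (lift g x), fac]
  refine ⟨{ act := act, one_act := ?_, mul_act := ?_ }, fun T g x => hact g x⟩
  · rw [← cancel_mono i, show (η[hull G] ▷ sp k B) = lift (fst _ _ ≫ η[G] ≫ toHull G) (snd _ _) by
        refine CartesianMonoidalCategory.hom_ext _ _ ?_ ?_ <;> simp,
      ← Category.assoc (fst _ _), hact, leftUnitor_hom]
    rw [show fst (𝟙_ (Over (Spec (CommRingCat.of k)))) (sp k B) ≫ η[G] = 1 by
      rw [Hom.one_def, toUnit_unique (fst _ _) (toUnit _)], _root_.one_mul, inv_one, _root_.mul_one]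
  · haveI : IsΓIso ((toHull G ⊗ₘ toHull G) ⊗ₘ 𝟙 (sp k B)) := isΓIso_tensor _ _
    apply hom_ext ((toHull G ⊗ₘ toHull G) ⊗ₘ 𝟙 (sp k B))
    rw [← cancel_mono i]
    let p₁ : (G ⊗ G) ⊗ sp k B ⟶ G := fst _ _ ≫ fst _ _
    let p₂ : (G ⊗ G) ⊗ sp k B ⟶ G := fst _ _ ≫ snd _ _
    let p₃ : (G ⊗ G) ⊗ sp k B ⟶ sp k B := snd _ _
    have e₁ : ((toHull G ⊗ₘ toHull G) ⊗ₘ 𝟙 (sp k B)) ≫ (μ[hull G] ▷ sp k B) =
        lift ((p₁ * p₂) ≫ toHull G) p₃ := by
      refine CartesianMonoidalCategory.hom_ext _ _ ?_ (by simp [p₃])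
      rw [lift_fst, Category.assoc, whiskerRight_fst, tensorHom_fst_assoc, ← IsMonHom.mul_hom,
        Hom.mul_def, ← comp_lift, lift_fst_snd, Category.comp_id, Category.assoc]
    have e₂ : ((toHull G ⊗ₘ toHull G) ⊗ₘ 𝟙 (sp k B)) ≫ (α_ (hull G) (hull G) (sp k B)).hom ≫ (hull G ◁ act) =
        lift (p₁ ≫ toHull G) (lift (p₂ ≫ toHull G) p₃ ≫ act) := by
      refine CartesianMonoidalCategory.hom_ext _ _ (by simp [p₁]) ?_
      simp only [Category.assoc, whiskerLeft_snd, lift_snd]
      rw [← Category.assoc (α_ _ _ _).hom, ← Category.assoc]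
      congr 1
      refine CartesianMonoidalCategory.hom_ext _ _ (by simp [p₂]) (by simp [p₃])
    rw [← Category.assoc _ (μ[hull G] ▷ sp k B) act, e₁, hact, ← Category.assoc (α_ _ _ _).hom,
      ← Category.assoc _ _ act, e₂, hact, hact, _root_.mul_inv_rev]
    simp only [_root_.mul_assoc]

end AntiAffLib
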