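import Groth.Agent.AntiAffLib.KerSub
import Groth.Agent.GrpHomLib.FlatImage
import Groth.Agent.MonoQuotLib.Orbit
import Groth.Agent.AntiAffLib.AffineQuot
import Groth.Agent.S3030
import Groth.Agent.S0114
import Groth.Prelude

/-!
# Commutative affine algebraic groups form an abelian category
-/

set_option autoImplicit false
set_option linter.style.haveILetI false
set_option backward.isDefEq.respectTransparency false
set_option maxHeartbeats 1600000

universe u

open CategoryTheory CategoryTheory.Limits MonoidalCategory CartesianMonoidalCategory AlgebraicGeometry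
open scoped MonObj

noncomputable section

namespace AntiAffLib.CommCatAff

variable {k : Type u} [Field k]

/-- Algebraic groups. -/
abbrev Alg (k : Type u) [Field k] : ObjectProperty (CommGrp (Over (Spec (CommRingCat.of k)))) :=
  fun G => LocallyOfFiniteType G.X.hom ∧ QuasiCompact G.X.hom ∧ IsAffine G.X.left

/-- The category of commutative algebraic groups. -/
abbrev Cat (k : Type u) [Field k] := ObjectProperty.FullSubcategory (Alg k)

instance lft_obj (X : Cat k) : LocallyOfFiniteType X.obj.X.hom := X.property.1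

instance qc_obj (X : Cat k) : QuasiCompact X.obj.X.hom := X.property.2.1

instance affine_obj (X : Cat k) : IsAffine X.obj.X.left := X.property.2.2

/-- The underlying morphism. -/
def u' {X Y : Cat k} (f : X ⟶ Y) : X.obj.X ⟶ Y.obj.X := f.hom.hom.hom.hom

instance isMonHom_u' {X Y : Cat k} (f : X ⟶ Y) : IsMonHom (u' f) := f.hom.hom.hom.isMonHom_hom

/-- A morphism of commutative algebraic groups from a homomorphism. -/
def mkHom {X Y : Cat k} (f : X.obj.X ⟶ Y.obj.X) [IsMonHom f] : X ⟶ Y :=
  ObjectProperty.homMk (InducedCategory.homMk (Grp.homMk (A := X.obj.toGrp) (B := Y.obj.toGrp) f))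

@[simp]
theorem u'_mkHom {X Y : Cat k} (f : X.obj.X ⟶ Y.obj.X) [IsMonHom f] : u' (mkHom f) = f := rfl

theorem u'_comp {X Y Z : Cat k} (f : X ⟶ Y) (g : Y ⟶ Z) : u' (f ≫ g) = u' f ≫ u' g := rfl

theorem ext' {X Y : Cat k} {f g : X ⟶ Y} (h : u' f = u' g) : f = g :=
  ObjectProperty.hom_ext _ (CommGrp.hom_ext _ _ h)

/-- Morphisms as homomorphisms of group objects. -/
def homEquiv' (X Y : Cat k) : (X ⟶ Y) ≃ Additive (X.obj.toGrp ⟶ Y.obj.toGrp) where
  toFun f := Additive.ofMul f.hom.hom
  invFun f := ObjectProperty.homMk (InducedCategory.homMk f.toMul)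
  left_inv _ := rfl
  right_inv _ := rfl

instance addCommGroupHom (X Y : Cat k) : AddCommGroup (X ⟶ Y) := (homEquiv' X Y).addCommGroup

theorem u'_add {X Y : Cat k} (f g : X ⟶ Y) : u' (f + g) = u' f * u' g := rfl

theorem u'_zero (X Y : Cat k) : u' (0 : X ⟶ Y) = 1 := rfl

instance preadditive : Preadditive (Cat k) where
  homGroup := addCommGroupHom
  add_comp _ _ _ f f' g := ext' (by simp only [u'_comp, u'_add, MonObj.mul_comp])
  comp_add _ _ _ f g g' := ext' (by simp only [u'_comp, u'_add, MonObj.comp_mul])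

/-- A commutative algebraic group from its data. -/
def mkObj (X : Over (Spec (CommRingCat.of k))) [GrpObj X] [IsCommMonObj X] [LocallyOfFiniteType X.hom]
    [QuasiCompact X.hom] [IsAffine X.left] : Cat k :=
  ⟨⟨X⟩, ‹LocallyOfFiniteType X.hom›, ‹QuasiCompact X.hom›, ‹IsAffine X.left›⟩

instance lft_tensor (X Y : Over (Spec (CommRingCat.of k))) [LocallyOfFiniteType X.hom] [LocallyOfFiniteType Y.hom] :
    LocallyOfFiniteType (X ⊗ Y).hom := by
  show LocallyOfFiniteType (pullback.fst X.hom Y.hom ≫ X.hom); infer_instance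

instance hasTerminal : HasTerminal (Cat k) := by
  haveI : LocallyOfFiniteType (𝟙_ (Over (Spec (CommRingCat.of k)))).hom :=
    inferInstanceAs (LocallyOfFiniteType (𝟙 _))
  haveI : ∀ X : Cat k, Unique (X ⟶ mkObj (𝟙_ (Over (Spec (CommRingCat.of k))))) := fun X =>
    { default := 0
      uniq := fun f => ext' (toUnit_unique _ _) }
  exact hasTerminal_of_unique (mkObj (𝟙_ (Over (Spec (CommRingCat.of k)))))

instance isMonHom_lift {W X Y : Over (Spec (CommRingCat.of k))} [GrpObj W] [GrpObj X] [GrpObj Y] (f : W ⟶ X)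
    (g : W ⟶ Y) [IsMonHom f] [IsMonHom g] : IsMonHom (lift f g) where
  one_hom := by
    refine CartesianMonoidalCategory.hom_ext _ _ ?_ ?_
    · rw [Category.assoc, lift_fst, IsMonHom.one_hom, IsMonHom.one_hom]
    · rw [Category.assoc, lift_snd, IsMonHom.one_hom, IsMonHom.one_hom]
  mul_hom := by
    refine CartesianMonoidalCategory.hom_ext _ _ ?_ ?_
    · rw [Category.assoc, lift_fst, IsMonHom.mul_hom, Category.assoc, IsMonHom.mul_hom (fst X Y),
        tensorHom_comp_tensorHom_assoc, lift_fst]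
    · rw [Category.assoc, lift_snd, IsMonHom.mul_hom, Category.assoc, IsMonHom.mul_hom (snd X Y),
        tensorHom_comp_tensorHom_assoc, lift_snd]

instance hasBinaryProducts : HasBinaryProducts (Cat k) := by
  haveI : ∀ {X Y : Cat k}, HasLimit (pair X Y) := by
    intro X Y
    let P := mkObj (X.obj.X ⊗ Y.obj.X)
    let p₁ : P ⟶ X := mkHom (fst X.obj.X Y.obj.X)
    let p₂ : P ⟶ Y := mkHom (snd X.obj.X Y.obj.X)
    refine ⟨⟨BinaryFan.mk p₁ p₂, BinaryFan.isLimitMk
      (fun s => mkHom (lift (u' s.fst) (u' s.snd))) (fun s => ext' ?_) (fun s => ext' ?_) (fun s m h₁ h₂ => ext' ?_)⟩⟩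
    · exact lift_fst _ _
    · exact lift_snd _ _
    · refine CartesianMonoidalCategory.hom_ext _ _ ?_ ?_
      · exact (congrArg u' h₁).trans (lift_fst _ _).symm
      · exact (congrArg u' h₂).trans (lift_snd _ _).symm
  exact hasBinaryProducts_of_hasLimit_pair _

instance hasFiniteProducts : HasFiniteProducts (Cat k) := hasFiniteProducts_of_has_binary_and_terminal

theorem isComm_of_mono {X Y : Over (Spec (CommRingCat.of k))} [GrpObj X] [GrpObj Y] [IsCommMonObj Y] (f : X ⟶ Y)
    [IsMonHom f] [Mono f] : IsCommMonObj X :=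
  ⟨by rw [← cancel_mono f, Category.assoc, IsMonHom.mul_hom f, ← BraidedCategory.braiding_naturality_assoc,
    IsCommMonObj.mul_comm]⟩

theorem isComm_of_epi {X Y : Over (Spec (CommRingCat.of k))} [GrpObj X] [GrpObj Y] [IsCommMonObj X] (f : X ⟶ Y)
    [IsMonHom f] [Flat f.left] [LocallyOfFinitePresentation f.left] [Surjective f.left] : IsCommMonObj Y := by
  obtain ⟨f1, f2, f3⟩ := Groth.Agent.MonoQuot.fppf_tensor f f
  haveI := f1; haveI := f2; haveI := f3
  haveI := Groth.Agent.MonoQuot.epi_over (f ⊗ₘ f)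
  exact ⟨by rw [← cancel_epi (f ⊗ₘ f), BraidedCategory.braiding_naturality_assoc, ← IsMonHom.mul_hom,
    ← Category.assoc, IsCommMonObj.mul_comm]⟩

theorem exists_descend {X Y Z : Over (Spec (CommRingCat.of k))} [GrpObj X] [GrpObj Y] [GrpObj Z] (p : X ⟶ Y)
    [IsMonHom p] [Flat p.left] [LocallyOfFinitePresentation p.left] [Surjective p.left] (g : X ⟶ Z) [IsMonHom g]
    (h : ∀ (T : Over (Spec (CommRingCat.of k))) (a : T ⟶ X), a ≫ p = 1 → a ≫ g = 1) :
    ∃ y : Y ⟶ Z, p ≫ y = g ∧ IsMonHom y := by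
  obtain ⟨y, hy⟩ := Groth.Agent.MonoQuot.exists_desc_over p g fun T a b e => by
    have := h T (a * b⁻¹) (by rw [MonObj.mul_comp, GrpObj.inv_comp, e, mul_inv_cancel])
    rwa [MonObj.mul_comp, GrpObj.inv_comp, mul_inv_eq_one] at this
  obtain ⟨f1, f2, f3⟩ := Groth.Agent.MonoQuot.fppf_tensor p p
  haveI := f1; haveI := f2; haveI := f3
  haveI := Groth.Agent.MonoQuot.epi_over (p ⊗ₘ p)
  refine ⟨y, hy, ?_, ?_⟩
  · rw [show (η[Y] : 𝟙_ (Over (Spec (CommRingCat.of k))) ⟶ Y) = η[X] ≫ p from (IsMonHom.one_hom p).symm,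
      Category.assoc, hy, IsMonHom.one_hom]
  · rw [← cancel_epi (p ⊗ₘ p), ← IsMonHom.mul_hom_assoc, hy, IsMonHom.mul_hom g, tensorHom_comp_tensorHom_assoc, hy]

theorem abelianStruct {X Y : Cat k} (f : X ⟶ Y) : Nonempty (Abelian.AbelianStruct f) := by
  haveI : IsSeparated Y.obj.X.hom := Groth.Agent.GrpField.isSeparated_grp (G := Y.obj.X)
  haveI : Flat X.obj.X.hom := Groth.Agent.GrpField.flat_field _
  haveI : QuasiCompact (u' f).left := by
    haveI : QuasiCompact ((u' f).left ≫ Y.obj.X.hom) := by rw [Over.w (u' f)]; infer_instance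
    exact QuasiCompact.of_comp (u' f).left Y.obj.X.hom
  -- kernel
  obtain ⟨K, _, i, _, _, hK, -⟩ := exists_kernel (u' f)
  haveI : Mono i := Over.mono_of_mono_left i
  haveI := isComm_of_mono i
  haveI : LocallyOfFiniteType K.hom := by rw [← Over.w i]; infer_instance
  haveI : QuasiCompact K.hom := by rw [← Over.w i]; infer_instance
  haveI : IsAffine K.left := isAffine_of_isAffineHom i.left
  -- image
  obtain ⟨C, _, p, m, _, _, hpm, hpf, hps, hpl, hm⟩ :=
    Groth.Agent.GrpHom.exists_fppf_image (u' f) (Groth.Agent.GrpField.flat_field _)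
  haveI := hpf; haveI := hps; haveI := hpl; haveI := hm
  haveI : Mono m := Over.mono_of_mono_left m
  haveI := isComm_of_mono m
  haveI : LocallyOfFiniteType C.hom := by rw [← Over.w m]; infer_instance
  haveI : QuasiCompact C.hom := by rw [← Over.w m]; infer_instance
  haveI := Groth.Agent.MonoQuot.epi_over p
  haveI : IsAffine C.left := isAffine_of_isAffineHom m.left
  -- cokernel
  haveI : Flat C.hom := Groth.Agent.GrpField.flat_field _
  haveI : Flat Y.obj.X.hom := Groth.Agent.GrpField.flat_field _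
  have hmn : AlgGrp.IsNormalHom m := fun T g n => ⟨n, by rw [mul_comm g, mul_inv_cancel_right]⟩
  obtain ⟨Q, _, q, _, hqf, hqs, hql, hq, -, -, -⟩ := Groth.Agent.S3030.result k C Y.obj.X m hmn
  haveI := hqf; haveI := hqs; haveI := hql
  haveI := isComm_of_epi q
  haveI : LocallyOfFiniteType Q.hom := by
    haveI : LocallyOfFinitePresentation (q.left ≫ Q.hom) := by
      rw [Over.w q]; exact LocallyOfFinitePresentation.iff_locallyOfFiniteType.2 inferInstance
    haveI := Groth.Agent.S0114.result q.left Q.hom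
    infer_instance
  haveI : QuasiCompact Q.hom := by
    haveI : CompactSpace Y.obj.X.left := QuasiCompact.compactSpace_of_compactSpace Y.obj.X.hom
    haveI : CompactSpace Q.left := ⟨by
      rw [← Set.range_eq_univ.mpr q.left.surjective]; exact isCompact_range q.left.continuous⟩
    exact quasiCompact_of_compactSpace _
  haveI : IsAffine Q.left := isAffine_of_surjective_hom q
  haveI := Groth.Agent.MonoQuot.epi_over q
  let iK : mkObj K ⟶ X := mkHom i
  let pC : X ⟶ mkObj C := mkHom p
  let mC : mkObj C ⟶ Y := mkHom m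
  let qQ : Y ⟶ mkObj Q := mkHom q
  haveI : Mono iK := ⟨fun a b e => ext' ((cancel_mono i).1 (congrArg u' e))⟩
  haveI : Mono mC := ⟨fun a b e => ext' ((cancel_mono m).1 (congrArg u' e))⟩
  haveI : Epi pC := ⟨fun a b e => ext' ((cancel_epi p).1 (congrArg u' e))⟩
  haveI : Epi qQ := ⟨fun a b e => ext' ((cancel_epi q).1 (congrArg u' e))⟩
  have hiu : i ≫ u' f = 1 := by rw [hK.w, Hom.one_def]
  have hmq : m ≫ q = 1 := by rw [hq.w, Hom.one_def]
  have hip : i ≫ p = 1 := by rw [← cancel_mono m, Category.assoc, hpm, hiu, MonObj.one_comp]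
  have w₁ : iK ≫ f = 0 := ext' hiu
  have w₂ : f ≫ qQ = 0 := ext' (by
    show u' f ≫ q = 1
    rw [← hpm, Category.assoc, hmq, MonObj.comp_one])
  have w₃ : iK ≫ pC = 0 := ext' hip
  have w₄ : mC ≫ qQ = 0 := ext' hmq
  refine ⟨{
    kernelFork := KernelFork.ofι iK w₁
    isLimitKernelFork := KernelFork.IsLimit.ofι' iK w₁ fun {A} g hg => ?_
    cokernelCofork := CokernelCofork.ofπ qQ w₂
    isColimitCokernelCofork := CokernelCofork.IsColimit.ofπ' qQ w₂ fun {A} g hg => ?_
    image := mkObj C
    imageπ := pC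
    ι_imageπ := w₃
    imageIsCokernel := CokernelCofork.IsColimit.ofπ' pC w₃ fun {A} g hg => ?_
    imageι := mC
    imageι_π := w₄
    imageIsKernel := KernelFork.IsLimit.ofι' mC w₄ fun {A} g hg => ?_
    fac := ext' hpm }⟩
  · let l : A.obj.X ⟶ K := hK.lift (u' g) (toUnit _) ((congrArg u' hg).trans Hom.one_def)
    have hl : l ≫ i = u' g := hK.lift_fst _ _ _
    haveI : IsMonHom l :=
      ⟨by rw [← cancel_mono i, Category.assoc, hl, IsMonHom.one_hom, IsMonHom.one_hom],
        by rw [← cancel_mono i, Category.assoc, hl, IsMonHom.mul_hom, Category.assoc, IsMonHom.mul_hom i,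
          tensorHom_comp_tensorHom_assoc, hl]⟩
    exact ⟨mkHom l, ext' hl⟩
  · have h : ∀ (T : Over (Spec (CommRingCat.of k))) (a : T ⟶ Y.obj.X), a ≫ q = 1 → a ≫ u' g = 1 := by
      intro T a ha
      have e : (a : T ⟶ Y.obj.X) = hq.lift a (toUnit T) (ha.trans Hom.one_def) ≫ m := (hq.lift_fst _ _ _).symm
      have hmg : m ≫ u' g = 1 := by
        rw [← cancel_epi p, ← Category.assoc, hpm, MonObj.comp_one]
        exact congrArg u' hg
      rw [e, Category.assoc, hmg, MonObj.comp_one]
    have h' := exists_descend q (u' g) h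
    haveI := h'.choose_spec.2
    exact ⟨mkHom h'.choose, ext' h'.choose_spec.1⟩
  · have h : ∀ (T : Over (Spec (CommRingCat.of k))) (a : T ⟶ X.obj.X), a ≫ p = 1 → a ≫ u' g = 1 := by
      intro T a ha
      have hau : a ≫ u' f = toUnit T ≫ η[Y.obj.X] := by
        rw [← hpm, ← Category.assoc, ha, MonObj.one_comp, Hom.one_def]
      rw [← hK.lift_fst a (toUnit T) hau, Category.assoc, show i ≫ u' g = 1 from congrArg u' hg, MonObj.comp_one]
    have h' := exists_descend p (u' g) h
    haveI := h'.choose_spec.2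
    exact ⟨mkHom h'.choose, ext' h'.choose_spec.1⟩
  · let l : A.obj.X ⟶ C := hq.lift (u' g) (toUnit _) ((congrArg u' hg).trans Hom.one_def)
    have hl : l ≫ m = u' g := hq.lift_fst _ _ _
    haveI : IsMonHom l :=
      ⟨by rw [← cancel_mono m, Category.assoc, hl, IsMonHom.one_hom, IsMonHom.one_hom],
        by rw [← cancel_mono m, Category.assoc, hl, IsMonHom.mul_hom, Category.assoc, IsMonHom.mul_hom m,
          tensorHom_comp_tensorHom_assoc, hl]⟩
    exact ⟨mkHom l, ext' hl⟩

/-- The category of commutative algebraic groups is abelian. -/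
theorem nonempty_abelian (k : Type u) [Field k] : Nonempty (Abelian (Cat k)) :=
  ⟨Abelian.mk' fun _ _ f => abelianStruct f⟩

end AntiAffLib.CommCatAff
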