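import Groth.Agent.AntiAffLib.Basics2
import Groth.Agent.NormDescLib.IntegralNormal
import Groth.Prelude

/-!
# Anti-affineness lifts along finite coverings of normal varieties
-/

set_option autoImplicit false
set_option linter.style.haveILetI false
set_option backward.isDefEq.respectTransparency false

universe u

open CategoryTheory CategoryTheory.Limits MonoidalCategory CartesianMonoidalCategory AlgebraicGeometry

noncomputable section

namespace AntiAffLib

variable {k : Type u} [Field k]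

theorem antiAff_of_finite {X Y : Over (Spec (CommRingCat.of k))} [IsIntegral X.left] [IsIntegral Y.left]
    (hY : Pi1.IsNormalScheme Y.left) (f : X ⟶ Y) [IsFinite f.left] [Surjective f.left] [IsΓIso (toUnit Y)]
    (x : 𝟙_ _ ⟶ X) : IsΓIso (toUnit X) := by
  obtain ⟨d, ⟨N⟩⟩ := NormDescLib.exists_norm_of_normal f.left hY
  rw [← bijective_iff]
  refine ⟨RingHom.injective _, fun a => ?_⟩
  haveI hYiso : IsΓIso (toUnit Y) := inferInstance
  have hYb := (bijective_iff Y).2 hYiso
  let ev : Γ(X.left, ⊤) →+* k := ((Scheme.ΓSpecIso (CommRingCat.of k)).hom.hom).comp x.left.appTop.hom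
  let c : Γ(X.left, ⊤) := ((Scheme.ΓSpecIso (CommRingCat.of k)).inv ≫ X.hom.appTop).hom (ev a)
  refine ⟨ev a, ?_⟩
  show c = a
  by_contra hne
  let s : Γ(X.left, ⊤) := a - c
  have hs : s ≠ 0 := sub_ne_zero.2 (Ne.symm hne)
  have hev : x.left.appTop s = 0 := by
    have h1 : x.left.appTop c = (Scheme.ΓSpecIso (CommRingCat.of k)).inv (ev a) := by
      have e : X.hom.appTop ≫ x.left.appTop = 𝟙 _ := by
        rw [← Scheme.Hom.comp_appTop, Over.w x]; exact Scheme.Hom.id_appTop
      show (X.hom.appTop ≫ x.left.appTop) ((Scheme.ΓSpecIso (CommRingCat.of k)).inv (ev a)) = _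
      rw [e]; rfl
    have h2 : (Scheme.ΓSpecIso (CommRingCat.of k)).inv (ev a) = x.left.appTop a :=
      Iso.hom_inv_id_apply (Scheme.ΓSpecIso (CommRingCat.of k)) (x.left.appTop a)
    exact (map_sub x.left.appTop.hom a c).trans (sub_eq_zero.2 (h1.trans h2).symm)
  let x₁ : X.left := x.left (IsLocalRing.closedPoint k)
  -- the norm is a constant vanishing at a point
  obtain ⟨n, hn⟩ := hYb.2 (N.norm ⊤ s)
  have hn0 : n = 0 := by
    by_contra h0
    have hu : IsUnit (N.norm ⊤ s) := hn ▸ (isUnit_iff_ne_zero.2 h0).map _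
    have hmem : X.left.presheaf.germ (f.left ⁻¹ᵁ ⊤) x₁ trivial s ∈
        IsLocalRing.maximalIdeal (X.left.presheaf.stalk x₁) := by
      rw [IsLocalRing.mem_maximalIdeal, mem_nonunits_iff]
      intro hu'
      have := hu'.map (x.left.stalkMap (IsLocalRing.closedPoint k)).hom
      rw [Scheme.Hom.germ_stalkMap_apply] at this
      refine not_isUnit_zero (M₀ := (𝟙_ (Over (Spec (CommRingCat.of k)))).left.presheaf.stalk (IsLocalRing.closedPoint k)) ?_
      have e0 : (𝟙_ (Over (Spec (CommRingCat.of k)))).left.presheaf.germ ⊤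
          (IsLocalRing.closedPoint k) trivial (x.left.appTop s) = 0 := by rw [hev]; exact map_zero _
      exact e0 ▸ this
    exact (IsLocalRing.mem_maximalIdeal _).1 (N.norm_mem ⊤ s x₁ trivial hmem) (hu.map _)
  rw [hn0, map_zero] at hn
  -- but some multiple of it comes from a nonzero function below
  obtain ⟨U, hU, hU₁, -⟩ := exists_isAffineOpen_mem_and_subset (x := f.left x₁) (U := (⊤ : Y.left.Opens)) trivial
  haveI : Nonempty U := ⟨⟨_, hU₁⟩⟩
  haveI : Nonempty (f.left ⁻¹ᵁ U : X.left.Opens) := ⟨⟨x₁, hU₁⟩⟩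
  letI : Algebra Γ(Y.left, U) Γ(X.left, f.left ⁻¹ᵁ U) := (f.left.app U).hom.toAlgebra
  haveI : Module.Finite Γ(Y.left, U) Γ(X.left, f.left ⁻¹ᵁ U) := f.left.finite_app U hU
  let i : U ⟶ ⊤ := homOfLE le_top
  let sU : Γ(X.left, f.left ⁻¹ᵁ U) := X.left.presheaf.map ((TopologicalSpace.Opens.map f.left.base).map i).op s
  have hsU : sU ≠ 0 := fun h0 => hs (map_injective_of_isIntegral X.left _ (h0.trans (map_zero _).symm))
  have hN : N.norm U sU = 0 := by
    rw [← N.norm_res i s, ← hn, map_zero]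
  have hI := Ideal.comap_ne_bot_of_integral_mem (I := Ideal.span {sU}) hsU (Ideal.mem_span_singleton_self _)
    (Algebra.IsIntegral.isIntegral (R := Γ(Y.left, U)) sU)
  obtain ⟨g, hg, hg0⟩ := (Submodule.ne_bot_iff _).1 hI
  obtain ⟨t, ht⟩ := Ideal.mem_span_singleton'.1 (Ideal.mem_comap.1 hg)
  have := congrArg (N.norm U) ht
  rw [map_mul, hN, mul_zero, show N.norm U (algebraMap Γ(Y.left, U) Γ(X.left, f.left ⁻¹ᵁ U) g) = g ^ d from
    N.norm_app U g] at this
  exact hg0 (pow_eq_zero_iff (Nat.one_le_iff_ne_zero.1 N.one_le) |>.1 this.symm)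

end AntiAffLib
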