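import Groth.Agent.AntiAffLib.Criteria
import Groth.Agent.DiagRepLib.Scheme
import Groth.Agent.S16480
import Groth.Prelude

/-!
# Representations detect anti-affineness
-/

set_option autoImplicit false
set_option linter.style.haveILetI false
set_option backward.isDefEq.respectTransparency false
set_option maxHeartbeats 1600000

universe u

open CategoryTheory CategoryTheory.Limits MonoidalCategory CartesianMonoidalCategory AlgebraicGeometry CoactBr
open scoped MonObj TensorProduct

noncomputable section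

namespace AntiAffLib

open CoordGrp

attribute [-instance] CategoryTheory.Hom.commGroup

variable (n : ℕ) (k : Type u) [Field k]

/-- The algebra structure over the lifted integers, with the scalar action already present. -/
@[reducible] def algZAux (A : Type u) [CommRing A] : Algebra (ULift.{u} ℤ) A where
  algebraMap := (Int.castRingHom A).comp (ULift.ringEquiv : ULift.{u} ℤ ≃+* ℤ).toRingHom
  commutes' _ _ := mul_comm _ _
  smul_def' r x := by
    show r.down • x = ((r.down : ℤ) : A) * x
    rw [zsmul_eq_mul]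

/-- The integers act on the field. -/
@[reducible] def algZ : Algebra (ULift.{u} ℤ) k := algZAux k

attribute [local instance] algZ

/-- The integers act on the coordinate ring. -/
@[reducible] def algZGLn : Algebra (ULift.{u} ℤ) (GLn n k) := algZAux (GLn n k)

attribute [local instance] algZGLn

instance towerZ : IsScalarTower (ULift.{u} ℤ) k (GLn n k) :=
  ⟨fun r x y => smul_assoc r.down x y⟩

/-- The comparison of the general linear coordinate rings over the integers and over the field. -/
def glnComp : k ⊗[ULift.{u} ℤ] GLn n (ULift.{u} ℤ) →ₐ[k] GLn n k :=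
  Algebra.TensorProduct.lift (Algebra.ofId k (GLn n k))
    (GLn.pt n (ULift.{u} ℤ) (GLn.genMat n k) (GLn.Dinv : GLn n k)
      (by rw [← GLn.det_eq, mul_comm]; exact GLn.Dinv_mul_det))
    (fun _ _ => Commute.all _ _)

theorem glnComp_X (i j : Fin n) : glnComp n k (1 ⊗ₜ GLn.X i j) = GLn.X i j := by
  rw [glnComp, Algebra.TensorProduct.lift_tmul, map_one, _root_.one_mul, GLn.pt_X]; rfl

theorem glnComp_Dinv : glnComp n k (1 ⊗ₜ GLn.Dinv) = GLn.Dinv := by
  rw [glnComp, Algebra.TensorProduct.lift_tmul, map_one, _root_.one_mul, GLn.pt_Dinv]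

theorem glnComp_surjective : Function.Surjective (glnComp n k) := by
  let r : GLn n (ULift.{u} ℤ) →ₐ[ULift.{u} ℤ] k ⊗[ULift.{u} ℤ] GLn n (ULift.{u} ℤ) :=
    Algebra.TensorProduct.includeRight
  let v : GLn n k →ₐ[k] k ⊗[ULift.{u} ℤ] GLn n (ULift.{u} ℤ) :=
    GLn.pt n k (r.mapMatrix (GLn.genMat n (ULift.{u} ℤ))) (r GLn.Dinv) (by
      rw [← AlgHom.map_det, ← map_mul, ← GLn.det_eq, mul_comm, GLn.Dinv_mul_det, map_one])
  have h : (glnComp n k).comp v = AlgHom.id k _ := GLn.algHom_ext (fun i j => by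
    rw [AlgHom.comp_apply, GLn.pt_X]; exact glnComp_X n k i j) (by
    rw [AlgHom.comp_apply, GLn.pt_Dinv]; exact glnComp_Dinv n k)
  exact fun b => ⟨v b, AlgHom.congr_fun h b⟩

theorem isMonHom_glnComp : IsMonHom (pt (glnComp n k)) := by
  refine Groth.Agent.DiagRep.isMonHom_pt _ ?_ ?_
  · refine Algebra.TensorProduct.ext (by ext) (GLn.algHom_ext (fun i j => ?_) ?_)
    · simp [glnComp_X, GLn.counit_X, TensorProduct.counit_tmul, Algebra.smul_def]
    · simp [glnComp_Dinv, GLn.counit_Dinv, TensorProduct.counit_tmul]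
  · refine Algebra.TensorProduct.ext (by ext) (GLn.algHom_ext (fun i j => ?_) ?_)
    · simp [glnComp_X, GLn.comul_X, TensorProduct.comul_tmul, map_sum, TensorProduct.tmul_sum]
    · simp [glnComp_Dinv, GLn.comul_Dinv, TensorProduct.comul_tmul]

variable {n k}

/-- Monomorphisms compose. -/
theorem exists_mono_of_chain {B C : Type u} [CommRing B] [HopfAlgebra k B] [CommRing C] [HopfAlgebra k C]
    (π : GLn n k →ₐc[k] B) (hπ : Function.Surjective π) (w : C →ₐ[k] GLn n k) [IsMonHom (pt w)]
    (hw : Function.Surjective w) {Q : Over (Spec (CommRingCat.of k))} [GrpObj Q] (b : Q ⟶ sp k C) [IsIso b]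
    [IsMonHom b] : ∃ m : sp k B ⟶ Q, IsMonHom m ∧ Mono m := by
  haveI : IsMonHom (pt (R := k) (π : GLn n k →ₐ[k] B)) := SekSuwa.isMonHom_specHom π
  haveI : IsClosedImmersion (pt (π : GLn n k →ₐ[k] B)).left :=
    IsClosedImmersion.spec_of_surjective _ hπ
  haveI : IsClosedImmersion (pt w).left := IsClosedImmersion.spec_of_surjective _ hw
  haveI : Mono (pt (π : GLn n k →ₐ[k] B)) := Over.mono_of_mono_left _
  haveI : Mono (pt w) := Over.mono_of_mono_left _
  haveI : IsMonHom (inv b) := inferInstanceAs (IsMonHom (asIso b).inv)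
  exact ⟨(pt (π : GLn n k →ₐ[k] B) ≫ pt w) ≫ inv b, inferInstance, inferInstance⟩

theorem baseHom_eq : Groth.Agent.DiagRep.baseHom (ULift.{u} ℤ) k =
    IsTerminal.from specULiftZIsTerminal (Spec (CommRingCat.of k)) := specULiftZIsTerminal.hom_ext _ _

theorem transport {t t' : Spec (CommRingCat.of k) ⟶ Spec (CommRingCat.of (ULift.{u} ℤ))} (e : t = t')
    (H : Over (Spec (CommRingCat.of (ULift.{u} ℤ)))) [GrpObj H] {A : Over (Spec (CommRingCat.of k))} [GrpObj A]
    (h : ∃ m : A ⟶ Red.bc t H, IsMonHom m ∧ Mono m) : ∃ m : A ⟶ Red.bc t' H, IsMonHom m ∧ Mono m := by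
  subst e; exact h

/-- An affine algebraic group embeds in a general linear group. -/
theorem exists_mono_GLn (B : Type u) [CommRing B] [HopfAlgebra k B] [Algebra.FiniteType k B] :
    ∃ (n : ℕ) (m : sp k B ⟶ FrB.GLn n (Spec (CommRingCat.of k))), IsMonHom m ∧ Mono m := by
  obtain ⟨n, π, hπ⟩ := Groth.Agent.S16480.result k B
  refine ⟨n, transport (baseHom_eq (k := k)) (FrB.GLZ n) ?_⟩
  exact @exists_mono_of_chain _ _ _ B (k ⊗[ULift.{u} ℤ] GLn n (ULift.{u} ℤ)) _ _ _ _ π hπ (glnComp n k)
    (isMonHom_glnComp n k) (glnComp_surjective n k) _ _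
    (Groth.Agent.DiagRep.bcHom (ULift.{u} ℤ) k (GLn n (ULift.{u} ℤ))) inferInstance
    (Groth.Agent.DiagRep.isMonHom_bcHom (ULift.{u} ℤ) k (GLn n (ULift.{u} ℤ)))

theorem eq_one_of_mono {G H K Q : Over (Spec (CommRingCat.of k))} [GrpObj G] [GrpObj H] [GrpObj K] [GrpObj Q]
    (r : G ⟶ H) [IsMonHom r] (v : H ⟶ K) [IsMonHom v] [Mono v] (m : K ⟶ Q) [IsMonHom m] [Mono m]
    (h : ∀ ρ : G ⟶ Q, IsMonHom ρ → ρ = 1) : r = 1 := by
  rw [← cancel_mono (v ≫ m), MonObj.one_comp]
  exact h _ inferInstance

/-- An algebraic group without nontrivial linear representations is anti-affine. -/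
theorem antiAff_of_reps {G : Over (Spec (CommRingCat.of k))} [GrpObj G] [LocallyOfFiniteType G.hom] [QuasiCompact G.hom]
    (h : ∀ (n : ℕ) (ρ : G ⟶ FrB.GLn n (Spec (CommRingCat.of k))), IsMonHom ρ → ρ = 1) : IsΓIso (toUnit G) := by
  obtain ⟨B, _, _, v, hv, hv'⟩ := OrbitLib.ToAffine.exists_sp (hull G)
  haveI := hv; haveI := hv'
  haveI : IsIso v.hom.left := inferInstanceAs (IsIso ((Over.forget _).map v.hom))
  haveI : Algebra.FiniteType k B := by
    haveI : LocallyOfFiniteType (sp k B).hom := by rw [← Over.w v.hom]; infer_instance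
    have h' : LocallyOfFiniteType (Spec.map (CommRingCat.ofHom (algebraMap k B))) := this
    rw [HasRingHomProperty.Spec_iff (P := @LocallyOfFiniteType)] at h'
    exact RingHom.finiteType_algebraMap.mp h'
  obtain ⟨n, m, _, _⟩ := exists_mono_GLn (k := k) B
  have h1 : toHull G = 1 := eq_one_of_mono (toHull G) v.inv m (h n)
  haveI : Nonempty G.left := nonempty_grp G
  refine antiAff_of_const η[hull G] ?_
  rw [h1, Hom.one_def]

end AntiAffLib
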