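import Groth.Agent.AntiAffLib.CentreLocus
import Groth.Agent.AntiAffLib.Image
import Groth.Agent.AntiAffLib.KerSub
import Groth.Agent.AntiAffLib.AffineQuot
import Groth.Agent.MonoQuotLib.Orbit
import Groth.Agent.MiscFlat6.EqualizerDom
import Groth.Prelude

/-!
# Actions with a fixed point factor through affine groups
-/

set_option autoImplicit false
set_option linter.style.haveILetI false
set_option backward.isDefEq.respectTransparency false
set_option maxHeartbeats 1600000

universe u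

open CategoryTheory CategoryTheory.Limits MonoidalCategory CartesianMonoidalCategory AlgebraicGeometry CoactBr
open scoped MonObj TensorProduct

noncomputable section

namespace AntiAffLib

attribute [-instance] CategoryTheory.Hom.commGroup

variable {k : Type u} [Field k]

/-- A rational point has an affine chart, through which its infinitesimal deformations factor. -/
theorem exists_chart_pt {X : Over (Spec (CommRingCat.of k))} [IsIntegral X.left] [IsLocallyNoetherian X.left]
    (x : 𝟙_ (Over (Spec (CommRingCat.of k))) ⟶ X) :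
    ∃ (A : Type u) (_ : CommRing A) (_ : Algebra k A) (_ : IsDomain A) (_ : IsNoetherianRing A) (ε : A →ₐ[k] k)
      (jA : sp k A ⟶ X), IsOpenImmersion jA.left ∧ Mono jA ∧ pt ε ≫ jA = toUnit _ ≫ x ∧
      ∀ (T : Type u) [CommRing T] [Algebra k T] (J : Ideal T), IsNilpotent J → ∀ y : sp k T ⟶ X,
        pt (Ideal.Quotient.mkₐ k J) ≫ y = toUnit _ ≫ x →
        ∃ φ : A →ₐ[k] T, y = pt φ ≫ jA ∧ ∀ a, ε a = 0 → φ a ∈ J := by
  obtain ⟨V, hV, hxV, -⟩ := exists_isAffineOpen_mem_and_subset (X := X.left)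
    (x := x.left (IsLocalRing.closedPoint k)) (U := ⊤) trivial
  let A : Type u := Γ(X.left, V)
  haveI : Nonempty V.toScheme := ⟨⟨_, hxV⟩⟩
  haveI : IsDomain A := inferInstanceAs (IsDomain Γ(X.left, V))
  haveI : IsNoetherianRing A := IsLocallyNoetherian.component_noetherian ⟨V, hV⟩
  obtain ⟨c, hc⟩ := Spec.map_surjective (hV.fromSpec ≫ X.hom)
  letI : Algebra k A := c.hom.toAlgebra
  let jA : sp k A ⟶ X := Over.homMk hV.fromSpec (by
    show hV.fromSpec ≫ X.hom = Spec.map (CommRingCat.ofHom c.hom)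
    rw [← hc]
    rfl)
  let fs : Spec (CommRingCat.of A) ⟶ X.left := hV.fromSpec
  haveI : IsOpenImmersion fs := inferInstanceAs (IsOpenImmersion hV.fromSpec)
  haveI : IsOpenImmersion jA.left := inferInstanceAs (IsOpenImmersion fs)
  haveI : Mono jA := Over.mono_of_mono_left jA
  have hfs : Set.range fs = (V : Set X.left) := hV.range_fromSpec
  have hfac : ∀ (T : Type u) [CommRing T] [Algebra k T] (y : sp k T ⟶ X),
      Set.range y.left ⊆ (V : Set X.left) → ∃ φ : A →ₐ[k] T, y = pt φ ≫ jA := by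
    intro T _ _ y hy
    let l₀ : Spec (CommRingCat.of T) ⟶ Spec (CommRingCat.of A) := IsOpenImmersion.lift fs y.left (hfs ▸ hy)
    have hl₀ : l₀ ≫ fs = y.left := IsOpenImmersion.lift_fac _ _ _
    let l : sp k T ⟶ sp k A := Over.homMk l₀ (by
      refine Eq.trans ?_ (Over.w y)
      rw [← hl₀]
      exact (congrArg (l₀ ≫ ·) (Over.w jA)).symm.trans (Category.assoc _ _ _).symm)
    obtain ⟨φ, hφ⟩ := Groth.Agent.DiagRep.exists_pt l
    exact ⟨φ, hφ ▸ Over.OverMorphism.ext hl₀.symm⟩
  have hone : ∀ (T : Type u) [CommRing T] [Algebra k T],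
      Set.range (toUnit (sp k T) ≫ x).left ⊆ (V : Set X.left) := by
    intro T _ _
    rintro _ ⟨y, rfl⟩
    rw [Over.comp_left, Scheme.Hom.comp_apply,
      show (toUnit (sp k T)).left y = IsLocalRing.closedPoint k from @Subsingleton.elim (PrimeSpectrum k) _ _ _]
    exact hxV
  obtain ⟨ε, hε⟩ := hfac k (toUnit _ ≫ x) (hone k)
  refine ⟨A, inferInstance, inferInstance, inferInstance, inferInstance, ε, jA, inferInstance, inferInstance,
    hε.symm, fun T _ _ J hJ y hy => ?_⟩
  have hr : Set.range y.left ⊆ (V : Set X.left) := by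
    rintro _ ⟨P, rfl⟩
    let P₀ : PrimeSpectrum T := P
    have hJP : J ≤ P₀.asIdeal := by
      obtain ⟨m, hm⟩ := hJ
      exact Ideal.IsPrime.le_of_pow_le (by rw [hm]; exact bot_le)
    have hPr : P₀ ∈ Set.range (PrimeSpectrum.comap (Ideal.Quotient.mk J)) := by
      rw [range_comap_of_surjective _ _ Ideal.Quotient.mk_surjective, Ideal.mk_ker, PrimeSpectrum.mem_zeroLocus]
      exact hJP
    obtain ⟨P', hP'⟩ := hPr
    refine hone (T ⧸ J) ⟨P', ?_⟩
    rw [← hy, Over.comp_left, Scheme.Hom.comp_apply]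
    exact congrArg (fun z => y.left z) hP'
  obtain ⟨φ, rfl⟩ := hfac T y hr
  refine ⟨φ, rfl, fun a ha => ?_⟩
  have h1 : (Ideal.Quotient.mkₐ k J).comp φ = (Algebra.ofId k (T ⧸ J)).comp ε := by
    apply pt_injective
    rw [← cancel_mono jA, pt_comp, pt_comp, Category.assoc, Category.assoc, hy, ← hε, ← Category.assoc,
      toUnit_unique (pt (Algebra.ofId k (T ⧸ J)) ≫ toUnit _) (toUnit _)]
  have h2 := DFunLike.congr_fun h1 a
  rw [AlgHom.comp_apply, AlgHom.comp_apply, ha, map_zero] at h2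
  exact Ideal.Quotient.eq_zero_iff_mem.1 h2

variable {G X : Over (Spec (CommRingCat.of k))} [GrpObj G] [LocallyOfFiniteType G.hom] [QuasiCompact G.hom]
  (b : AlgGrp.Action G X) (x : 𝟙_ (Over (Spec (CommRingCat.of k))) ⟶ X)

/-- The affinization acts on the infinitesimal neighbourhoods of a fixed point. -/
theorem exists_nbhd_action_pt (hx : b.IsFixedPt x) {A : Type u} [CommRing A] [Algebra k A] (ε : A →ₐ[k] k)
    (jA : sp k A ⟶ X) [Mono jA] (hone : pt ε ≫ jA = toUnit _ ≫ x)
    (hfac : ∀ (T : Type u) [CommRing T] [Algebra k T] (J : Ideal T), IsNilpotent J → ∀ y : sp k T ⟶ X,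
        pt (Ideal.Quotient.mkₐ k J) ≫ y = toUnit _ ≫ x →
        ∃ φ : A →ₐ[k] T, y = pt φ ≫ jA ∧ ∀ a, ε a = 0 → φ a ∈ J)
    (n : ℕ) (B : Type u) [CommRing B] [Algebra k B] (π : A →ₐ[k] B) (hπ : Function.Surjective π)
    (hker : RingHom.ker π = RingHom.ker ε ^ (n + 1)) :
    ∃ a : AlgGrp.Action (hull G) (sp k B), ∀ (T : Over (Spec (CommRingCat.of k))) (g : T ⟶ G) (y : T ⟶ sp k B),
      (lift (g ≫ toHull G) y ≫ a.act) ≫ pt π ≫ jA = lift g (y ≫ pt π ≫ jA) ≫ b.act := by
  let i : sp k B ⟶ X := pt π ≫ jA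
  haveI : Mono (pt π) := by
    haveI : IsClosedImmersion (pt π).left := IsClosedImmersion.spec_of_surjective _ hπ
    exact Over.mono_of_mono_left _
  haveI : Mono i := mono_comp _ _
  haveI : IsAffine (sp k B).left := inferInstanceAs (IsAffine (Spec (CommRingCat.of B)))
  have hJle : RingHom.ker π ≤ RingHom.ker ε := by
    rw [hker]; exact Ideal.pow_le_self (Nat.succ_ne_zero n)
  let εB : B →ₐ[k] k := AlgHom.liftOfSurjective π hπ ε hJle
  have hεB : εB.comp π = ε := AlgHom.liftOfSurjective_comp _ _ _ _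
  have hnil : RingHom.ker εB ^ (n + 1) = ⊥ := by
    have e : RingHom.ker εB ≤ (RingHom.ker ε).map π.toRingHom := by
      intro b hb
      obtain ⟨a, rfl⟩ := hπ b
      exact Ideal.mem_map_of_mem _ ((AlgHom.congr_fun hεB a).symm.trans hb)
    refine eq_bot_iff.2 (le_trans (Ideal.pow_right_mono e _) ?_)
    rw [← Ideal.map_pow, ← hker, Ideal.map_le_iff_le_comap]
    exact fun a ha => ha
  have hstay : ∀ (T : Over (Spec (CommRingCat.of k))) (g : T ⟶ G) (y : T ⟶ sp k B),
      ∃ l : T ⟶ sp k B, l ≫ i = lift g (y ≫ i) ≫ b.act := by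
    intro T g y
    refine exists_factor_of_affine i _ fun R _ _ w => ?_
    obtain ⟨φ, hφ⟩ := Groth.Agent.DiagRep.exists_pt (w ≫ y)
    let J : Ideal R := (RingHom.ker εB).map φ.toRingHom
    have hJ : J ^ (n + 1) = ⊥ := by rw [← Ideal.map_pow, hnil, Ideal.map_bot]
    have h1 : pt (Ideal.Quotient.mkₐ k J) ≫ (w ≫ y) ≫ i = toUnit _ ≫ x := by
      have e : ((Ideal.Quotient.mkₐ k J).comp φ).comp π = (Algebra.ofId k _).comp ε := AlgHom.ext fun a => by
        have hb : π a - algebraMap k B (εB (π a)) ∈ RingHom.ker εB := by simp [RingHom.mem_ker]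
        have h2 : φ (π a - algebraMap k B (εB (π a))) ∈ J := Ideal.mem_map_of_mem _ hb
        rw [← Ideal.Quotient.eq_zero_iff_mem, map_sub, map_sub, AlgHom.commutes, sub_eq_zero,
          show εB (π a) = ε a from AlgHom.congr_fun hεB a] at h2
        exact h2.trans (AlgHom.commutes (Ideal.Quotient.mkₐ k J) _)
      show pt _ ≫ (w ≫ y) ≫ pt π ≫ jA = _
      rw [hφ, ← Category.assoc (pt φ), ← pt_comp, ← Category.assoc, ← pt_comp, ← AlgHom.comp_assoc, e, pt_comp,
        Category.assoc, hone, ← Category.assoc, toUnit_unique (pt (Algebra.ofId k _) ≫ toUnit _) (toUnit _)]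
    obtain ⟨ψ, hψ, hψJ⟩ := hfac R J ⟨n + 1, hJ⟩ (lift (w ≫ g) ((w ≫ y) ≫ i) ≫ b.act) (by
      rw [← Category.assoc, comp_lift, h1]
      exact hx _ _)
    have hψ0 : RingHom.ker π ≤ RingHom.ker ψ := by
      rw [hker]
      have e : (RingHom.ker ε).map ψ.toRingHom ≤ J := Ideal.map_le_iff_le_comap.2 fun a ha => hψJ a ha
      have e2 : (RingHom.ker ε ^ (n + 1)).map ψ.toRingHom ≤ ⊥ := by
        rw [Ideal.map_pow, ← hJ]; exact Ideal.pow_right_mono e _
      exact fun a ha => e2 (Ideal.mem_map_of_mem _ ha)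
    refine ⟨pt (AlgHom.liftOfSurjective π hπ ψ hψ0), ?_⟩
    rw [show i = pt π ≫ jA from rfl, ← Category.assoc, ← pt_comp, AlgHom.liftOfSurjective_comp, ← hψ,
      ← Category.assoc w, comp_lift, Category.assoc w y]
  obtain ⟨c, hc⟩ := hstay (G ⊗ sp k B) (fst _ _) (snd _ _)
  have hcT : ∀ {T : Over (Spec (CommRingCat.of k))} (g : T ⟶ G) (y : T ⟶ sp k B),
      (lift g y ≫ c) ≫ i = lift g (y ≫ i) ≫ b.act := fun g y => by
    rw [Category.assoc, hc, ← Category.assoc, comp_lift, lift_fst, lift_snd_assoc]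
  haveI := qs_grp G
  haveI : IsΓIso (toHull G ⊗ₘ 𝟙 (sp k B)) := isΓIso_tensor _ _
  let act : hull G ⊗ sp k B ⟶ sp k B := desc (toHull G ⊗ₘ 𝟙 (sp k B)) c
  have hact : ∀ {T : Over (Spec (CommRingCat.of k))} (g : T ⟶ G) (y : T ⟶ sp k B),
      (lift (g ≫ toHull G) y ≫ act) ≫ i = lift g (y ≫ i) ≫ b.act := fun g y => by
    rw [← hcT, show lift (g ≫ toHull G) y = lift g y ≫ (toHull G ⊗ₘ 𝟙 (sp k B)) by
      rw [lift_map, Category.comp_id], Category.assoc (lift g y), fac]
  refine ⟨{ act := act, one_act := ?_, mul_act := ?_ }, fun T g y => hact g y⟩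
  · rw [← cancel_mono i, show (η[hull G] ▷ sp k B) = lift (fst _ _ ≫ η[G] ≫ toHull G) (snd _ _) by
        refine CartesianMonoidalCategory.hom_ext _ _ ?_ ?_ <;> simp,
      ← Category.assoc (fst _ _), hact, leftUnitor_hom]
    rw [show fst (𝟙_ (Over (Spec (CommRingCat.of k)))) (sp k B) ≫ η[G] = 1 by
      rw [Hom.one_def, toUnit_unique (fst _ _) (toUnit _)], Groth.Agent.MonoQuot.act_one]
  · haveI : IsΓIso ((toHull G ⊗ₘ toHull G) ⊗ₘ 𝟙 (sp k B)) := isΓIso_tensor _ _
    apply hom_ext ((toHull G ⊗ₘ toHull G) ⊗ₘ 𝟙 (sp k B))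
    rw [← cancel_mono i]
    let p₁ : (G ⊗ G) ⊗ sp k B ⟶ G := fst _ _ ≫ fst _ _
    let p₂ : (G ⊗ G) ⊗ sp k B ⟶ G := fst _ _ ≫ snd _ _
    let p₃ : (G ⊗ G) ⊗ sp k B ⟶ sp k B := snd _ _
    have e₁ : ((toHull G ⊗ₘ toHull G) ⊗ₘ 𝟙 (sp k B)) ≫ (μ[hull G] ▷ sp k B) =
        lift ((p₁ * p₂) ≫ toHull G) p₃ := by
      refine CartesianMonoidalCategory.hom_ext _ _ ?_ (by simp [p₃])
      rw [lift_fst, Category.assoc, whiskerRight_fst, tensorHom_fst_assoc, ← IsMonHom.mul_hom,
        Hom.mul_def, ← comp_lift, lift_fst_snd, Category.comp_id, Category.assoc]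
    have e₂ : ((toHull G ⊗ₘ toHull G) ⊗ₘ 𝟙 (sp k B)) ≫ (α_ (hull G) (hull G) (sp k B)).hom ≫ (hull G ◁ act) =
        lift (p₁ ≫ toHull G) (lift (p₂ ≫ toHull G) p₃ ≫ act) := by
      refine CartesianMonoidalCategory.hom_ext _ _ (by simp [p₁]) ?_
      simp only [Category.assoc, whiskerLeft_snd, lift_snd]
      rw [← Category.assoc (α_ _ _ _).hom, ← Category.assoc]
      congr 1
      refine CartesianMonoidalCategory.hom_ext _ _ (by simp [p₂]) (by simp [p₃])
    rw [← Category.assoc _ (μ[hull G] ▷ sp k B) act, e₁, hact, ← Category.assoc (α_ _ _ _).hom,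
      ← Category.assoc _ _ act, e₂, hact, hact, Groth.Agent.MonoQuot.act_mul]

/-- A point fixing all neighbourhoods of a fixed point fixes a chart. -/
theorem fix_chart {B A : Type u} [CommRing B] [Algebra k B] [CommRing A] [Algebra k A] [IsDomain A]
    [IsNoetherianRing A] [IsSeparated X.hom] (g : sp k B ⟶ G) (ε : A →ₐ[k] k) (jA : sp k A ⟶ X)
    (hnb : ∀ (n : ℕ) (R : Type u) [CommRing R] [Algebra k R] (φ : A →ₐ[k] R),
      RingHom.ker ε ^ (n + 1) ≤ RingHom.ker φ → ∀ h : B →ₐ[k] R,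
        lift (pt h ≫ g) (pt φ ≫ jA) ≫ b.act = pt φ ≫ jA) :
    lift (fst (sp k B) (sp k A) ≫ g) (snd _ _ ≫ jA) ≫ b.act = snd _ _ ≫ jA := by
  let iL : B →ₐ[k] B ⊗[k] A := Algebra.TensorProduct.includeLeft
  let iR : A →ₐ[k] B ⊗[k] A := Algebra.TensorProduct.includeRight
  let y₁ : sp k (B ⊗[k] A) ⟶ X := lift (pt iL ≫ g) (pt iR ≫ jA) ≫ b.act
  let y₂ : sp k (B ⊗[k] A) ⟶ X := pt iR ≫ jA
  let Z := pullback (lift y₁ y₂) (lift (𝟙 X) (𝟙 X))
  let z : Z ⟶ sp k (B ⊗[k] A) := pullback.fst _ _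
  haveI : IsClosedImmersion (pullback.diagonal X.hom) := inferInstance
  haveI : IsClosedImmersion (lift (𝟙 X) (𝟙 X)).left := by
    rwa [show (lift (𝟙 X) (𝟙 X)).left = pullback.diagonal X.hom from rfl]
  haveI : IsClosedImmersion z.left := MorphismProperty.of_isPullback (P := @IsClosedImmersion)
    ((IsPullback.of_hasPullback (lift y₁ y₂) (lift (𝟙 X) (𝟙 X))).map (Over.forget _)).flip ‹_›
  haveI : IsAffine (sp k (B ⊗[k] A)).left := inferInstanceAs (IsAffine (Spec (CommRingCat.of (B ⊗[k] A))))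
  haveI : IsAffine Z.left := isAffine_of_isAffineHom z.left
  obtain ⟨D, _, _, ⟨e⟩⟩ := exists_sp_iso Z
  obtain ⟨δ, hδ⟩ := Groth.Agent.DiagRep.exists_pt (e.hom ≫ z)
  have hδs : Function.Surjective δ := by
    haveI : IsIso e.hom.left := inferInstanceAs (IsIso ((Over.forget _).map e.hom))
    haveI hci : IsClosedImmersion (e.hom ≫ z).left := by rw [Over.comp_left]; infer_instance
    rw [hδ] at hci
    haveI : IsClosedImmersion (Spec.map (CommRingCat.ofHom δ.toRingHom)) := hci
    obtain ⟨-, hs⟩ := IsClosedImmersion.isAffine_surjective_of_isAffine (Spec.map (CommRingCat.ofHom δ.toRingHom))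
    intro w
    obtain ⟨a, ha⟩ := hs ((Scheme.ΓSpecIso (CommRingCat.of D)).inv w)
    refine ⟨(Scheme.ΓSpecIso (CommRingCat.of (B ⊗[k] A))).hom a, ?_⟩
    have e' := congr($(Scheme.ΓSpecIso_naturality (CommRingCat.ofHom δ.toRingHom)) a)
    exact e'.symm.trans ((congrArg (Scheme.ΓSpecIso (CommRingCat.of D)).hom ha).trans
      (Iso.inv_hom_id_apply (Scheme.ΓSpecIso (CommRingCat.of D)) w))
  -- the obstruction ideal is zero
  have hker : ∀ w, δ w = 0 → w = 0 := by
    intro w hw
    let bB := Module.Free.chooseBasis k B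
    let bA := Algebra.TensorProduct.basis A bB
    let wA : A ⊗[k] B := Algebra.TensorProduct.comm k B A w
    suffices h : wA = 0 by simpa [wA] using h
    apply bA.repr.injective
    rw [map_zero]
    ext i
    have hall : ∀ m : ℕ, bA.repr wA i ∈ RingHom.ker ε ^ (m + 1) := by
      intro m
      let π : A →ₐ[k] A ⧸ RingHom.ker ε ^ (m + 1) := Ideal.Quotient.mkₐ k _
      let ψ : B ⊗[k] A →ₐ[k] B ⊗[k] (A ⧸ RingHom.ker ε ^ (m + 1)) := Algebra.TensorProduct.map (AlgHom.id k B) π
      have he : pt ψ ≫ y₁ = pt ψ ≫ y₂ := by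
        simp only [y₁, y₂, ← Category.assoc, comp_lift, ← pt_comp]
        refine hnb m _ _ (fun a ha => ?_) _
        show ψ (iR a) = 0
        simp only [ψ, iR, Algebra.TensorProduct.includeRight_apply, Algebra.TensorProduct.map_tmul]
        rw [show π a = 0 from Ideal.Quotient.eq_zero_iff_mem.2 ha, TensorProduct.tmul_zero]
      obtain ⟨η', hη'⟩ := Groth.Agent.DiagRep.exists_pt
        (pullback.lift (pt ψ) (pt ψ ≫ y₂) (by rw [comp_lift, comp_lift, Category.comp_id, he]) ≫ e.inv)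
      have hψ : η'.comp δ = ψ := pt_injective (by
        rw [pt_comp, ← hδ, ← hη', Category.assoc, e.inv_hom_id_assoc, pullback.lift_fst])
      have hψ0 : ψ w = 0 := by rw [← hψ, AlgHom.comp_apply, hw, map_zero]
      let bQ := Algebra.TensorProduct.basis (A ⧸ RingHom.ker ε ^ (m + 1)) bB
      have hnat : ∀ v, bQ.repr (Algebra.TensorProduct.comm k B _ (ψ v)) i = π (bA.repr (Algebra.TensorProduct.comm k B A v) i) := by
        intro v
        induction v using TensorProduct.induction_on with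
        | zero => simp
        | add p q hp hq => simp only [map_add, Finsupp.add_apply, hp, hq]
        | tmul p q => simp [ψ, bA, bQ, Algebra.smul_def]
      have := hnat w
      rw [hψ0, map_zero, map_zero, Finsupp.zero_apply] at this
      exact Ideal.Quotient.eq_zero_iff_mem.1 this.symm
    have hbot := Ideal.iInf_pow_eq_bot_of_isDomain (I := RingHom.ker ε) (RingHom.ker_ne_top ε.toRingHom)
    have : bA.repr wA i ∈ ⨅ j : ℕ, RingHom.ker ε ^ j := by
      rw [Submodule.mem_iInf]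
      intro j
      rcases j with _ | j
      · simp
      · exact hall j
    rwa [hbot, Ideal.mem_bot] at this
  haveI : IsIso z := by
    let δe : B ⊗[k] A ≃ₐ[k] D := AlgEquiv.ofBijective δ ⟨(injective_iff_map_eq_zero δ).2 hker, hδs⟩
    haveI : IsIso (pt δ) := ⟨pt δe.symm.toAlgHom, by
      rw [← pt_comp, ← pt_id]; congr 1; ext a <;> exact δe.apply_symm_apply a, by
      rw [← pt_comp, ← pt_id]; congr 1; ext a <;> exact δe.symm_apply_apply _⟩
    rw [show z = e.inv ≫ pt δ by rw [← hδ, e.inv_hom_id_assoc]]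
    infer_instance
  have h12 : y₁ = y₂ := by
    have h := pullback.condition (f := lift y₁ y₂) (g := lift (𝟙 X) (𝟙 X))
    have ha := congrArg (· ≫ fst X X) h
    have hb := congrArg (· ≫ snd X X) h
    simp only [Category.assoc, lift_fst, lift_snd, Category.comp_id] at ha hb
    rw [← cancel_epi z, show z ≫ y₁ = _ from ha, show z ≫ y₂ = _ from hb]
  haveI := Groth.Agent.NormCent.isIso_U (R := k) B A
  rw [← cancel_epi (lift (pt iL) (pt iR)), ← Category.assoc, comp_lift, lift_fst_assoc, lift_snd_assoc]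
  exact h12

/-- An action with a fixed point factors through an affine algebraic group acting faithfully. -/
theorem exists_fixKernel [IsSeparated X.hom] [IsIntegral X.left] [IsLocallyNoetherian X.left] (hx : b.IsFixedPt x) :
    ∃ (P : Over (Spec (CommRingCat.of k))) (_ : GrpObj P) (q : G ⟶ P), IsMonHom q ∧ IsAffine P.left ∧
      LocallyOfFiniteType P.hom ∧ Flat q.left ∧ Surjective q.left ∧
      ∀ (T : Over (Spec (CommRingCat.of k))) (g : T ⟶ G), g ≫ q = 1 ↔
        ∀ (T' : Over (Spec (CommRingCat.of k))) (t : T' ⟶ T) (y : T' ⟶ X), lift (t ≫ g) y ≫ b.act = y := by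
  obtain ⟨A, _, _, _, _, ε, jA, hoi, hmono, hone, hfac⟩ := exists_chart_pt x
  haveI := hoi; haveI := hmono
  choose a ha using fun n : ℕ => exists_nbhd_action_pt b x hx ε jA hone hfac n (A ⧸ RingHom.ker ε ^ (n + 1))
    (Ideal.Quotient.mkₐ k _) Ideal.Quotient.mk_surjective (Ideal.Quotient.mkₐ_ker k _)
  obtain ⟨K, _, c, _, _, hKn, hK⟩ := exists_trivAct_subgroup a
  obtain ⟨P, _, π, _, _, ⟨_, _, _⟩, hπ⟩ := exists_affine_kernel' c hKn
  refine ⟨P, inferInstance, toHull G ≫ π, inferInstance, inferInstance, inferInstance,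
    by rw [Over.comp_left]; infer_instance, by rw [Over.comp_left]; infer_instance, fun T g => ?_⟩
  rw [← Category.assoc, hπ, hK]
  constructor
  · intro hg T' t y
    -- check on affine pieces of the test scheme
    have key : ∀ (B : Type u) [CommRing B] [Algebra k B] (w : sp k B ⟶ T'),
        lift (w ≫ t ≫ g) (w ≫ y) ≫ b.act = w ≫ y := by
      intro B _ _ w
      have hch : lift (fst (sp k B) (sp k A) ≫ w ≫ t ≫ g) (snd _ _ ≫ jA) ≫ b.act = snd _ _ ≫ jA := by
        refine fix_chart b (w ≫ t ≫ g) ε jA fun n R _ _ φ hφ h => ?_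
        let ψ : A ⧸ RingHom.ker ε ^ (n + 1) →ₐ[k] R := Ideal.Quotient.liftₐ _ φ hφ
        have ht := hg n _ (pt h ≫ w ≫ t) (pt ψ)
        have h2 := ha n _ (pt h ≫ w ≫ t ≫ g) (pt ψ)
        simp only [Category.assoc] at ht
        rw [show (pt h ≫ w ≫ t ≫ g) ≫ toHull G = pt h ≫ w ≫ t ≫ g ≫ toHull G by simp only [Category.assoc],
          ht] at h2
        have e : pt ψ ≫ pt (Ideal.Quotient.mkₐ k (RingHom.ker ε ^ (n + 1))) ≫ jA = pt φ ≫ jA := by
          rw [← Category.assoc, ← pt_comp]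
          congr 2
        rw [e] at h2
        exact h2.symm
      let y₁ : sp k B ⊗ X ⟶ X := lift (fst _ _ ≫ w ≫ t ≫ g) (snd _ _) ≫ b.act
      have hy : (sp k B ◁ jA) ≫ y₁ = (sp k B ◁ jA) ≫ snd (sp k B) X := by
        rw [← Category.assoc, comp_lift, whiskerLeft_fst_assoc, whiskerLeft_snd]
        exact hch
      haveI : Flat (sp k B).hom := Groth.Agent.GrpField.flat_field _
      haveI : QuasiCompact jA.left := by
        haveI : CompactSpace (sp k A).left := inferInstanceAs (CompactSpace (PrimeSpectrum A))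
        haveI : QuasiSeparatedSpace X.left := quasiSeparatedSpace_of_quasiSeparated X.hom
        exact QuasiCompact.of_comp jA.left X.hom
      haveI : Nonempty (sp k A).left := inferInstanceAs (Nonempty (PrimeSpectrum A))
      haveI : IsDominant jA.left :=
        ⟨IsOpen.dense jA.left.isOpenEmbedding.isOpen_range (Set.range_nonempty _)⟩
      haveI : IsSchemeTheoreticallyDominant jA.left := .of_isDominant _
      haveI : Flat (pullback.snd (sp k B).hom X.hom) := inferInstance
      haveI : IsSchemeTheoreticallyDominant (sp k B ◁ jA).left :=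
        IsSchemeTheoreticallyDominant.of_isPullback (Groth.Agent.FinHom.isPullback_whiskerLeft (sp k B) jA).flip
      have hy' : y₁ = snd (sp k B) X := Over.OverMorphism.ext
        (MiscFlat6.ext_of_isSchemeTheoreticallyDominant (sp k B ◁ jA).left X.hom y₁.left (snd (sp k B) X).left
          (by rw [Over.w, Over.w]) (congrArg CommaMorphism.left hy))
      have := congrArg (lift (𝟙 _) (w ≫ y) ≫ ·) hy'
      simpa only [y₁, ← Category.assoc, comp_lift, lift_fst, lift_snd, Category.id_comp] using this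
    refine Over.OverMorphism.ext (T'.left.affineCover.hom_ext _ _ fun j => ?_)
    obtain ⟨φ, hφ⟩ := Spec.map_surjective ((T'.left.affineCover.X j).isoSpec.inv ≫ T'.left.affineCover.f j ≫ T'.hom)
    letI : Algebra k Γ(T'.left.affineCover.X j, ⊤) := φ.hom.toAlgebra
    let w : sp k Γ(T'.left.affineCover.X j, ⊤) ⟶ T' :=
      Over.homMk ((T'.left.affineCover.X j).isoSpec.inv ≫ T'.left.affineCover.f j) (by
        rw [Category.assoc]; exact hφ.symm)
    have h := key _ w
    rw [← comp_lift, Category.assoc] at h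
    have h' := congrArg CommaMorphism.left h
    exact (cancel_epi (T'.left.affineCover.X j).isoSpec.inv).1 (by simpa [w] using h')
  · intro hg n T' t y
    have h2 := ha n T' (t ≫ g) y
    rw [Category.assoc t g] at h2
    haveI : Mono (pt (Ideal.Quotient.mkₐ k (RingHom.ker ε ^ (n + 1)))) := by
      haveI : IsClosedImmersion (pt (Ideal.Quotient.mkₐ k (RingHom.ker ε ^ (n + 1)))).left :=
        IsClosedImmersion.spec_of_surjective _ Ideal.Quotient.mk_surjective
      exact Over.mono_of_mono_left _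
    rw [← cancel_mono (pt (Ideal.Quotient.mkₐ k (RingHom.ker ε ^ (n + 1))) ≫ jA), h2]
    exact hg T' t _

/-- A quotient with the same kernel as an affine one is affine. -/
theorem isAffine_of_same_kernel {Q P : Over (Spec (CommRingCat.of k))} [GrpObj Q] [GrpObj P]
    [LocallyOfFiniteType Q.hom] [LocallyOfFiniteType P.hom] (q : G ⟶ Q) (p : G ⟶ P) [IsMonHom q] [IsMonHom p]
    [Surjective q.left] [Flat q.left] [Surjective p.left] [Flat p.left] [IsAffine P.left]
    (h : ∀ (T : Over (Spec (CommRingCat.of k))) (g : T ⟶ G), g ≫ q = 1 ↔ g ≫ p = 1) : IsAffine Q.left := by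
  haveI := lfp_of_lft q
  haveI := lfp_of_lft p
  have hd : ∀ {P P' : Over (Spec (CommRingCat.of k))} [GrpObj P] [GrpObj P'] (p : G ⟶ P) (p' : G ⟶ P') [IsMonHom p]
      [IsMonHom p'], (∀ T (g : T ⟶ G), g ≫ p = 1 → g ≫ p' = 1) →
      ∀ (T : Over (Spec (CommRingCat.of k))) (a b : T ⟶ G), a ≫ p = b ≫ p → a ≫ p' = b ≫ p' := by
    intro P P' _ _ p p' _ _ h T a b e
    have := h T (a * b⁻¹) (by rw [MonObj.mul_comp, GrpObj.inv_comp, e, mul_inv_cancel])
    rwa [MonObj.mul_comp, GrpObj.inv_comp, mul_inv_eq_one] at this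
  obtain ⟨y, hy⟩ := Groth.Agent.MonoQuot.exists_desc_over q p (hd q p fun T g => (h T g).1)
  obtain ⟨y', hy'⟩ := Groth.Agent.MonoQuot.exists_desc_over p q (hd p q fun T g => (h T g).2)
  haveI := Groth.Agent.MonoQuot.epi_over q
  haveI := Groth.Agent.MonoQuot.epi_over p
  haveI : IsIso y := ⟨y', by rw [← cancel_epi q, ← Category.assoc, hy, hy', Category.comp_id],
    by rw [← cancel_epi p, ← Category.assoc, hy', hy, Category.comp_id]⟩
  haveI : IsIso y.left := inferInstanceAs (IsIso ((Over.forget _).map y))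
  exact IsAffine.of_isIso y.left

end AntiAffLib
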