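import Groth.Agent.AntiAffLib.Affinize
import Groth.Agent.AntiAffLib.Basics2
import Groth.Agent.SubDescLib.Main
import Groth.Agent.GrpdFieldLib.Dim
import Groth.Prelude

/-!
# The kernel of the affinization is anti-affine
-/

set_option autoImplicit false
set_option linter.style.haveILetI false
set_option backward.isDefEq.respectTransparency false

universe u

open CategoryTheory CategoryTheory.Limits MonoidalCategory CartesianMonoidalCategory AlgebraicGeometry
open scoped MonObj

noncomputable section

namespace AntiAffLib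

variable {k : Type u} [Field k]
  (G : Over (Spec (CommRingCat.of k))) [GrpObj G] [LocallyOfFiniteType G.hom] [QuasiCompact G.hom]

/-- The kernel of the affinization. -/
def ker : Over (Spec (CommRingCat.of k)) :=
  pullback (toHull G) (η[hull G] : 𝟙_ (Over (Spec (CommRingCat.of k))) ⟶ hull G)

/-- Its inclusion. -/
def kerIncl : ker G ⟶ G := pullback.fst _ _

theorem kerIncl_comp : kerIncl G ≫ toHull G = 1 := by
  rw [kerIncl, pullback.condition, Hom.one_def, toUnit_unique (pullback.snd (toHull G) η[hull G]) (toUnit _)]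
  rfl

/-- Points killed by the affinization factor through the kernel. -/
theorem exists_lift {T : Over (Spec (CommRingCat.of k))} (g : T ⟶ G) (h : g ≫ toHull G = 1) :
    ∃ l : T ⟶ ker G, l ≫ kerIncl G = g :=
  ⟨pullback.lift g (toUnit T) (by rw [h, Hom.one_def]), pullback.lift_fst _ _ _⟩

/-- The point of the kernel given by a point killed by the affinization. -/
def liftKer {T : Over (Spec (CommRingCat.of k))} (g : T ⟶ G) (h : g ≫ toHull G = 1) : T ⟶ ker G :=
  (exists_lift G g h).choose

@[reassoc (attr := simp)]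
theorem liftKer_comp {T : Over (Spec (CommRingCat.of k))} (g : T ⟶ G) (h : g ≫ toHull G = 1) :
    liftKer G g h ≫ kerIncl G = g :=
  (exists_lift G g h).choose_spec

instance isClosedImmersion_kerIncl : IsClosedImmersion (kerIncl G).left :=
  OrbitLib.ToAffine.isClosedImmersion_ker (toHull G)

instance mono_kerIncl : Mono (kerIncl G) := Over.mono_of_mono_left _

theorem exists_kerGrp : ∃ _ : GrpObj (ker G), IsMonHom (kerIncl G) := by
  refine Groth.Agent.SubDesc.exists_grpObj_of_mono (kerIncl G) (exists_lift G _ ?_) ⟨pullback.lift η[G] (𝟙 _) (by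
    rw [IsMonHom.one_hom, Category.id_comp]), ?_⟩ (exists_lift G _ ?_)
  · rw [MonObj.mul_comp, Category.assoc, Category.assoc, kerIncl_comp, MonObj.comp_one, MonObj.comp_one, one_mul]
  · rw [kerIncl, pullback.lift_fst, Hom.one_def, toUnit_unique (toUnit _) (𝟙 _), Category.id_comp]
  · rw [GrpObj.inv_comp, kerIncl_comp, inv_one]

instance grpObjKer : GrpObj (ker G) := (exists_kerGrp G).choose

instance isMonHom_kerIncl : IsMonHom (kerIncl G) := (exists_kerGrp G).choose_spec

instance lft_ker : LocallyOfFiniteType (ker G).hom := by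
  rw [← Over.w (kerIncl G)]; infer_instance

instance qc_ker : QuasiCompact (ker G).hom := by
  rw [← Over.w (kerIncl G)]; infer_instance

instance qs_ker : QuasiSeparated (ker G).hom := qs_grp (ker G)

theorem nonempty_grp (H : Over (Spec (CommRingCat.of k))) [GrpObj H] : Nonempty H.left :=
  ⟨(η[H] : 𝟙_ (Over (Spec (CommRingCat.of k))) ⟶ H).left (IsLocalRing.closedPoint k)⟩

/-- The square of the torsor. -/
theorem isPullback_shear {V : Over (Spec (CommRingCat.of k))} (v : V ⟶ G) :
    IsPullback ((fst (ker G) V ≫ kerIncl G) * (snd (ker G) V ≫ v)) (snd (ker G) V) (toHull G) (v ≫ toHull G) := by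
  refine IsPullback.of_isLimit' ⟨?_⟩ (PullbackCone.IsLimit.mk _ (fun c =>
    lift (liftKer G (c.fst * (c.snd ≫ v)⁻¹) (by
      rw [MonObj.mul_comp, GrpObj.inv_comp, c.condition, Category.assoc, mul_inv_cancel])) c.snd) (fun c => ?_) (fun c => ?_) (fun c m h₁ h₂ => ?_))
  · rw [MonObj.mul_comp, Category.assoc, kerIncl_comp, MonObj.comp_one, one_mul, Category.assoc]
  · rw [MonObj.comp_mul, lift_fst_assoc, lift_snd_assoc, liftKer_comp, inv_mul_cancel_right]
  · rw [lift_snd]
  · refine CartesianMonoidalCategory.hom_ext _ _ ?_ (by rw [lift_snd]; exact h₂)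
    rw [lift_fst, ← cancel_mono (kerIncl G), liftKer_comp, ← h₁, ← h₂, MonObj.comp_mul,
      ← Category.assoc m (snd _ _), mul_inv_cancel_right, Category.assoc]

/-- The kernel of the affinization has no nonconstant functions. -/
instance antiAff_ker : IsΓIso (toUnit (ker G)) := by
  haveI := nonempty_grp G
  haveI := nonempty_grp (ker G)
  haveI := qs_grp G
  obtain ⟨V₀, hV, hxV, -⟩ := exists_isAffineOpen_mem_and_subset (X := G.left)
    (x := Classical.arbitrary _) (U := ⊤) trivial
  let V : Over (Spec (CommRingCat.of k)) := Over.mk (V₀.ι ≫ G.hom)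
  let v : V ⟶ G := Over.homMk V₀.ι rfl
  haveI : IsAffine V.left := hV
  haveI : Nonempty V.left := ⟨⟨_, hxV⟩⟩
  haveI : IsOpenImmersion v.left := inferInstanceAs (IsOpenImmersion V₀.ι)
  haveI : Flat (v ≫ toHull G).left := by rw [Over.comp_left]; infer_instance
  haveI : CompactSpace G.left := QuasiCompact.compactSpace_of_compactSpace G.hom
  haveI : QuasiSeparatedSpace G.left := quasiSeparatedSpace_of_quasiSeparated G.hom
  have H := (isPullback_shear G v).map (Over.forget _)
  have hiso := isIso_pushoutSection_of_isQuasiSeparated_of_flat_right (f := (v ≫ toHull G).left) H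
    (US := ⊤) (UT := ⊤) (UX := ⊤) le_top le_top (UY := ⊤) (by simp) (isAffineOpen_top _) (isAffineOpen_top _)
    (isCompact_univ (X := G.left)) (isQuasiSeparated_univ (α := G.left))
  have hpo := (isIso_pushoutSection_iff H (US := ⊤) (UT := ⊤) (UX := ⊤) le_top le_top (UY := ⊤) (by simp)).1 hiso
  haveI : IsIso (((Over.forget _).map (toHull G)).appLE ⊤ ⊤ le_top) := by
    have := (isΓIso_toHull G).iso
    show IsIso ((toHull G).left.appLE ⊤ ⊤ _)
    simpa [Scheme.Hom.appLE, Scheme.Hom.appTop] using this
  have hb := hpo.isIso_inr_of_isIso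
  haveI : IsΓIso (snd (ker G) V) := ⟨by simpa [Scheme.Hom.appLE, Scheme.Hom.appTop] using hb⟩
  exact antiAff_of_snd (ker G) V

end AntiAffLib
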