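import Groth.Agent.AntiAffLib.Basics2
import Groth.Prelude

/-!
# Rigidity for anti-affine factors: the local statement
-/

set_option autoImplicit false
set_option linter.style.haveILetI false
set_option backward.isDefEq.respectTransparency false
set_option maxHeartbeats 1600000

universe u

open CategoryTheory CategoryTheory.Limits MonoidalCategory CartesianMonoidalCategory AlgebraicGeometry CoactBr
open scoped MonObj TensorProduct

noncomputable section

namespace AntiAffLib

variable {k : Type u} [Field k]

/-- The elements killed by localisation at a prime are killed by one element outside it. -/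
theorem exists_kill (B : Type u) [CommRing B] [IsNoetherianRing B] (p : Ideal B) [p.IsPrime] :
    ∃ s : B, s ∉ p ∧ ∀ b ∈ RingHom.ker (algebraMap B (Localization.AtPrime p)),
      algebraMap B (Localization.Away s) b = 0 := by
  classical
  obtain ⟨F, hF⟩ := IsNoetherian.noetherian (RingHom.ker (algebraMap B (Localization.AtPrime p)))
  have hx : ∀ x ∈ F, ∃ c : B, c ∉ p ∧ c * x = 0 := fun x hx => by
    have h0 : algebraMap B (Localization.AtPrime p) x = 0 :=
      RingHom.mem_ker.1 (hF ▸ Ideal.subset_span hx)
    obtain ⟨⟨c, hc⟩, hc'⟩ := (IsLocalization.map_eq_zero_iff p.primeCompl _ _).1 h0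
    exact ⟨c, hc, hc'⟩
  choose! c hc hc0 using hx
  refine ⟨∏ x ∈ F, c x, fun h => ?_, fun b hb => ?_⟩
  · obtain ⟨x, hx, hx'⟩ := (Ideal.IsPrime.prod_mem_iff.1 h)
    exact hc x hx hx'
  · suffices (∏ x ∈ F, c x) * b = 0 from
      (IsLocalization.map_eq_zero_iff (Submonoid.powers (∏ x ∈ F, c x)) _ _).2
        ⟨⟨_, Submonoid.mem_powers _⟩, this⟩
    rw [← hF] at hb
    refine Submodule.span_induction ?_ (mul_zero _) (fun a b _ _ ha hb => ?_) (fun r a _ ha => ?_) hb
    · intro x hx
      rw [← Finset.mul_prod_erase _ _ hx, mul_assoc, mul_comm _ x, ← mul_assoc, hc0 x hx, zero_mul]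
    · rw [mul_add, ha, hb, add_zero]
    · rw [smul_eq_mul, mul_left_comm, ha, mul_zero]

/-- An element of a tensor product vanishes if all its coefficients in the second factor do. -/
theorem map_eq_zero_of_forall {A B B' : Type u} [CommRing A] [Algebra k A] [CommRing B] [Algebra k B]
    [CommRing B'] [Algebra k B'] {N₀ : Type*} (Cn : N₀ → Type u) [∀ n, CommRing (Cn n)] [∀ n, Algebra k (Cn n)]
    (φ : ∀ n, B →ₐ[k] Cn n) (ψ : B →ₐ[k] B') (hψ : ∀ b, (∀ n, φ n b = 0) → ψ b = 0)
    (x : A ⊗[k] B) (hx : ∀ n, Algebra.TensorProduct.map (AlgHom.id k A) (φ n) x = 0) :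
    Algebra.TensorProduct.map (AlgHom.id k A) ψ x = 0 := by
  classical
  let e := Module.Free.chooseBasis k A
  obtain ⟨c, rfl⟩ : ∃ c : Module.Free.ChooseBasisIndex k A →₀ B, x = c.sum fun i b => e i ⊗ₜ b := by
    obtain ⟨b, hb⟩ := (TensorProduct.eq_repr_basis_left e x)
    exact ⟨b, hb.symm⟩
  have hc : ∀ i n, φ n (c i) = 0 := fun i n => by
    have h := hx n
    rw [map_finsuppSum] at h
    simp only [Algebra.TensorProduct.map_tmul, AlgHom.id_apply] at h
    have h' := TensorProduct.sum_tmul_basis_left_eq_zero e (Finsupp.mapRange (φ n) (map_zero _) c) (by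
      rw [Finsupp.sum_mapRange_index (fun i => TensorProduct.tmul_zero _ _)]; exact h)
    simpa using congrArg (fun d => d i) h'
  rw [map_finsuppSum]
  refine Finset.sum_eq_zero fun i _ => ?_
  simp [hψ _ (hc i)]

/-- The product of the spectra. -/
def spTensor (A B : Type u) [CommRing A] [Algebra k A] [CommRing B] [Algebra k B] :
    sp k (A ⊗[k] B) ⟶ sp k A ⊗ sp k B :=
  lift (pt Algebra.TensorProduct.includeLeft) (pt Algebra.TensorProduct.includeRight)

instance isIso_spTensor (A B : Type u) [CommRing A] [Algebra k A] [CommRing B] [Algebra k B] :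
    IsIso (spTensor (k := k) A B) := by
  haveI : IsIso ((Over.forget _).map (spTensor (k := k) A B)) := by
    have : (spTensor (k := k) A B).left = (pullbackSpecIso k A B).inv := by
      refine pullback.hom_ext ?_ ?_
      · exact (congrArg Over.Hom.left (lift_fst (pt (Algebra.TensorProduct.includeLeft (R := k) (S := k) (A := A) (B := B))) (pt (Algebra.TensorProduct.includeRight (R := k) (A := A) (B := B))))).trans (pullbackSpecIso_inv_fst k A B).symm
      · exact (congrArg Over.Hom.left (lift_snd (pt (Algebra.TensorProduct.includeLeft (R := k) (S := k) (A := A) (B := B))) (pt (Algebra.TensorProduct.includeRight (R := k) (A := A) (B := B))))).trans (pullbackSpecIso_inv_snd k A B).symm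
    show IsIso (spTensor (k := k) A B).left
    rw [this]; infer_instance
  exact isIso_of_reflects_iso _ (Over.forget _)

theorem spTensor_natural {A B B' : Type u} [CommRing A] [Algebra k A] [CommRing B] [Algebra k B]
    [CommRing B'] [Algebra k B'] (φ : B →ₐ[k] B') :
    pt (Algebra.TensorProduct.map (AlgHom.id k A) φ) ≫ spTensor A B = spTensor A B' ≫ (sp k A ◁ pt φ) := by
  refine CartesianMonoidalCategory.hom_ext _ _ ?_ ?_
  · rw [Category.assoc, Category.assoc, whiskerLeft_fst, spTensor, spTensor, lift_fst, lift_fst, ← pt_comp]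
    congr 1
    ext a; simp
  · rw [Category.assoc, Category.assoc, whiskerLeft_snd, spTensor, spTensor, lift_snd, lift_snd_assoc, ← pt_comp,
      ← pt_comp]
    congr 1

/-- Agreement on all infinitesimal neighbourhoods gives agreement near the point. -/
theorem eq_near {Z : Over (Spec (CommRingCat.of k))} [IsSeparated Z.hom] (A B : Type u) [CommRing A] [Algebra k A]
    [CommRing B] [Algebra k B] [IsNoetherianRing B] (p : Ideal B) [p.IsPrime] (F F' : sp k A ⊗ sp k B ⟶ Z)
    (h : ∀ n : ℕ, (sp k A ◁ pt ((Ideal.Quotient.mkₐ k (IsLocalRing.maximalIdeal (Localization.AtPrime p) ^ n)).comp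
      (IsScalarTower.toAlgHom k B (Localization.AtPrime p)))) ≫ F = (sp k A ◁ pt ((Ideal.Quotient.mkₐ k
      (IsLocalRing.maximalIdeal (Localization.AtPrime p) ^ n)).comp
      (IsScalarTower.toAlgHom k B (Localization.AtPrime p)))) ≫ F')
    (s : B) (hs : ∀ b ∈ RingHom.ker (algebraMap B (Localization.AtPrime p)), algebraMap B (Localization.Away s) b = 0) :
    (sp k A ◁ pt (IsScalarTower.toAlgHom k B (Localization.Away s))) ≫ F =
      (sp k A ◁ pt (IsScalarTower.toAlgHom k B (Localization.Away s))) ≫ F' := by
  let L := Localization.AtPrime p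
  let φ : ∀ n : ℕ, B →ₐ[k] L ⧸ (IsLocalRing.maximalIdeal L ^ n) := fun n =>
    (Ideal.Quotient.mkₐ k _).comp (IsScalarTower.toAlgHom k B L)
  let ψ := IsScalarTower.toAlgHom k B (Localization.Away s)
  rw [← cancel_epi (spTensor A (Localization.Away s)), ← Category.assoc, ← Category.assoc, ← spTensor_natural,
    Category.assoc, Category.assoc]
  -- the locus of agreement in the spectrum of the tensor product
  let G := spTensor A B ≫ F
  let G' := spTensor A B ≫ F'
  let W := Spec (CommRingCat.of (A ⊗[k] B))
  let c : W ⟶ pullback Z.hom Z.hom := pullback.lift G.left G'.left ((Over.w G).trans (Over.w G').symm)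
  haveI : IsClosedImmersion (pullback.snd (pullback.diagonal Z.hom) c) :=
    MorphismProperty.pullback_snd _ _ inferInstance
  obtain ⟨J, e, he⟩ := IsClosedImmersion.Spec_iff.1 ‹IsClosedImmersion (pullback.snd (pullback.diagonal Z.hom) c)›
  have heq : ∀ {R : Type u} [CommRing R] [Algebra k R] (θ : A ⊗[k] B →ₐ[k] R),
      pt θ ≫ G = pt θ ≫ G' ↔ ∀ x ∈ J, θ x = 0 := by
    intro R _ _ θ
    constructor
    · intro hθ x hx
      have hl : (pt θ).left ≫ c = ((pt θ) ≫ G).left ≫ pullback.diagonal Z.hom := by
        refine pullback.hom_ext ?_ ?_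
        · simp [c]
        · simp only [c, Category.assoc, pullback.lift_snd, pullback.diagonal_snd, Category.comp_id]
          rw [← Over.comp_left, hθ]
      let l := pullback.lift ((pt θ) ≫ G).left (pt θ).left hl.symm
      have hfac : (l ≫ e.hom) ≫ Spec.map (CommRingCat.ofHom (Ideal.Quotient.mk J)) =
          Spec.map (CommRingCat.ofHom θ.toRingHom) := by
        rw [Category.assoc, ← he, pullback.lift_snd]; rfl
      obtain ⟨ω, hω⟩ := Spec.map_surjective (l ≫ e.hom)
      rw [← hω, ← Spec.map_comp] at hfac
      have := congr($(Spec.map_injective hfac) x)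
      simp only [CommRingCat.hom_comp, RingHom.comp_apply, CommRingCat.hom_ofHom] at this
      rw [(Ideal.Quotient.eq_zero_iff_mem).2 hx, map_zero] at this
      exact this.symm
    · intro hθ
      let ω : (A ⊗[k] B) ⧸ J →+* R := Ideal.Quotient.lift J θ.toRingHom hθ
      have hfac : (Spec.map (CommRingCat.ofHom ω) ≫ e.inv) ≫ pullback.snd (pullback.diagonal Z.hom) c =
          (pt θ).left := by
        rw [Category.assoc, he, e.inv_hom_id_assoc, ← Spec.map_comp]
        exact congrArg Spec.map (CommRingCat.hom_ext (Ideal.Quotient.lift_comp_mk J θ.toRingHom hθ))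
      have h2 : (pt θ).left ≫ c = ((Spec.map (CommRingCat.ofHom ω) ≫ e.inv) ≫
          pullback.fst (pullback.diagonal Z.hom) c) ≫ pullback.diagonal Z.hom := by
        rw [← hfac]
        simp only [Category.assoc]
        exact congrArg (Spec.map (CommRingCat.ofHom ω) ≫ e.inv ≫ ·) pullback.condition.symm
      refine Over.OverMorphism.ext ?_
      have e1 := congrArg (· ≫ pullback.fst Z.hom Z.hom) h2
      have e2 := congrArg (· ≫ pullback.snd Z.hom Z.hom) h2
      simp only [c, Category.assoc, pullback.lift_fst, pullback.lift_snd, pullback.diagonal_fst, pullback.diagonal_snd,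
        Category.comp_id] at e1 e2
      exact e1.trans e2.symm
  refine (heq (Algebra.TensorProduct.map (AlgHom.id k A) ψ)).2 fun x hx => ?_
  refine map_eq_zero_of_forall (fun n : ℕ => L ⧸ (IsLocalRing.maximalIdeal L ^ n)) φ ψ (fun b hb => ?_) x fun n => ?_
  · refine hs b (RingHom.mem_ker.2 ?_)
    have hmem : algebraMap B L b ∈ ⨅ n : ℕ, IsLocalRing.maximalIdeal L ^ n :=
      Ideal.mem_iInf.2 fun n => Ideal.Quotient.eq_zero_iff_mem.1 (hb n)
    rwa [Ideal.iInf_pow_eq_bot_of_isLocalRing _ (Ideal.IsPrime.ne_top inferInstance), Ideal.mem_bot] at hmem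
  · refine (@heq (A ⊗[k] (L ⧸ IsLocalRing.maximalIdeal L ^ n)) _ _ (Algebra.TensorProduct.map (AlgHom.id k A) (φ n))).1 ?_ x hx
    rw [← Category.assoc, ← Category.assoc (pt _) (spTensor A B), spTensor_natural, Category.assoc, Category.assoc,
      h n]

end AntiAffLib
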