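import Groth.Agent.AntiAffLib.RigidLocal
import Groth.Agent.FinHomLib.Affine
import Groth.Prelude

/-!
# Rigidity for anti-affine factors
-/

set_option autoImplicit false
set_option linter.style.haveILetI false
set_option backward.isDefEq.respectTransparency false
set_option maxHeartbeats 1600000

universe u

open CategoryTheory CategoryTheory.Limits MonoidalCategory CartesianMonoidalCategory AlgebraicGeometry CoactBr
open scoped MonObj TensorProduct

noncomputable section

namespace AntiAffLib

variable {k : Type u} [Field k] {X Y Z : Over (Spec (CommRingCat.of k))}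

/-- The open subscheme as an object over the base. -/
abbrev opObj (U : Y.left.Opens) : Over (Spec (CommRingCat.of k)) := Over.mk (U.ι ≫ Y.hom)

/-- Its inclusion. -/
abbrev opIncl (U : Y.left.Opens) : opObj U ⟶ Y := Over.homMk U.ι rfl

theorem isPullback_whisker {T : Over (Spec (CommRingCat.of k))} (t : T ⟶ Y) :
    IsPullback (X ◁ t).left (snd X T).left (snd X Y).left t.left :=
  Groth.Agent.FinHom.isPullback_whiskerLeft X t

/-- The points of a product coming from a morphism to the second factor. -/
theorem mem_range_whisker {T : Over (Spec (CommRingCat.of k))} (t : T ⟶ Y) (w : ↥(X ⊗ Y).left) :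
    w ∈ Set.range (X ◁ t).left ↔ (snd X Y).left w ∈ Set.range t.left := by
  have sq := isPullback_whisker (X := X) t
  have hsurj : Function.Surjective sq.isoPullback.hom := sq.isoPullback.hom.surjective
  rw [← sq.isoPullback_hom_fst, Scheme.Hom.comp_base, TopCat.coe_comp, Set.range_comp, hsurj.range_eq,
    Set.image_univ, Scheme.Pullback.range_fst]
  rfl

/-- Near a point over which two morphisms agree on all infinitesimal neighbourhoods, they agree. -/
theorem exists_nhds [IsLocallyNoetherian Y.left] [IsSeparated Z.hom] (f g : X ⊗ Y ⟶ Z) (y : Y.left)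
    (H : ∀ (C : Type u) [CommRing C] [Algebra k C] (t : sp k C ⟶ Y), (∀ z, t.left z = y) →
      (X ◁ t) ≫ f = (X ◁ t) ≫ g) :
    ∃ U : Y.left.Opens, y ∈ U ∧ (X ◁ opIncl U) ≫ f = (X ◁ opIncl U) ≫ g := by
  obtain ⟨V, hV, hyV, -⟩ := exists_isAffineOpen_mem_and_subset (X := Y.left) (x := y) (U := ⊤) trivial
  let B := (Γ(Y.left, V) : Type u)
  obtain ⟨φ, hφ⟩ := Spec.map_surjective (hV.fromSpec ≫ Y.hom)
  letI : Algebra k B := φ.hom.toAlgebra
  haveI : IsNoetherianRing B := IsLocallyNoetherian.component_noetherian ⟨V, hV⟩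
  let yB : sp k B ⟶ Y := Over.homMk hV.fromSpec hφ.symm
  let p : Ideal B := (hV.primeIdealOf ⟨y, hyV⟩).asIdeal
  haveI : p.IsPrime := (hV.primeIdealOf ⟨y, hyV⟩).isPrime
  obtain ⟨s, hsp, hs⟩ := exists_kill B p
  let ψ : B →ₐ[k] Localization.Away s := IsScalarTower.toAlgHom k B (Localization.Away s)
  let q : sp k (Localization.Away s) ⟶ Y := pt ψ ≫ yB
  haveI : IsOpenImmersion (pt ψ).left :=
    IsOpenImmersion.of_isLocalization (S := Localization.Away s) s
  haveI : IsOpenImmersion yB.left := inferInstanceAs (IsOpenImmersion hV.fromSpec)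
  haveI : IsOpenImmersion q.left := by rw [Over.comp_left]; infer_instance
  have hy : y ∈ Set.range q.left := by
    have hmem : (hV.primeIdealOf ⟨y, hyV⟩ : PrimeSpectrum B) ∈
        Set.range (PrimeSpectrum.comap (algebraMap B (Localization.Away s))) := by
      rw [PrimeSpectrum.localization_away_comap_range (Localization.Away s) s]
      exact hsp
    obtain ⟨z, hz⟩ := hmem
    exact ⟨z, (congrArg hV.fromSpec hz).trans (hV.fromSpec_primeIdealOf ⟨y, hyV⟩)⟩
  -- agreement on the affine neighbourhood
  have key : (X ◁ q) ≫ f = (X ◁ q) ≫ g := by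
    refine Over.OverMorphism.ext (Scheme.Cover.hom_ext
      (X.left.affineCover.pullback₁ (fst X (sp k (Localization.Away s))).left) _ _ fun i => ?_)
    let A := ((X.left.affineOpenCover.X i : CommRingCat) : Type u)
    obtain ⟨χ, hχ⟩ := Spec.map_surjective (X.left.affineOpenCover.f i ≫ X.hom)
    letI : Algebra k A := χ.hom.toAlgebra
    let xA : sp k A ⟶ X := Over.homMk (X.left.affineOpenCover.f i) hχ.symm
    have h2 : (xA ⊗ₘ q) ≫ f = (xA ⊗ₘ q) ≫ g := by
      have e : xA ⊗ₘ q = (sp k A ◁ pt ψ) ≫ (xA ⊗ₘ yB) := by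
        rw [← id_tensorHom, tensorHom_comp_tensorHom, Category.id_comp]
      rw [e, Category.assoc, Category.assoc]
      refine eq_near A B p _ _ (fun n => ?_) s hs
      let c := (Ideal.Quotient.mkₐ k (IsLocalRing.maximalIdeal (Localization.AtPrime p) ^ n)).comp
        (IsScalarTower.toAlgHom k B (Localization.AtPrime p))
      have e' : (sp k A ◁ pt c) ≫ (xA ⊗ₘ yB) = (xA ▷ _) ≫ (X ◁ (pt c ≫ yB)) := by
        rw [← id_tensorHom, ← tensorHom_id, ← id_tensorHom, tensorHom_comp_tensorHom, tensorHom_comp_tensorHom]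
        simp
      rw [← Category.assoc, ← Category.assoc, e', Category.assoc, Category.assoc, H _ (pt c ≫ yB) fun z => ?_]
      have hz : (pt c).left z = hV.primeIdealOf ⟨y, hyV⟩ := by
        refine PrimeSpectrum.ext ?_
        let z' : PrimeSpectrum (Localization.AtPrime p ⧸ IsLocalRing.maximalIdeal (Localization.AtPrime p) ^ n) := z
        let P : Ideal (Localization.AtPrime p) :=
          Ideal.comap (Ideal.Quotient.mk (IsLocalRing.maximalIdeal (Localization.AtPrime p) ^ n)) z'.asIdeal
        haveI hP : P.IsPrime := Ideal.IsPrime.comap _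
        have hle : IsLocalRing.maximalIdeal (Localization.AtPrime p) ≤ P := by
          refine (Ideal.IsPrime.pow_le_iff (n := n) ?_).1 ?_
          · rintro rfl
            haveI : Subsingleton (Localization.AtPrime p ⧸ IsLocalRing.maximalIdeal (Localization.AtPrime p) ^ 0) :=
              Ideal.Quotient.subsingleton_iff.2 (by rw [pow_zero, Ideal.one_eq_top])
            exact z'.isPrime.ne_top (Subsingleton.elim _ _)
          · intro a ha
            show Ideal.Quotient.mk (IsLocalRing.maximalIdeal (Localization.AtPrime p) ^ n) a ∈ z'.asIdeal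
            rw [Ideal.Quotient.eq_zero_iff_mem.2 ha]; exact Ideal.zero_mem _
        show Ideal.comap (algebraMap B (Localization.AtPrime p)) P = p
        rw [← (IsLocalRing.maximalIdeal.isMaximal (Localization.AtPrime p)).eq_of_le hP.ne_top hle]
        exact Localization.AtPrime.comap_maximalIdeal
      exact (congrArg hV.fromSpec hz).trans (hV.fromSpec_primeIdealOf ⟨y, hyV⟩)
    let c₀ := (X.left.affineCover.pullback₁ (fst X (sp k (Localization.Away s))).left).f i
    let P : Over (Spec (CommRingCat.of k)) := Over.mk (c₀ ≫ (X ⊗ sp k (Localization.Away s)).hom)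
    let c : P ⟶ X ⊗ sp k (Localization.Away s) := Over.homMk c₀ rfl
    let d : P ⟶ sp k A := Over.homMk (pullback.snd (fst X (sp k (Localization.Away s))).left _) (by
      show pullback.snd _ _ ≫ Spec.map (CommRingCat.ofHom (algebraMap k A)) = _
      rw [show CommRingCat.ofHom (algebraMap k A) = χ from rfl, hχ]
      show _ = c₀ ≫ (X ⊗ sp k (Localization.Away s)).hom
      rw [← Over.w (fst X (sp k (Localization.Away s))), ← Category.assoc c₀]
      exact congrArg (· ≫ X.hom) pullback.condition.symm)
    have ec : c ≫ (X ◁ q) = lift d (c ≫ snd _ _) ≫ (xA ⊗ₘ q) := by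
      refine CartesianMonoidalCategory.hom_ext _ _ ?_ ?_
      · rw [Category.assoc, Category.assoc, whiskerLeft_fst, tensorHom_fst, lift_fst_assoc]
        exact Over.OverMorphism.ext pullback.condition
      · rw [Category.assoc, Category.assoc, whiskerLeft_snd, tensorHom_snd, lift_snd_assoc, Category.assoc]
    have := congrArg (fun e => (lift d (c ≫ snd _ _) ≫ e).left) h2
    simp only [← Category.assoc, ← ec] at this
    simp only [Over.comp_left, Category.assoc] at this
    exact this
  refine ⟨q.left.opensRange, hy, ?_⟩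
  let l : opObj q.left.opensRange ⟶ sp k (Localization.Away s) :=
    Over.homMk (IsOpenImmersion.lift q.left q.left.opensRange.ι (Scheme.Opens.range_ι _).le) (by
      show _ = q.left.opensRange.ι ≫ Y.hom
      rw [← Over.w q, IsOpenImmersion.lift_fac_assoc])
  have hl : l ≫ q = opIncl q.left.opensRange := Over.OverMorphism.ext (IsOpenImmersion.lift_fac _ _ _)
  rw [← hl, whiskerLeft_comp, Category.assoc, Category.assoc, key]

variable [QuasiCompact X.hom] [QuasiSeparated X.hom] [IsΓIso (toUnit X)]

/-- A morphism constant on the points over an infinitesimal neighbourhood is constant on it. -/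
theorem eq_on_thick (x₀ : 𝟙_ _ ⟶ X) (f : X ⊗ Y ⟶ Z) (h : Y ⟶ Z) (hh : h = lift (toUnit Y ≫ x₀) (𝟙 Y) ≫ f)
    (y : Y.left) (hy : ∀ w : ↥(X ⊗ Y).left, (snd X Y).left w = y → f.left w = h.left y)
    {T : Over (Spec (CommRingCat.of k))} [IsAffine T.left] (t : T ⟶ Y) (ht : ∀ z, t.left z = y) :
    (X ◁ t) ≫ f = (X ◁ t) ≫ snd X Y ≫ h := by
  obtain ⟨W, hW, hyW, -⟩ := exists_isAffineOpen_mem_and_subset (X := Z.left) (x := h.left y) (U := ⊤) trivial
  haveI : IsAffine (opObj W).left := hW
  have hr : Set.range ((X ◁ t) ≫ f).left ⊆ Set.range W.ι := by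
    rintro _ ⟨v, rfl⟩
    rw [Scheme.Opens.range_ι]
    show f.left ((X ◁ t).left v) ∈ W
    obtain ⟨z, hz⟩ := (mem_range_whisker t _).1 ⟨v, rfl⟩
    rw [hy _ (hz.symm.trans (ht z))]
    exact hyW
  let F : X ⊗ T ⟶ opObj W := Over.homMk (IsOpenImmersion.lift W.ι ((X ◁ t) ≫ f).left hr) (by
    show _ ≫ W.ι ≫ Z.hom = _
    rw [IsOpenImmersion.lift_fac_assoc, Over.w])
  have hF : F ≫ opIncl W = (X ◁ t) ≫ f := Over.OverMorphism.ext (IsOpenImmersion.lift_fac _ _ _)
  haveI := isΓIso_snd X T
  rw [← hF, ← fac (snd X T) F, Category.assoc, whiskerLeft_snd_assoc, hh]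
  congr 1
  have := congrArg (fun m => lift (toUnit T ≫ x₀) (𝟙 T) ≫ m) hF
  rw [← fac (snd X T) F, Category.assoc, lift_snd_assoc, Category.id_comp] at this
  rw [this, ← Category.assoc, ← Category.assoc t, lift_whiskerLeft, comp_lift, Category.id_comp, Category.comp_id,
    ← Category.assoc t, toUnit_unique (t ≫ toUnit Y) (toUnit T)]

/-- **Rigidity**: a morphism from a product with an anti-affine factor which is constant along one fibre of the
projection to the other factor factors through that projection. -/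
theorem rigidity [IsLocallyNoetherian Y.left] [PreconnectedSpace Y.left] [IsSeparated Z.hom]
    (x₀ : 𝟙_ _ ⟶ X) (f : X ⊗ Y ⟶ Z) (h : Y ⟶ Z) (hh : h = lift (toUnit Y ≫ x₀) (𝟙 Y) ≫ f) (y₀ : Y.left)
    (hy₀ : ∀ w : ↥(X ⊗ Y).left, (snd X Y).left w = y₀ → f.left w = h.left y₀) : f = snd X Y ≫ h := by
  let O : Set Y.left := {y | ∃ U : Y.left.Opens, y ∈ U ∧ (X ◁ opIncl U) ≫ f = (X ◁ opIncl U) ≫ snd X Y ≫ h}
  have hnear : ∀ y : Y.left, (∀ w : ↥(X ⊗ Y).left, (snd X Y).left w = y → f.left w = h.left y) → y ∈ O :=
    fun y hy => exists_nhds f (snd X Y ≫ h) y fun C _ _ t ht =>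
      haveI : IsAffine (sp k C).left := inferInstanceAs (IsAffine (Spec (CommRingCat.of C)))
      eq_on_thick x₀ f h hh y hy t ht
  have hopen : IsOpen O := isOpen_iff_forall_mem_open.2 fun y ⟨U, hyU, hU⟩ =>
    ⟨U, fun z hz => ⟨U, hz, hU⟩, U.2, hyU⟩
  have hclosed : IsClosed O := by
    refine isClosed_of_closure_subset fun y hy => hnear y fun w hw => ?_
    let c : (X ⊗ Y).left ⟶ pullback Z.hom Z.hom :=
      pullback.lift f.left (snd X Y ≫ h).left ((Over.w f).trans (Over.w (snd X Y ≫ h)).symm)
    haveI : IsClosedImmersion (pullback.snd (pullback.diagonal Z.hom) c) :=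
      MorphismProperty.pullback_snd _ _ inferInstance
    have hE : (snd X Y).left ⁻¹' O ⊆ Set.range (pullback.snd (pullback.diagonal Z.hom) c) := by
      rintro w ⟨U, hwU, hU⟩
      obtain ⟨v, rfl⟩ := (mem_range_whisker (opIncl U) w).2 ((Scheme.Opens.range_ι U).ge hwU)
      refine ⟨pullback.lift (((X ◁ opIncl U) ≫ f).left) (X ◁ opIncl U).left ?_ v, ?_⟩
      · refine pullback.hom_ext ?_ ?_
        · simp [c]
        · simp only [c, Category.assoc, pullback.lift_snd, pullback.diagonal_snd, Category.comp_id]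
          rw [← Over.comp_left, hU]
      · rw [← Scheme.Hom.comp_apply, pullback.lift_snd]
    have hopm : IsOpenMap (snd X Y).left := by
      haveI : UniversallyOpen X.hom := Groth.Agent.GrpField.universallyOpen_field _
      haveI : UniversallyOpen (pullback.snd X.hom Y.hom) := MorphismProperty.pullback_snd _ _ inferInstance
      exact (pullback.snd X.hom Y.hom).isOpenMap
    have hw' : w ∈ closure ((snd X Y).left ⁻¹' O) := hopm.preimage_closure_subset_closure_preimage (show (snd X Y).left w ∈ closure O by rw [hw]; exact hy)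
    obtain ⟨v, hv⟩ := closure_minimal hE (pullback.snd (pullback.diagonal Z.hom) c).isClosedEmbedding.isClosed_range hw'
    have e := pullback.condition (f := pullback.diagonal Z.hom) (g := c)
    have e1 := congrArg (fun m => (m ≫ pullback.fst Z.hom Z.hom) v) e
    have e2 := congrArg (fun m => (m ≫ pullback.snd Z.hom Z.hom) v) e
    simp only [c, Category.assoc, pullback.lift_fst, pullback.lift_snd, pullback.diagonal_fst, pullback.diagonal_snd,
      Category.comp_id, Scheme.Hom.comp_apply, hv] at e1 e2
    rw [← e1, e2, Over.comp_left, Scheme.Hom.comp_apply, hw]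
  have huniv : O = Set.univ := IsClopen.eq_univ ⟨hclosed, hopen⟩ ⟨y₀, hnear y₀ hy₀⟩
  choose U hyU hU using fun y : Y.left => show y ∈ O from huniv ▸ Set.mem_univ y
  refine Over.OverMorphism.ext (Scheme.Cover.hom_ext
    ((Y.left.openCoverOfIsOpenCover U (TopologicalSpace.IsOpenCover.mk (top_le_iff.1 fun y _ =>
      TopologicalSpace.Opens.mem_iSup.2 ⟨y, hyU y⟩))).pullback₁ (snd X Y).left) _ _ fun i => ?_)
  let l := (isPullback_whisker (X := X) (opIncl (U i))).lift (pullback.fst (snd X Y).left (U i).ι)
    (pullback.snd (snd X Y).left (U i).ι) pullback.condition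
  have hl : l ≫ (X ◁ opIncl (U i)).left = pullback.fst (snd X Y).left (U i).ι := IsPullback.lift_fst _ _ _ _
  show pullback.fst (snd X Y).left (U i).ι ≫ _ = pullback.fst (snd X Y).left (U i).ι ≫ _
  rw [← hl, Category.assoc, Category.assoc, ← Over.comp_left, ← Over.comp_left, hU i]

end AntiAffLib
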