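import Groth.Agent.S14589
import Groth.Agent.S3030
import Groth.Agent.S5938
import Groth.Agent.ChevLib.Main
import Groth.Agent.GrpHomLib.FlatImage
import Groth.Agent.AntiAffLib.AffineQuot
import Groth.Agent.AntiAffLib.Kernel
import Groth.Agent.AntiAffLib.RigidGrp
import Groth.Agent.AntiAffLib.Criteria
import Groth.Agent.AntiAffLib.KerSub
import Groth.Agent.AntiAffLib.Descend
import Groth.Agent.GrpFieldLib.KerShear
import Groth.Prelude

/-!
# Quasi-complements of affine subgroups with proper quotient
-/

set_option autoImplicit false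
set_option linter.style.haveILetI false
set_option backward.isDefEq.respectTransparency false

universe u

open CategoryTheory CategoryTheory.Limits MonoidalCategory CartesianMonoidalCategory AlgebraicGeometry
open scoped MonObj

noncomputable section

namespace AntiAffLib

variable {k : Type u} [Field k]

/-- Over every point there are two field valued points with the same image. -/
theorem exists_pair {X Y Z : Over (Spec (CommRingCat.of k))} (a : X ⟶ Z) (b : Y ⟶ Z)
    (hb : Surjective b.left) (x : X.left) :
    ∃ (T : Over (Spec (CommRingCat.of k))) (s : T ⟶ X) (t : T ⟶ Y), x ∈ Set.range s.left ∧ s ≫ a = t ≫ b := by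
  obtain ⟨z, hz, -⟩ := Scheme.exists_preimage_of_isPullback (IsPullback.of_hasPullback a.left b.left) x
    (hb.surj (a.left x)).choose (hb.surj (a.left x)).choose_spec.symm
  let T : Over (Spec (CommRingCat.of k)) :=
    Over.mk ((pullback a.left b.left).fromSpecResidueField z ≫ pullback.fst a.left b.left ≫ X.hom)
  let s : T ⟶ X := Over.homMk ((pullback a.left b.left).fromSpecResidueField z ≫ pullback.fst a.left b.left)
    (Category.assoc _ _ _)
  let t : T ⟶ Y := Over.homMk ((pullback a.left b.left).fromSpecResidueField z ≫ pullback.snd a.left b.left) (by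
    show _ = (pullback a.left b.left).fromSpecResidueField z ≫ pullback.fst a.left b.left ≫ X.hom
    rw [Category.assoc, ← Over.w a, pullback.condition_assoc, Over.w b])
  refine ⟨T, s, t, ⟨IsLocalRing.closedPoint _, ?_⟩, Over.OverMorphism.ext ?_⟩
  · show pullback.fst a.left b.left ((pullback a.left b.left).fromSpecResidueField z _) = x
    rw [Scheme.fromSpecResidueField_apply, hz]
  · simp [s, t, pullback.condition]

/-- The largest anti-affine subgroup. -/
theorem exists_factor_ker (G : Over (Spec (CommRingCat.of k))) [GrpObj G] [LocallyOfFiniteType G.hom]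
    [QuasiCompact G.hom] {M : Over (Spec (CommRingCat.of k))} [GrpObj M] (j : M ⟶ G) [IsMonHom j]
    (hM : IsΓIso (toUnit M)) : ∃ l : M ⟶ ker G, l ≫ kerIncl G = j := by
  haveI := hM
  refine exists_lift G j (comp_eq_one _ ?_)
  rw [IsMonHom.one_hom]

/-- The anti-affine part of a connected proper group fills it up. -/
theorem surjective_kerIncl_of_proper (A : Over (Spec (CommRingCat.of k))) [GrpObj A] [IsProper A.hom]
    [ConnectedSpace A.left] : Surjective (kerIncl A).left := by
  haveI : Surjective (toHull A).left := surjective_toHull A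
  haveI : ConnectedSpace (hull A).left :=
    (toHull A).left.surjective.connectedSpace (toHull A).left.continuous
  haveI : UniversallyClosed (hull A).hom := by
    haveI : UniversallyClosed ((toHull A).left ≫ (hull A).hom) := by rw [Over.w (toHull A)]; infer_instance
    exact UniversallyClosed.of_comp_surjective (toHull A).left (hull A).hom
  haveI : IsAffineHom (hull A).hom := isAffineHom_of_isAffine _
  haveI : LocallyOfFiniteType (hull A).hom := lft_hull A
  haveI : IsIntegralHom (hull A).hom := IsIntegralHom.iff_universallyClosed_and_isAffineHom.2 ⟨inferInstance, inferInstance⟩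
  haveI : IsFinite (hull A).hom := (IsFinite.iff_isIntegralHom_and_locallyOfFiniteType _).2 ⟨inferInstance, inferInstance⟩
  haveI : Subsingleton ↥(Spec (CommRingCat.of k)) := inferInstanceAs (Subsingleton (PrimeSpectrum k))
  haveI : Finite (hull A).left := by
    refine Set.finite_univ_iff.1 (((hull A).hom.finite_preimage_singleton (IsLocalRing.closedPoint k)).subset fun z _ => ?_)
    exact Subsingleton.elim _ _
  haveI : JacobsonSpace (hull A).left := LocallyOfFiniteType.jacobsonSpace (hull A).hom
  haveI : DiscreteTopology (hull A).left := inferInstance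
  haveI : Subsingleton (hull A).left := PreconnectedSpace.trivial_of_discrete
  refine ⟨fun x => ?_⟩
  obtain ⟨z, hz, -⟩ := Scheme.exists_preimage_of_isPullback
    ((IsPullback.of_hasPullback (toHull A) (η[hull A] : 𝟙_ (Over (Spec (CommRingCat.of k))) ⟶ hull A)).map (Over.forget _))
    x (IsLocalRing.closedPoint k) (Subsingleton.elim (α := (hull A).left) _ _)
  exact ⟨z, hz⟩

/-- The anti-affine part maps onto a proper connected quotient. -/
theorem surjective_kerIncl_comp {G A : Over (Spec (CommRingCat.of k))} [GrpObj G] [LocallyOfFiniteType G.hom]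
    [QuasiCompact G.hom] [GrpObj A] [IsProper A.hom] [ConnectedSpace A.left] (q : G ⟶ A) [IsMonHom q]
    [Surjective q.left] [Flat q.left] : Surjective (kerIncl G ≫ q).left := by
  obtain ⟨N, _, i, _, _, hk, hn⟩ := exists_kernel q
  have h := Groth.Agent.S14589.result k G N i hn A q hk (ker G) (kerIncl G) ((bijective_iff _).2 (antiAff_ker G))
    (fun M₁ _ _ _ j₁ _ _ h₁ => exists_factor_ker G j₁ ((bijective_iff _).1 h₁))
    (ker A) (kerIncl A) ((bijective_iff _).2 (antiAff_ker A))
    (fun M₁ _ _ _ j₁ _ _ h₁ => exists_factor_ker A j₁ ((bijective_iff _).1 h₁))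
  haveI := surjective_kerIncl_of_proper A
  exact ⟨fun a => by
    obtain ⟨x, hx⟩ : a ∈ Set.range (kerIncl A).left := (kerIncl A).left.surjective a
    have : a ∈ Set.range (kerIncl G ≫ q).left := h ▸ ⟨x, hx⟩
    exact this⟩

variable {G : Over (Spec (CommRingCat.of k))} [GrpObj G] [LocallyOfFiniteType G.hom] [QuasiCompact G.hom]
  {N : Over (Spec (CommRingCat.of k))} [GrpObj N] (i : N ⟶ G) [IsMonHom i]
  {A : Over (Spec (CommRingCat.of k))} [GrpObj A] (q : G ⟶ A) [IsMonHom q]

/-- A subgroup onto the quotient and the kernel generate. -/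
theorem surjective_mul (hq : AlgGrp.IsKernel i q) {M : Over (Spec (CommRingCat.of k))} [GrpObj M] (j : M ⟶ G)
    (hs : Surjective (j ≫ q).left) : Surjective ((i ⊗ₘ j) ≫ μ[G]).left := by
  refine ⟨fun g => ?_⟩
  obtain ⟨T, s, t, ⟨p, hp⟩, e⟩ := exists_pair q (j ≫ q) hs g
  obtain ⟨l, hl⟩ := exists_lift_kernel hq (s * (t ≫ j)⁻¹) (by
    rw [MonObj.mul_comp, GrpObj.inv_comp, e, Category.assoc, mul_inv_cancel])
  refine ⟨(lift l t).left p, ?_⟩
  have e2 : lift l t ≫ (i ⊗ₘ j) ≫ μ[G] = s := by
    rw [lift_map_assoc, ← Hom.mul_def, hl, inv_mul_cancel_right]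
  rw [← Scheme.Hom.comp_apply, ← Over.comp_left, e2, hp]

/-- A subgroup generating with an affine kernel of a proper quotient contains the anti-affine groups. -/
theorem exists_factor_of_surjective_mul [ConnectedSpace G.left] [IsClosedImmersion i.left] [IsAffine N.left]
    [IsProper A.hom] [Surjective q.left] [Flat q.left] (hq : AlgGrp.IsKernel i q)
    {H : Over (Spec (CommRingCat.of k))} [GrpObj H] (h : H ⟶ G) [IsMonHom h] [IsClosedImmersion h.left]
    (hH : Surjective ((h ⊗ₘ i) ≫ μ[G]).left)
    {M : Over (Spec (CommRingCat.of k))} [GrpObj M] [LocallyOfFiniteType M.hom] [QuasiCompact M.hom] (j : M ⟶ G)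
    [IsMonHom j] [IsClosedImmersion j.left] [IsΓIso (toUnit M)]
    (hMmax : ∀ (M₁ : Over (Spec (CommRingCat.of k))) [GrpObj M₁] [LocallyOfFiniteType M₁.hom] [QuasiCompact M₁.hom]
      (j₁ : M₁ ⟶ G) [IsMonHom j₁] [IsClosedImmersion j₁.left], IsΓIso (toUnit M₁) → ∃ g : M₁ ⟶ M, g ≫ j = j₁) :
    ∃ g : M ⟶ H, g ≫ h = j := by
  haveI : LocallyOfFiniteType H.hom := by rw [← Over.w h]; infer_instance
  haveI : QuasiCompact H.hom := by rw [← Over.w h]; infer_instance
  haveI : Flat H.hom := Groth.Agent.GrpField.flat_field _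
  haveI : QuasiCompact (h ≫ q).left := by
    haveI : QuasiCompact ((h ≫ q).left ≫ A.hom) := by rw [Over.w (h ≫ q)]; infer_instance
    exact QuasiCompact.of_comp (h ≫ q).left A.hom
  haveI : Surjective (h ≫ q).left := by
    refine ⟨fun a => ?_⟩
    obtain ⟨g, rfl⟩ := q.left.surjective a
    obtain ⟨x, rfl⟩ := ((h ⊗ₘ i) ≫ μ[G]).left.surjective g
    have e : ((h ⊗ₘ i) ≫ μ[G]) ≫ q = fst H N ≫ h ≫ q := by
      rw [show (h ⊗ₘ i) ≫ μ[G] = (fst H N ≫ h) * (snd H N ≫ i) by rw [Hom.mul_def]; exact congrArg (· ≫ μ[G]) (CartesianMonoidalCategory.hom_ext _ _ (by simp) (by simp)),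
        MonObj.mul_comp, Category.assoc, Category.assoc, kernel_comp hq, MonObj.comp_one, _root_.mul_one]
    refine ⟨(fst H N).left x, ?_⟩
    rw [← Scheme.Hom.comp_apply, ← Over.comp_left, ← e, Over.comp_left, Scheme.Hom.comp_apply]
  haveI : ConnectedSpace A.left := q.left.surjective.connectedSpace q.left.continuous
  obtain ⟨C, _, p, c, _, _, hpc, hpf, hps, hpl, hc⟩ :=
    Groth.Agent.GrpHom.exists_fppf_image (h ≫ q) (Groth.Agent.GrpField.flat_field _)
  haveI := hc; haveI := hpf; haveI := hps; haveI := hpl
  haveI : IsProper C.hom := by rw [← Over.w c]; infer_instance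
  haveI : Surjective c.left := by
    haveI : Surjective (p.left ≫ c.left) := by rw [← Over.comp_left, hpc]; infer_instance
    exact Surjective.of_comp p.left c.left
  haveI : ConnectedSpace C.left := by
    let e := Equiv.ofBijective c.left ⟨c.left.isClosedEmbedding.injective, c.left.surjective⟩
    exact e.symm.surjective.connectedSpace (f := e.symm) (by
      refine continuous_iff_isClosed.2 fun s hs => ?_
      rw [← e.image_eq_preimage_symm]
      exact c.left.isClosedEmbedding.isClosedMap s hs)
  haveI : IsClosedImmersion (kerIncl H ≫ h).left := by rw [Over.comp_left]; infer_instance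
  obtain ⟨m, hm⟩ := hMmax (ker H) (kerIncl H ≫ h) (antiAff_ker H)
  haveI : Mono j := Over.mono_of_mono_left j
  haveI : IsMonHom (m ≫ j) := by rw [hm]; infer_instance
  haveI : IsMonHom m := Groth.Agent.DiagRep.isMonHom_of_comp_mono m j
  haveI : IsClosedImmersion m.left := by
    haveI : IsClosedImmersion (m.left ≫ j.left) := by rw [← Over.comp_left, hm]; infer_instance
    exact IsClosedImmersion.of_comp m.left j.left
  haveI : Mono m := Over.mono_of_mono_left m
  haveI := isCommMonObj_of_antiAff M
  have hn : AlgGrp.IsNormalHom m := fun T g n => ⟨n, by rw [mul_comm g, mul_inv_cancel_right]⟩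
  haveI : Flat (ker H).hom := Groth.Agent.GrpField.flat_field _
  haveI : Flat M.hom := Groth.Agent.GrpField.flat_field _
  obtain ⟨P, _, π, _, hπf, hπs, hπl, hπk, hPsep, -, -⟩ := Groth.Agent.S3030.result k (ker H) M m hn
  haveI := hπf; haveI := hπs; haveI := hπl; haveI := hPsep
  haveI : IsΓIso (toUnit P) := antiAff_of_fppf π η[M]
  haveI : CompactSpace M.left := QuasiCompact.compactSpace_of_compactSpace M.hom
  haveI : CompactSpace P.left := ⟨by
    rw [← Set.range_eq_univ.mpr π.left.surjective]; exact isCompact_range π.left.continuous⟩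
  haveI : QuasiCompact P.hom := quasiCompact_of_compactSpace _
  haveI : LocallyOfFiniteType (π.left ≫ P.hom) := by rw [Over.w π]; infer_instance
  haveI : LocallyOfFiniteType P.hom := Groth.Agent.S5938.result π.left P.hom
  obtain ⟨E, _, e, _, he, hek, -⟩ := exists_kernel (j ≫ q)
  haveI := he
  haveI : Mono i := Over.mono_of_mono_left i
  obtain ⟨f, hf⟩ := exists_lift_kernel hq (e ≫ j) (by rw [Category.assoc]; exact kernel_comp hek)
  haveI : IsClosedImmersion f.left := by
    haveI : IsClosedImmersion (f.left ≫ i.left) := by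
      rw [← Over.comp_left, hf, Over.comp_left]; infer_instance
    exact IsClosedImmersion.of_comp f.left i.left
  haveI : IsAffine E.left := by
    haveI : IsAffineHom f.left := inferInstance
    exact isAffine_of_isAffineHom f.left
  haveI : LocallyOfFiniteType E.hom := by rw [← Over.w e]; infer_instance
  haveI : CompactSpace E.left := inferInstance
  haveI : QuasiCompact E.hom := quasiCompact_of_compactSpace _
  haveI : Flat E.hom := Groth.Agent.GrpField.flat_field _
  haveI : QuasiCompact (e ≫ π).left := by
    haveI : QuasiCompact ((e ≫ π).left ≫ P.hom) := by rw [Over.w (e ≫ π)]; infer_instance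
    exact QuasiCompact.of_comp (e ≫ π).left P.hom
  have hsH : Surjective (kerIncl H ≫ p).left := surjective_kerIncl_comp p
  have hsA : Surjective (m ≫ j ≫ q).left := by
    rw [← Category.assoc, hm, Category.assoc, ← hpc, ← Category.assoc, Over.comp_left]
    haveI := hsH
    infer_instance
  haveI : Surjective (e ≫ π).left := by
    refine ⟨fun z => ?_⟩
    obtain ⟨x, rfl⟩ := π.left.surjective z
    obtain ⟨T, s, t, ⟨o, ho⟩, est⟩ := exists_pair (j ≫ q) (m ≫ j ≫ q) hsA x
    obtain ⟨l, hl⟩ := exists_lift_kernel hek (s * (t ≫ m)⁻¹) (by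
      rw [MonObj.mul_comp, GrpObj.inv_comp, est, Category.assoc t m, mul_inv_cancel])
    refine ⟨l.left o, ?_⟩
    have e2 : l ≫ e ≫ π = s ≫ π := by
      rw [← Category.assoc, hl, MonObj.mul_comp, GrpObj.inv_comp, Category.assoc t m, kernel_comp hπk,
        MonObj.comp_one, inv_one, _root_.mul_one]
    rw [← Scheme.Hom.comp_apply, ← Over.comp_left, e2, Over.comp_left, Scheme.Hom.comp_apply, ho]
  obtain ⟨D, _, r, d, _, _, hrd, hrf, hrs, hrl, hd⟩ :=
    Groth.Agent.GrpHom.exists_fppf_image (e ≫ π) (Groth.Agent.GrpField.flat_field _)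
  haveI := hd; haveI := hrf; haveI := hrs
  haveI : LocallyOfFiniteType D.hom := by rw [← Over.w d]; infer_instance
  haveI : IsAffine D.left := isAffine_of_surjective_hom r
  haveI : Surjective d.left := by
    haveI : Surjective (r.left ≫ d.left) := by rw [← Over.comp_left, hrd]; infer_instance
    exact Surjective.of_comp r.left d.left
  haveI : IsAffine P.left := ChevLib.isAffine_of_surjective_universallyClosed d.left
  have h1 : 𝟙 P = 1 := comp_eq_one (𝟙 P) (Category.comp_id _)
  have h2 : π = 1 := by rw [← Category.comp_id π, h1, MonObj.comp_one]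
  obtain ⟨l, hl⟩ := exists_lift_kernel hπk (𝟙 M) (by rw [Category.id_comp, h2])
  exact ⟨l ≫ kerIncl H, by rw [Category.assoc, ← hm, ← Category.assoc, hl, Category.id_comp]⟩

end AntiAffLib
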